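import Cfsg.Agent.Lib.Co2Type.Local.Exist.Data
import Cfsg.Agent.Lib.Co2Type.Code.Roots.Ord
import Cfsg.Agent.Lib.Co2Type.End.Classify
import Mathlib.GroupTheory.Subgroup.Centralizer

/-!
The conjugates of the involution in the centraliser are all the roots: one class alone gives a pair, or a
triangle, with two different counts of further conjugates.
-/

set_option autoImplicit false
set_option maxRecDepth 100000

namespace Cfsg.Agent.Co2Type.Local

open Code

namespace Exist

/-- The index is that of the involution or lies in the range of a class. -/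
noncomputable def inS (lo hi i : ℕ) : Bool := Nat.beq i 0 || (Nat.ble lo i && Nat.ble i hi)

/-- Two indices commute. -/
noncomputable def commI (i j : ℕ) : Bool :=
  Roots.beqC (mulC (Roots.rootC i) (Roots.rootC j)) (mulC (Roots.rootC j) (Roots.rootC i))

/-- The product of three indices is a fourth. -/
noncomputable def prodI (c a b k : ℕ) : Bool :=
  Roots.beqC (mulC (Roots.rootC c) (mulC (Roots.rootC a) (Roots.rootC b))) (Roots.rootC k)

/-- A code is listed in a class or is the involution. -/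
noncomputable def memS (lo hi : ℕ) (x : ℕ × List ℕ) : Bool :=
  (List.range 2269).any fun k => inS lo hi k && Roots.beqC (Roots.rootC k) x

theorem pairA_ok :
    (Nat.ble 2 pairA && Nat.ble pairA 1008 && commI 1 pairA &&
      (pairAWit.all fun p => inS 1 1008 p.1 && inS 1 1008 p.2 && commI p.1 1 && commI p.1 pairA &&
        prodI p.1 1 pairA p.2) && (pairAWit.map Prod.fst).Nodup && Nat.beq pairAWit.length 3) = true := by
  decide +kernel

theorem pairA_unique : ((List.range 2269).all fun i =>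
    Nat.beq i 0 || Nat.beq i 1 || !(inS 1 1008 i && commI i 1) ||
      !memS 1 1008 (mulC (Roots.rootC i) (mulC (Roots.rootC 0) (Roots.rootC 1)))) = true := by
  decide +kernel

theorem tri_ok : (triWit.all fun p => inS 1009 2268 p.2.1 && inS 1009 2268 p.2.2 && !Nat.beq p.2.1 0 &&
    !Nat.beq p.2.1 1009 && commI p.2.1 1009 && commI p.2.1 p.1 && prodI p.2.1 0 1009 p.2.2) = true := by
  decide +kernel

theorem tri_complete : ((List.range 2269).all fun i =>
    Nat.beq i 0 || Nat.beq i 1009 || !(inS 1009 2268 i && commI i 1009) ||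
      triWit.any fun p => Nat.beq p.1 i) = true := by
  decide +kernel

theorem triBad_ok : (Nat.ble 1010 triBad && Nat.ble triBad 2268 && commI 1009 triBad &&
    (List.range 2269).all fun i => Nat.beq i 1009 || Nat.beq i triBad ||
      !(inS 1009 2268 i && commI i 1009 && commI i triBad) ||
        !memS 1009 2268 (mulC (Roots.rootC i) (mulC (Roots.rootC 1009) (Roots.rootC triBad)))) = true := by
  decide +kernel

theorem beqC_self (x : ℕ × List ℕ) : Roots.beqC x x = true := by
  have h : ∀ l : List ℕ, Roots.beqL l l = true := fun l => by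
    induction l with
    | nil => rfl
    | cons a l ih =>
      show (Nat.beq a a && Roots.beqL l l) = true
      rw [Nat.beq_refl, ih]
      rfl
  rw [Roots.beqC, Nat.beq_refl, h]
  rfl

theorem comm_of_commI {i j : ℕ} {x y : C0} (hx : code x = Roots.rootC i) (hy : code y = Roots.rootC j)
    (h : commI i j = true) : x * y = y * x :=
  code_injective (by rw [code_mul, code_mul, hx, hy]; exact Roots.beqC_eq h)

theorem commI_of_comm {i j : ℕ} {x y : C0} (hx : code x = Roots.rootC i) (hy : code y = Roots.rootC j)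
    (h : x * y = y * x) : commI i j = true := by
  rw [commI, ← hx, ← hy, ← code_mul, ← code_mul, h]
  exact beqC_self _

theorem memS_of {lo hi k : ℕ} {z : C0} (hk : k < 2269) (hS : inS lo hi k = true) (hz : code z = Roots.rootC k) :
    memS lo hi (code z) = true := by
  rw [memS, List.any_eq_true]
  exact ⟨k, List.mem_range.2 hk, by rw [hS, hz, beqC_self]; rfl⟩

variable {G : Type*} [Group G]

/-- The conjugates in the coordinates are the involution and one class. -/
structure Only (φ : C0 →* G) (cls : C0) (lo hi : ℕ) : Prop where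
  inj : Function.Injective φ
  range_eq : φ.range = Subgroup.centralizer ({φ tau} : Set G)
  omega : ∀ c, (∃ g, g * φ tau * g⁻¹ = φ c) ↔ c = tau ∨ IsConj cls c
  index : ∀ c, IsConj cls c ↔ ∃ i, lo ≤ i ∧ i ≤ hi ∧ code c = Roots.rootC i
  hi_lt : hi < 2269

variable {φ : C0 →* G} {cls : C0} {lo hi : ℕ} (h : Only φ cls lo hi)
include h

theorem Only.exists_index {c : C0} (hc : ∃ g, g * φ tau * g⁻¹ = φ c) :
    ∃ i < 2269, inS lo hi i = true ∧ code c = Roots.rootC i := by
  rcases (h.omega c).1 hc with rfl | hcl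
  · exact ⟨0, by norm_num, by simp [inS], by rw [Code.tau, code_el, Roots.start.1]⟩
  · obtain ⟨i, h1, h2, h3⟩ := (h.index c).1 hcl
    exact ⟨i, h2.trans_lt h.hi_lt, by simp [inS, Nat.ble_eq, h1, h2], h3⟩

theorem Only.root {i : ℕ} {c : C0} (hS : inS lo hi i = true) (hc : code c = Roots.rootC i) :
    ∃ g, g * φ tau * g⁻¹ = φ c := by
  refine (h.omega c).2 ?_
  simp only [inS, Bool.or_eq_true, Bool.and_eq_true, Nat.beq_eq, Nat.ble_eq] at hS
  rcases hS with rfl | ⟨h1, h2⟩
  · exact Or.inl (code_injective (by rw [hc, Code.tau, code_el, Roots.start.1]))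
  · exact Or.inr ((h.index c).2 ⟨i, h1, h2, hc⟩)

theorem Only.exists_code {r : G} (hr : r * φ tau = φ tau * r) : ∃ c, φ c = r := by
  have : r ∈ φ.range := h.range_eq ▸ Subgroup.mem_centralizer_singleton_iff.2 hr
  exact this

/-- Two commuting conjugates are carried to the base pair. -/
theorem Only.normalise {x y : C0} (hx : ∃ g, g * φ tau * g⁻¹ = φ x) (hy : ∃ g, g * φ tau * g⁻¹ = φ y)
    (hne : x ≠ y) (hxy : x * y = y * x) : ∃ m : G, m * φ x * m⁻¹ = φ tau ∧ m * φ y * m⁻¹ = φ cls := by
  obtain ⟨a, ha⟩ := hx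
  obtain ⟨b, hb⟩ := hy
  obtain ⟨d, hd⟩ := h.exists_code (r := a⁻¹ * φ y * a) (by
    calc a⁻¹ * φ y * a * φ tau = a⁻¹ * (φ y * (a * φ tau * a⁻¹)) * a := by group
      _ = a⁻¹ * ((a * φ tau * a⁻¹) * φ y) * a := by rw [ha, ← map_mul, ← map_mul, hxy]
      _ = φ tau * (a⁻¹ * φ y * a) := by group)
  rcases (h.omega d).1 ⟨a⁻¹ * b, by rw [hd, ← hb]; group⟩ with rfl | hcl
  · refine absurd (h.inj ?_) hne
    calc φ x = a * φ tau * a⁻¹ := ha.symm
      _ = φ y := by rw [hd]; group
  · obtain ⟨k, hk⟩ := isConj_iff.1 hcl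
    have hkt : φ k * φ tau = φ tau * φ k :=
      Subgroup.mem_centralizer_singleton_iff.1 (h.range_eq ▸ (⟨k, rfl⟩ : φ k ∈ φ.range))
    refine ⟨(φ k)⁻¹ * a⁻¹, ?_, ?_⟩
    · calc (φ k)⁻¹ * a⁻¹ * φ x * ((φ k)⁻¹ * a⁻¹)⁻¹ = (φ k)⁻¹ * (a⁻¹ * (a * φ tau * a⁻¹) * a) * φ k := by
            rw [ha]; group
        _ = (φ k)⁻¹ * (φ tau * φ k) := by group
        _ = φ tau := by rw [← hkt, inv_mul_cancel_left]
    · calc (φ k)⁻¹ * a⁻¹ * φ y * ((φ k)⁻¹ * a⁻¹)⁻¹ = (φ k)⁻¹ * (a⁻¹ * φ y * a) * φ k := by group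
        _ = (φ k)⁻¹ * φ (k * cls * k⁻¹) * φ k := by rw [← hd, hk]
        _ = φ cls := by rw [map_mul, map_mul, map_inv]; group

omit h in
theorem conj_comm {m : G} {a b : C0} {a' b' : G} (ha : m * φ a * m⁻¹ = a') (hb : m * φ b * m⁻¹ = b')
    (hab : a * b = b * a) : a' * b' = b' * a' := by
  rw [← ha, ← hb]
  calc m * φ a * m⁻¹ * (m * φ b * m⁻¹) = m * φ (a * b) * m⁻¹ := by rw [map_mul]; group
    _ = m * φ (b * a) * m⁻¹ := by rw [hab]
    _ = _ := by rw [map_mul]; group

omit h in
/-- The first class alone is impossible. -/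
theorem not_onlyA (h : Only φ (el rootAW) 1 1008) : False := by
  obtain ⟨x, hx, -, -⟩ := Roots.exists_code 1 (by norm_num)
  have hxe : x = el rootAW := code_injective (by rw [hx, code_el, Roots.start.2.1])
  have hp := pairA_ok
  simp only [Bool.and_eq_true, List.all_eq_true, Nat.beq_eq, Nat.ble_eq, decide_eq_true_eq] at hp
  obtain ⟨⟨⟨⟨⟨h2, h8⟩, hcxy⟩, hw⟩, hnd⟩, hlen⟩ := hp
  obtain ⟨y, hy, -, -⟩ := Roots.exists_code pairA (by omega)
  have hxS := h.root (i := 1) (by decide +kernel) hx
  have hyS := h.root (i := pairA) (by simp [inS, Nat.ble_eq]; omega) hy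
  have hne : x ≠ y := fun e => by
    have := Roots.rootC_inj (i := 1) (i' := pairA) (by norm_num) (by omega) (by rw [← hx, ← hy, e])
    omega
  obtain ⟨m, hm1, hm2⟩ := h.normalise hxS hyS hne (comm_of_commI hx hy hcxy)
  have key : ∀ p ∈ pairAWit, m * φ (Classical.epsilon fun c => code c = Roots.rootC p.1) * m⁻¹ = φ tau ∨
      m * φ (Classical.epsilon fun c => code c = Roots.rootC p.1) * m⁻¹ = φ (el rootAW) := by
    intro p hpm
    obtain ⟨⟨⟨⟨hS, hS'⟩, hc1⟩, hc2⟩, hpr⟩ := hw p hpm
    have hlt : p.1 < 2269 := by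
      simp only [inS, Bool.or_eq_true, Bool.and_eq_true, Nat.beq_eq, Nat.ble_eq] at hS
      omega
    have hlt' : p.2 < 2269 := by
      simp only [inS, Bool.or_eq_true, Bool.and_eq_true, Nat.beq_eq, Nat.ble_eq] at hS'
      omega
    obtain ⟨c0, hc0, -⟩ := Roots.exists_code p.1 hlt
    have hc : code (Classical.epsilon fun c => code c = Roots.rootC p.1) = Roots.rootC p.1 :=
      Classical.epsilon_spec (p := fun c : C0 => code c = Roots.rootC p.1) ⟨c0, hc0⟩
    set c := Classical.epsilon fun c => code c = Roots.rootC p.1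
    obtain ⟨g, hg⟩ := h.root hS hc
    have hct := conj_comm rfl hm1 (comm_of_commI hc hx hc1)
    have hca := conj_comm rfl hm2 (comm_of_commI hc hy hc2)
    obtain ⟨d, hd⟩ := h.exists_code hct
    obtain ⟨i, hi, hiS, hdi⟩ := h.exists_index (c := d) ⟨m * g, by rw [hd, ← hg]; group⟩
    obtain ⟨e, he, -, -⟩ := Roots.exists_code p.2 hlt'
    obtain ⟨g', hg'⟩ := h.root hS' he
    have hce : c * (x * y) = e := code_injective (by
      rw [code_mul, code_mul, hc, hx, hy, he]
      exact Roots.beqC_eq hpr)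
    have hd' : m * φ e * m⁻¹ = φ (d * (tau * el rootAW)) := by
      rw [← hce, map_mul, map_mul, map_mul, map_mul, hd, ← hm1, ← hm2]
      group
    obtain ⟨k, hk, hkS, hki⟩ := h.exists_index (c := d * (tau * el rootAW)) ⟨m * g', by rw [← hd', ← hg']; group⟩
    have hu := List.all_eq_true.1 pairA_unique i (List.mem_range.2 hi)
    have hci : commI i 1 = true := commI_of_comm hdi hx (h.inj (by rw [map_mul, map_mul, hd, hxe]; exact hca))
    have hms : memS 1 1008 (mulC (Roots.rootC i) (mulC (Roots.rootC 0) (Roots.rootC 1))) = true := by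
      have := memS_of hk hkS hki
      rwa [code_mul, code_mul, hdi, Code.tau, code_el, ← Roots.start.1, code_el, ← Roots.start.2.1] at this
    simp only [hiS, hci, hms, Bool.and_self, Bool.not_true, Bool.or_false, Bool.or_eq_true, Nat.beq_eq] at hu
    rcases hu with rfl | rfl
    · exact Or.inl (by rw [← hd, show d = tau from code_injective (by rw [hdi, Code.tau, code_el, Roots.start.1])])
    · exact Or.inr (by rw [← hd, show d = el rootAW from code_injective (by rw [hdi, code_el, Roots.start.2.1])])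
  have hex : ∀ p ∈ pairAWit, code (Classical.epsilon fun c : C0 => code c = Roots.rootC p.1) = Roots.rootC p.1 := by
    intro p hpm
    obtain ⟨⟨⟨⟨hS, -⟩, -⟩, -⟩, -⟩ := hw p hpm
    obtain ⟨c0, hc0, -⟩ := Roots.exists_code p.1 (by
      simp only [inS, Bool.or_eq_true, Bool.and_eq_true, Nat.beq_eq, Nat.ble_eq] at hS
      omega)
    exact Classical.epsilon_spec (p := fun c : C0 => code c = Roots.rootC p.1) ⟨c0, hc0⟩
  match hL : pairAWit, hlen with
  | [p, q, r], _ =>
    rw [hL] at key hex hnd hw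
    have kp := key p (by simp)
    have kq := key q (by simp)
    have kr := key r (by simp)
    have sep : ∀ a ∈ [p, q, r], ∀ b ∈ [p, q, r], ∀ u : G,
        m * φ (Classical.epsilon fun c => code c = Roots.rootC a.1) * m⁻¹ = u →
        m * φ (Classical.epsilon fun c => code c = Roots.rootC b.1) * m⁻¹ = u → a.1 = b.1 := by
      intro a ha b hb u e1 e2
      have h1 := h.inj (mul_left_cancel (mul_right_cancel (e1.trans e2.symm)))
      obtain ⟨⟨⟨⟨hSa, -⟩, -⟩, -⟩, -⟩ := hw a ha
      obtain ⟨⟨⟨⟨hSb, -⟩, -⟩, -⟩, -⟩ := hw b hb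
      simp only [inS, Bool.or_eq_true, Bool.and_eq_true, Nat.beq_eq, Nat.ble_eq] at hSa hSb
      exact Roots.rootC_inj (by omega) (by omega) (by rw [← hex a ha, ← hex b hb, h1])
    simp only [List.map_cons, List.map_nil, List.nodup_cons, List.mem_cons, List.not_mem_nil, or_false, not_or] at hnd
    obtain ⟨⟨npq, npr⟩, nqr, -⟩ := hnd
    rcases kp with kp | kp <;> rcases kq with kq | kq <;> rcases kr with kr | kr <;>
      first
      | exact npq (sep p (by simp) q (by simp) _ kp kq)
      | exact npr (sep p (by simp) r (by simp) _ kp kr)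
      | exact nqr (sep q (by simp) r (by simp) _ kq kr)

omit h in
/-- The second class alone is impossible. -/
theorem not_onlyB (h : Only φ alpha 1009 2268) : False := by
  obtain ⟨x, hx, -, -⟩ := Roots.exists_code 1009 (by norm_num)
  have hxe : x = alpha := code_injective (by rw [hx, Code.alpha, code_el, Roots.start.2.2])
  have hb := triBad_ok
  simp only [Bool.and_eq_true, List.all_eq_true, Nat.ble_eq] at hb
  obtain ⟨⟨⟨hlo, hhi⟩, hcxy⟩, hbad⟩ := hb
  obtain ⟨y, hy, -, -⟩ := Roots.exists_code triBad (by omega)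
  have hxS := h.root (i := 1009) (by decide +kernel) hx
  have hyS := h.root (i := triBad) (by simp [inS, Nat.ble_eq]; omega) hy
  have hne : x ≠ y := fun e => by
    have := Roots.rootC_inj (i := 1009) (i' := triBad) (by norm_num) (by omega) (by rw [← hx, ← hy, e])
    omega
  have hxy := comm_of_commI hx hy hcxy
  obtain ⟨m, hm1, hm2⟩ := h.normalise hxS hyS hne hxy
  have htc : ∀ c : C0, c * tau = tau * c := fun c => h.inj (by
    rw [map_mul, map_mul]
    exact Subgroup.mem_centralizer_singleton_iff.1 (h.range_eq ▸ (⟨c, rfl⟩ : φ c ∈ φ.range)))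
  have htS : ∃ g, g * φ tau * g⁻¹ = φ tau := ⟨1, by group⟩
  -- the image of the involution
  obtain ⟨w, hw⟩ := h.exists_code (r := m * φ tau * m⁻¹) (conj_comm rfl hm1 (htc x).symm)
  obtain ⟨i, hi, hiS, hwi⟩ := h.exists_index (c := w) ⟨m, hw.symm⟩
  have hwa : commI i 1009 = true := commI_of_comm hwi hx (h.inj (by
    rw [map_mul, map_mul, hw, hxe]
    exact conj_comm rfl hm2 (htc y).symm))
  have hi0 : i ≠ 0 := by
    rintro rfl
    have e : w = tau := code_injective (by rw [hwi, Code.tau, code_el, Roots.start.1])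
    have e' : tau = x := h.inj (mul_left_cancel (mul_right_cancel ((hw.symm.trans (by rw [e])).trans hm1.symm)))
    have := Roots.rootC_inj (i := 0) (i' := 1009) (by norm_num) (by norm_num)
      (by rw [← hx, ← e', Code.tau, code_el, Roots.start.1])
    omega
  have hi9 : i ≠ 1009 := by
    rintro rfl
    have e : w = alpha := code_injective (by rw [hwi, Code.alpha, code_el, Roots.start.2.2])
    have e' : tau = y := h.inj (mul_left_cancel (mul_right_cancel ((hw.symm.trans (by rw [e])).trans hm2.symm)))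
    have := Roots.rootC_inj (i := 0) (i' := triBad) (by norm_num) (by omega)
      (by rw [← hy, ← e', Code.tau, code_el, Roots.start.1])
    omega
  have hc := List.all_eq_true.1 tri_complete i (List.mem_range.2 hi)
  simp only [hiS, hwa, Bool.and_self, Bool.not_true, Bool.or_false, Bool.or_eq_true, Nat.beq_eq, hi0, hi9,
    false_or, List.any_eq_true] at hc
  obtain ⟨p, hp, rfl⟩ := hc
  have ht := List.all_eq_true.1 tri_ok p hp
  simp only [Bool.and_eq_true, Bool.not_eq_true', Bool.eq_false_iff, ne_eq, Nat.beq_eq] at ht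
  obtain ⟨⟨⟨⟨⟨⟨hS, hS'⟩, hne0⟩, hne9⟩, hc9⟩, hci⟩, hpr⟩ := ht
  have hlt : p.2.1 < 2269 ∧ p.2.2 < 2269 := by
    simp only [inS, Bool.or_eq_true, Bool.and_eq_true, Nat.beq_eq, Nat.ble_eq] at hS hS'
    omega
  obtain ⟨c, hcc, -⟩ := Roots.exists_code p.2.1 hlt.1
  obtain ⟨e, hee, -⟩ := Roots.exists_code p.2.2 hlt.2
  obtain ⟨g, hg⟩ := h.root hS hcc
  obtain ⟨g', hg'⟩ := h.root hS' hee
  have im1 : m⁻¹ * φ tau * m⁻¹⁻¹ = φ x := by rw [← hm1]; group
  have im2 : m⁻¹ * φ alpha * m⁻¹⁻¹ = φ y := by rw [← hm2]; group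
  have imw : m⁻¹ * φ w * m⁻¹⁻¹ = φ tau := by rw [hw]; group
  obtain ⟨d, hd⟩ := h.exists_code (r := m⁻¹ * φ c * m⁻¹⁻¹) (conj_comm rfl imw (comm_of_commI hcc hwi hci))
  have hdx : d * x = x * d := h.inj (by
    rw [map_mul, map_mul, hd]
    exact conj_comm rfl im1 (htc c))
  have hdy : d * y = y * d := h.inj (by
    rw [map_mul, map_mul, hd]
    exact conj_comm rfl im2 (by rw [← hxe]; exact comm_of_commI hcc hx hc9))
  obtain ⟨j, hj, hjS, hdj⟩ := h.exists_index (c := d) ⟨m⁻¹ * g, by rw [hd, ← hg]; group⟩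
  have hce : c * (tau * alpha) = e := code_injective (by
    rw [code_mul, code_mul, hcc, hee, Code.tau, code_el, ← Roots.start.1, Code.alpha, code_el, ← Roots.start.2.2]
    exact Roots.beqC_eq hpr)
  obtain ⟨k, hk, hkS, hki⟩ := h.exists_index (c := d * (x * y)) ⟨m⁻¹ * g', by
    rw [map_mul, map_mul, hd, ← im1, ← im2, show m⁻¹ * g' * φ tau * (m⁻¹ * g')⁻¹ = m⁻¹ * φ e * m⁻¹⁻¹ by
      rw [← hg']; group, ← hce, map_mul, map_mul]
    group⟩
  have hms : memS 1009 2268 (mulC (Roots.rootC j) (mulC (Roots.rootC 1009) (Roots.rootC triBad))) = true := by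
    have := memS_of hk hkS hki
    rwa [code_mul, code_mul, hdj, hx, hy] at this
  have hu := hbad j (List.mem_range.2 hj)
  simp only [hjS, commI_of_comm hdj hx hdx, commI_of_comm hdj hy hdy, hms, Bool.and_self, Bool.not_true,
    Bool.or_false, Bool.or_eq_true, Nat.beq_eq] at hu
  rcases hu with rfl | rfl
  · have e1 : d = x := code_injective (hdj.trans hx.symm)
    rw [e1, ← im1] at hd
    have e2 : c = tau := (h.inj (mul_left_cancel (mul_right_cancel hd))).symm
    exact hne0 (Roots.rootC_inj hlt.1 (by norm_num) (by rw [← hcc, e2, Code.tau, code_el, Roots.start.1]))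
  · have e1 : d = y := code_injective (hdj.trans hy.symm)
    rw [e1, ← im2] at hd
    have e2 : c = alpha := (h.inj (mul_left_cancel (mul_right_cancel hd))).symm
    exact hne9 (Roots.rootC_inj hlt.1 (by norm_num) (by rw [← hcc, e2, Code.alpha, code_el, Roots.start.2.2]))

end Exist

variable {G : Type*} [Group G] [Finite G]

/-- The conjugates of the involution in the centraliser are exactly the roots. -/
theorem roots_eq (φ : C0 →* G) (hinj : Function.Injective φ)
    (hrange : φ.range = Subgroup.centralizer ({φ tau} : Set G))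
    (hsub : ∀ c, (∃ g, g * φ tau * g⁻¹ = φ c) → Root c)
    (hne : ∃ c, c ≠ tau ∧ ∃ g, g * φ tau * g⁻¹ = φ c) :
    ∀ c, (∃ g, g * φ tau * g⁻¹ = φ c) ↔ Root c := by
  have hconj : ∀ {a b : C0}, IsConj a b → (∃ g, g * φ tau * g⁻¹ = φ a) → ∃ g, g * φ tau * g⁻¹ = φ b := by
    intro a b hab ⟨g, hg⟩
    obtain ⟨k, rfl⟩ := isConj_iff.1 hab
    exact ⟨φ k * g, by rw [map_mul, map_mul, map_inv, ← hg]; group⟩
  by_cases hA : ∃ g, g * φ tau * g⁻¹ = φ (el rootAW) <;> by_cases hB : ∃ g, g * φ tau * g⁻¹ = φ alpha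
  · refine fun c => ⟨hsub c, ?_⟩
    rintro (rfl | h | h)
    exacts [⟨1, by group⟩, hconj h hA, hconj h hB]
  · refine (Exist.not_onlyA ⟨hinj, hrange, fun c => ⟨fun hc => ?_, ?_⟩, fun c => Roots.classA_iff, by norm_num⟩).elim
    · rcases hsub c hc with h | h | h
      exacts [Or.inl h, Or.inr h, absurd (hconj h.symm hc) hB]
    · rintro (rfl | h)
      exacts [⟨1, by group⟩, hconj h hA]
  · refine (Exist.not_onlyB ⟨hinj, hrange, fun c => ⟨fun hc => ?_, ?_⟩, fun c => ?_, by norm_num⟩).elim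
    · rcases hsub c hc with h | h | h
      exacts [Or.inl h, absurd (hconj h.symm hc) hA, Or.inr h]
    · rintro (rfl | h)
      exacts [⟨1, by group⟩, hconj h hB]
    · rw [Roots.classB_iff]
      exact ⟨fun ⟨i, h1, h2, h3⟩ => ⟨i, h1, Nat.lt_succ_iff.1 h2, h3⟩,
        fun ⟨i, h1, h2, h3⟩ => ⟨i, h1, Nat.lt_succ_iff.2 h2, h3⟩⟩
  · obtain ⟨c, hct, hc⟩ := hne
    rcases hsub c hc with h | h | h
    exacts [absurd h hct, absurd (hconj h.symm hc) hA, absurd (hconj h.symm hc) hB]

end Cfsg.Agent.Co2Type.Local
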