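import Cfsg.Agent.Lib.Co2Type.Local.WeakAct

/-!
The weak closure of the involution in the extraspecial group is the involution itself.
-/

set_option autoImplicit false
set_option maxRecDepth 20000
set_option linter.unusedSectionVars false

namespace Cfsg.Agent.Co2Type.Local

open Code End WeakCheck WeakData

variable {G : Type*} [Group G] {t : G} {χ : Q8 →* G} (S : Coo t χ)

/-- The configuration of two elements of the extraspecial group exchanged by an element. -/
structure Swap (t : G) (χ : Q8 →* G) (g : G) : Prop where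
  to_t : g * χ q0 * g⁻¹ = t
  to_a : g * t * g⁻¹ = χ q0

/-- The part of the centraliser sent into the extraspecial group. -/
def rSub (t : G) (χ : Q8 →* G) (g : G) : Subgroup ↥(Subgroup.centralizer ({t} : Set G)) :=
  χ.range.comap ((MulAut.conj g).toMonoidHom.comp (Subgroup.centralizer ({t} : Set G)).subtype)

theorem mem_rSub {g : G} {c : ↥(Subgroup.centralizer ({t} : Set G))} :
    c ∈ rSub t χ g ↔ ∃ v, χ v = g * c.1 * g⁻¹ := Iff.rfl

/-- A vector whose element lies in both extraspecial groups. -/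
def InD (g : G) (v : Q8) : Prop := ∃ h : χ v ∈ Subgroup.centralizer ({t} : Set G), ⟨χ v, h⟩ ∈ rSub t χ g

variable {g : G} (hg : Swap t χ g)

include S hg

theorem chi_q0_sq : χ q0 * χ q0 = 1 := by
  rw [← map_mul, show q0 * q0 = 1 from Q8.ext (by decide +kernel : qmulN 1 1 = 0), map_one]

/-- An element of the centraliser sent into the group commutes with the first coordinate. -/
theorem comm_a {c : ↥(Subgroup.centralizer ({t} : Set G))} (hc : c ∈ rSub t χ g) :
    c.1 * χ q0 = χ q0 * c.1 := by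
  obtain ⟨v, hv⟩ := mem_rSub.1 hc
  have h := Subgroup.mem_centralizer_singleton_iff.1 (S.chi_mem v)
  rw [hv] at h
  have h2 : g * c.1 * g⁻¹ * (g * χ q0 * g⁻¹) = g * χ q0 * g⁻¹ * (g * c.1 * g⁻¹) := by rw [hg.to_t]; exact h
  calc c.1 * χ q0 = g⁻¹ * (g * c.1 * g⁻¹ * (g * χ q0 * g⁻¹)) * g := by group
    _ = χ q0 * c.1 := by rw [h2]; group

/-- The image of such an element commutes with the first coordinate. -/
theorem comm_img {c : ↥(Subgroup.centralizer ({t} : Set G))} {v : Q8} (hv : χ v = g * c.1 * g⁻¹) :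
    v * q0 = q0 * v := by
  refine S.inj ?_
  rw [map_mul, map_mul, hv, ← hg.to_a]
  calc g * c.1 * g⁻¹ * (g * t * g⁻¹) = g * (c.1 * t) * g⁻¹ := by group
    _ = g * t * g⁻¹ * (g * c.1 * g⁻¹) := by rw [Subgroup.mem_centralizer_singleton_iff.1 c.2]; group

/-- Elements sent into the group commute up to the first coordinate. -/
theorem comm_rSub {c d : ↥(Subgroup.centralizer ({t} : Set G))} (hc : c ∈ rSub t χ g) (hd : d ∈ rSub t χ g) :
    c.1 * d.1 * c.1⁻¹ * d.1⁻¹ = 1 ∨ c.1 * d.1 * c.1⁻¹ * d.1⁻¹ = χ q0 := by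
  obtain ⟨v, hv⟩ := mem_rSub.1 hc
  obtain ⟨w, hw⟩ := mem_rSub.1 hd
  have e : g * (c.1 * d.1 * c.1⁻¹ * d.1⁻¹) * g⁻¹ = χ (v * w * v⁻¹ * w⁻¹) := by
    simp only [map_mul, map_inv, hv, hw]; group
  have h0 : lo (v * w * v⁻¹ * w⁻¹) = lo (1 : Q8) := by
    rw [lo_mul, lo_mul, lo_mul, lo_inv, lo_inv, lo_one]
    exact Nat.eq_of_testBit_eq fun i => by simp
  rcases eq_or_of_lo h0.symm with h | h
  · refine Or.inl ?_
    rw [h, map_one] at e
    simpa using e
  · refine Or.inr ?_
    rw [h, one_mul, S.zt_eq] at e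
    exact mul_left_cancel (mul_right_cancel (e.trans hg.to_t.symm))

theorem inD_one : InD (t := t) (χ := χ) g q0 := ⟨S.chi_mem _, mem_rSub.2 ⟨zt, by rw [S.zt_eq]; exact hg.to_t.symm⟩⟩

theorem inD_zt : InD (t := t) (χ := χ) g zt :=
  ⟨S.chi_mem _, mem_rSub.2 ⟨q0, by show χ q0 = g * χ zt * g⁻¹; rw [S.zt_eq]; exact hg.to_a.symm⟩⟩

theorem inD_mul {v w : Q8} (hv : InD (t := t) (χ := χ) g v) (hw : InD (t := t) (χ := χ) g w) :
    InD (t := t) (χ := χ) g (v * w) := by
  obtain ⟨h1, h1'⟩ := hv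
  obtain ⟨h2, h2'⟩ := hw
  refine ⟨S.chi_mem _, ?_⟩
  have e : (⟨χ (v * w), S.chi_mem _⟩ : ↥(Subgroup.centralizer ({t} : Set G))) = ⟨χ v, h1⟩ * ⟨χ w, h2⟩ :=
    Subtype.ext (map_mul χ v w)
  rw [e]
  exact Subgroup.mul_mem _ h1' h2'

theorem inD_lo {v w : Q8} (hv : InD (t := t) (χ := χ) g v) (h : lo v = lo w) : InD (t := t) (χ := χ) g w := by
  rcases eq_or_of_lo h with e | e
  · rw [e]; exact hv
  · rw [e]; exact inD_mul S hg hv (inD_zt S hg)

theorem inD_comm {v w : Q8} (hv : InD (t := t) (χ := χ) g v) (hw : InD (t := t) (χ := χ) g w) (hne : t ≠ χ q0) :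
    v * w = w * v := by
  obtain ⟨h1, h1'⟩ := hv
  obtain ⟨h2, h2'⟩ := hw
  have h0 : lo (v * w * v⁻¹ * w⁻¹) = lo (1 : Q8) := by
    rw [lo_mul, lo_mul, lo_mul, lo_inv, lo_inv, lo_one]
    exact Nat.eq_of_testBit_eq fun i => by simp
  have e : χ (v * w * v⁻¹ * w⁻¹) = χ v * χ w * (χ v)⁻¹ * (χ w)⁻¹ := by simp only [map_mul, map_inv]
  rcases eq_or_of_lo h0.symm with h | h
  · rw [mul_inv_eq_one, mul_inv_eq_iff_eq_mul] at h
    exact h
  · rw [h, one_mul, S.zt_eq] at e
    rcases comm_rSub S hg h1' h2' with e2 | e2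
    · exact absurd (e.trans e2) (fun h' => by
        have : χ zt = χ 1 := by rw [S.zt_eq, map_one, h']
        exact absurd (congrArg Q8.n (S.inj this)) (by decide))
    · exact absurd (e.trans e2) hne

theorem inD_sq {v : Q8} (hv : InD (t := t) (χ := χ) g v) (hne : t ≠ χ q0) : v * v = 1 := by
  obtain ⟨h1, h1'⟩ := hv
  obtain ⟨w, hw⟩ := mem_rSub.1 h1'
  rcases zt_sq_of v with h | h
  · exact h
  exfalso
  have e : g * t * g⁻¹ = χ (w * w) := by
    rw [← S.zt_eq, ← h, map_mul, map_mul, hw]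
    group
  rw [hg.to_a] at e
  rcases zt_sq_of w with h' | h' <;> rw [h'] at e
  · exact absurd (congrArg Q8.n (S.inj e)) (by decide)
  · rw [S.zt_eq] at e
    exact hne e.symm

theorem inD_perp {v : Q8} (hv : InD (t := t) (χ := χ) g v) : lo v < 128 := by
  obtain ⟨h1, h1'⟩ := hv
  have h := comm_a S hg h1'
  rw [← map_mul, ← map_mul] at h
  exact (comm_q0 v.n v.lt).1 (congrArg Q8.n (S.inj h))

/-- The group is normalised by the elements of the centraliser fixing the first coordinate. -/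
theorem conj_rSub {c r : ↥(Subgroup.centralizer ({t} : Set G))} (hc : c.1 * χ q0 * c.1⁻¹ = χ q0)
    (hr : r ∈ rSub t χ g) : c * r * c⁻¹ ∈ rSub t χ g := by
  obtain ⟨v, hv⟩ := mem_rSub.1 hr
  have hc' : g * c.1 * g⁻¹ ∈ Subgroup.centralizer ({t} : Set G) := by
    rw [Subgroup.mem_centralizer_singleton_iff]
    have h : g * c.1 * g⁻¹ * (g * χ q0 * g⁻¹) = g * χ q0 * g⁻¹ * (g * c.1 * g⁻¹) := by
      calc g * c.1 * g⁻¹ * (g * χ q0 * g⁻¹) = g * (c.1 * χ q0 * c.1⁻¹) * c.1 * g⁻¹ := by group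
        _ = g * χ q0 * g⁻¹ * (g * c.1 * g⁻¹) := by rw [hc]; group
    rwa [hg.to_t] at h
  obtain ⟨x, -, -, hx⟩ := S.exists_rel ⟨_, hc'⟩
  refine mem_rSub.2 ⟨conjQ x v, ?_⟩
  rw [← hx v, hv]
  show g * c.1 * g⁻¹ * (g * r.1 * g⁻¹) * (g * c.1 * g⁻¹)⁻¹ = g * (c.1 * r.1 * c.1⁻¹) * g⁻¹
  group

theorem inD_stab {i : ℕ} (hi : i < 232) {v : Q8} (hv : InD (t := t) (χ := χ) g v) :
    ∃ w, InD (t := t) (χ := χ) g w ∧ lo w = wap (stabW i) (lo v) := by
  obtain ⟨h1, h1'⟩ := hv
  obtain ⟨c, -, hc⟩ := S.exists_word (stabW i)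
  refine ⟨conjQ (el (stabW i)) v, ⟨S.chi_mem _, ?_⟩, by rw [conjQ_lo]; exact lo_rw0 _ _⟩
  have e : (⟨χ (conjQ (el (stabW i)) v), S.chi_mem _⟩ : ↥(Subgroup.centralizer ({t} : Set G))) =
      c * ⟨χ v, h1⟩ * c⁻¹ := Subtype.ext (hc v).symm
  rw [e]
  exact conj_rSub S hg (by rw [hc, stab_spec hi]) h1'

/-- The intersection lies over the plane, and is trivial or all of it. -/
theorem inD_plane (hne : t ≠ χ q0) {v : Q8} (hv : InD (t := t) (χ := χ) g v) : inW4 (lo v) = true := by
  have hp := inD_perp S hg hv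
  have h := List.all_eq_true.1 outside_plane (lo v) (List.mem_range.2 hp)
  have hl : lo v < 512 := (lo_lt v).trans (by norm_num)
  have hv' : InD (t := t) (χ := χ) g ⟨lo v, hl⟩ := inD_lo S hg hv (Nat.mod_mod _ _).symm
  have hsq : qmulN (lo v) (lo v) = 0 := congrArg Q8.n (inD_sq S hg hv' hne)
  simp only [Bool.or_eq_true, Bool.not_eq_true', hsq, List.any_eq_true, List.mem_range, Bool.and_eq_true,
    Nat.blt_eq] at h
  have hcomm : ∀ {a b : Q8}, InD (t := t) (χ := χ) g a → InD (t := t) (χ := χ) g b →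
      qmulN (lo a) (lo b) = qmulN (lo b) (lo a) := fun {a b} ha hb => congrArg Q8.n (inD_comm S hg
    (inD_lo S hg ha (w := ⟨lo a, (lo_lt a).trans (by norm_num)⟩) (Nat.mod_mod _ _).symm)
    (inD_lo S hg hb (w := ⟨lo b, (lo_lt b).trans (by norm_num)⟩) (Nat.mod_mod _ _).symm) hne)
  rcases h with ((h | h) | ⟨i, hi, h⟩) | ⟨p, -, ⟨hp1, hp2⟩, h⟩
  · exact h
  · rw [Nat.beq_refl] at h; cases h
  · obtain ⟨w, hw, e⟩ := inD_stab S hg hi hv
    rw [← e, hcomm hv hw, Nat.beq_refl] at h
    cases h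
  · obtain ⟨w, hw, e⟩ := inD_stab S hg hp1 hv
    obtain ⟨w', hw', e'⟩ := inD_stab S hg hp2 hv
    rw [← e, ← e', hcomm hw hw', Nat.beq_refl] at h
    cases h

theorem inD_all (hne : t ≠ χ q0) {v : Q8} (hv : InD (t := t) (χ := χ) g v) (h2 : 2 ≤ lo v) {x : Q8}
    (hx : inW4 (lo x) = true) : InD (t := t) (χ := χ) g x := by
  have hvp := inD_plane S hg hne hv
  have h := List.all_eq_true.1 inside_plane (lo v) ((w4_mem _ (lo_lt v)).1 hvp)
  rw [Bool.or_eq_true, Nat.ble_eq] at h
  have h' := List.all_eq_true.1 (h.resolve_left (by omega)) (lo x) ((w4_mem _ (lo_lt x)).1 hx)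
  rw [Bool.or_eq_true, Nat.ble_eq, List.any_eq_true] at h'
  rcases h' with h' | ⟨i, hi, h'⟩
  · rcases (show lo x = 0 ∨ lo x = 1 by omega) with e | e
    · exact inD_lo S hg (inD_zt S hg) (by rw [e, lo_zt])
    · exact inD_lo S hg (inD_one S hg) (by rw [e]; rfl)
  · obtain ⟨w, hw, e⟩ := inD_stab S hg (List.mem_range.1 hi) hv
    rw [Bool.or_eq_true, Nat.beq_eq, Nat.beq_eq, ← e] at h'
    rcases h' with h' | h'
    · exact inD_lo S hg hw h'
    · refine inD_lo S hg (inD_mul S hg hw (inD_one S hg)) ?_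
      rw [lo_mul, h', show lo q0 = 1 from rfl, Nat.xor_assoc, Nat.xor_self, Nat.xor_zero]

/-- The image of an element sent into the group is trivial modulo the plane on the perpendicular space. -/
theorem rad_pi (hne : t ≠ χ q0) {r : ↥(Subgroup.centralizer ({t} : Set G))} (hr : r ∈ rSub t χ g) :
    Rad (S.pi r) := by
  refine ⟨?_, fun a ha => ?_⟩
  · exact (S.conj_lo r (v := q0) (w := q0) (by rw [comm_a S hg hr, mul_inv_cancel_right])).symm
  · obtain ⟨x, -, hx, hxv⟩ := S.exists_rel r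
    set q : ↥(Subgroup.centralizer ({t} : Set G)) := ⟨χ a, S.chi_mem a⟩
    have hq : q.1 * χ q0 * q.1⁻¹ = χ q0 := by
      show χ a * χ q0 * (χ a)⁻¹ = χ q0
      have h : a * q0 = q0 * a := Q8.ext ((comm_q0 a.n a.lt).2 ha)
      rw [← map_mul, h, map_mul, mul_inv_cancel_right]
    have h1 : r * (q * r⁻¹ * q⁻¹) ∈ rSub t χ g :=
      Subgroup.mul_mem _ hr (conj_rSub S hg hq (Subgroup.inv_mem _ hr))
    have h2 : InD (t := t) (χ := χ) g (conjQ x a * a⁻¹) := by
      refine ⟨S.chi_mem _, ?_⟩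
      have e : (⟨χ (conjQ x a * a⁻¹), S.chi_mem _⟩ : ↥(Subgroup.centralizer ({t} : Set G))) =
          r * (q * r⁻¹ * q⁻¹) := Subtype.ext (by
        show χ (conjQ x a * a⁻¹) = r.1 * (χ a * r.1⁻¹ * (χ a)⁻¹)
        rw [map_mul, map_inv, ← hxv]; group)
      rw [e]
      exact h1
    have h3 := inD_plane S hg hne h2
    rwa [lo_mul, lo_inv, conjQ_lo, hx] at h3

variable [Finite G]

theorem card_rSub : Nat.card (rSub t χ g) = 256 := by
  classical
  let P := {v : Q8 // v.n % 256 < 128}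
  have hcard : Nat.card P = 256 := by
    rw [Nat.card_eq_fintype_card]
    decide +kernel
  let F : P → rSub t χ g := fun v => ⟨⟨g⁻¹ * χ v.1 * g, Subgroup.mem_centralizer_singleton_iff.2 (by
      have h : v.1 * q0 = q0 * v.1 := Q8.ext ((comm_q0 v.1.n v.1.lt).2 v.2)
      have h' : χ v.1 * χ q0 = χ q0 * χ v.1 := by rw [← map_mul, ← map_mul, h]
      rw [← hg.to_a] at h'
      calc g⁻¹ * χ v.1 * g * t = g⁻¹ * (χ v.1 * (g * t * g⁻¹)) * g := by group
        _ = t * (g⁻¹ * χ v.1 * g) := by rw [h']; group)⟩, mem_rSub.2 ⟨v.1, by group⟩⟩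
  have hF : Function.Bijective F := by
    refine ⟨fun v w e => Subtype.ext (S.inj ?_), fun r => ?_⟩
    · have e' : g⁻¹ * χ v.1 * g = g⁻¹ * χ w.1 * g := congrArg (fun z => z.1.1) e
      exact mul_left_cancel (mul_right_cancel e')
    · obtain ⟨v, hv⟩ := mem_rSub.1 r.2
      refine ⟨⟨v, (comm_q0 v.n v.lt).1 (congrArg Q8.n (comm_img S hg hv))⟩, Subtype.ext (Subtype.ext ?_)⟩
      show g⁻¹ * χ v * g = r.1.1
      rw [hv]; group
  rw [← Nat.card_eq_of_bijective F hF, hcard]

theorem no_swap : False := by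
  classical
  have hne : t ≠ χ q0 := fun e => by
    rw [← S.zt_eq] at e
    exact absurd (congrArg Q8.n (S.inj e)) (by decide)
  let β : rSub t χ g →* ↥W := S.pi.comp (rSub t χ g).subtype
  have hrange : Nat.card β.ker * Nat.card β.range = 256 := by
    rw [← card_rSub S hg, ← Subgroup.index_ker, Subgroup.card_mul_index]
  have hinD : ∀ r : β.ker, ∃ v : Q8, InD (t := t) (χ := χ) g v ∧ χ v = r.1.1.1 := fun r => by
    obtain ⟨v, hv⟩ := S.ker_pi (c := r.1.1) r.2
    exact ⟨v, ⟨S.chi_mem v, by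
      rw [show (⟨χ v, S.chi_mem v⟩ : ↥(Subgroup.centralizer ({t} : Set G))) = r.1.1 from Subtype.ext hv]
      exact r.1.2⟩, hv⟩
  choose f hfD hf using hinD
  have hfi : Function.Injective f := fun r s e =>
    Subtype.ext (Subtype.ext (Subtype.ext (by rw [← hf r, ← hf s, e])))
  have hrad : ∀ y : β.range, ∃ i : Fin 64, y.1 = rw0 (radW i.val) := fun y => by
    obtain ⟨r, hr⟩ := y.2
    obtain ⟨i, hi, e⟩ := rad_iff (rad_pi S hg hne r.2)
    exact ⟨⟨i, hi⟩, hr.symm.trans e⟩
  choose ix hix using hrad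
  have hixi : Function.Injective ix := fun y z e => Subtype.ext (by rw [hix y, hix z, e])
  by_cases hsmall : ∀ v, InD (t := t) (χ := χ) g v → lo v < 2
  · -- the intersection is the four group
    have h4 : Nat.card β.ker ≤ 4 := by
      let e : β.ker → Fin 4 := fun r => ⟨(f r).n % 256 + 2 * ((f r).n / 256), by
        have h1 := hsmall _ (hfD r)
        have h2 := (f r).lt
        simp only [lo] at h1
        omega⟩
      refine (Nat.card_le_card_of_injective e fun r s h => hfi (Q8.ext ?_)).trans_eq (Nat.card_fin 4)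
      have h' := congrArg Fin.val h
      have := hsmall _ (hfD r)
      have := hsmall _ (hfD s)
      have := (f r).lt
      have := (f s).lt
      simp only [lo, e] at *
      omega
    let L := radL.filter fun n => (List.range 128).all fun v => Nat.ble (wap (dec n) v ^^^ v) 1
    have hmem : ∀ y : β.range, radL.getD (ix y).val 1 ∈ L := fun y => by
      refine List.mem_filter.2 ⟨radW_mem (ix y).2, List.all_eq_true.2 fun v hv => ?_⟩
      have hv' : v < 128 := List.mem_range.1 hv
      obtain ⟨r, hr⟩ := y.2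
      obtain ⟨x, -, hx, hxv⟩ := S.exists_rel r.1
      let a : Q8 := ⟨v, by omega⟩
      have hla : lo a = v := (show v % 256 = v by omega)
      set q : ↥(Subgroup.centralizer ({t} : Set G)) := ⟨χ a, S.chi_mem a⟩
      have hq : q.1 * χ q0 * q.1⁻¹ = χ q0 := by
        show χ a * χ q0 * (χ a)⁻¹ = χ q0
        have h : a * q0 = q0 * a := Q8.ext ((comm_q0 a.n a.lt).2 (by show v % 256 < 128; omega))
        rw [← map_mul, h, map_mul, mul_inv_cancel_right]
      have h2 : InD (t := t) (χ := χ) g (conjQ x a * a⁻¹) := by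
        refine ⟨S.chi_mem _, ?_⟩
        have e : (⟨χ (conjQ x a * a⁻¹), S.chi_mem _⟩ : ↥(Subgroup.centralizer ({t} : Set G))) =
            r.1 * (q * r.1⁻¹ * q⁻¹) := Subtype.ext (by
          show χ (conjQ x a * a⁻¹) = r.1.1 * (χ a * r.1.1⁻¹ * (χ a)⁻¹)
          rw [map_mul, map_inv, ← hxv]; group)
        rw [e]
        exact Subgroup.mul_mem _ r.2 (conj_rSub S hg hq (Subgroup.inv_mem _ r.2))
      have h3 := hsmall _ h2
      rw [lo_mul, lo_inv, conjQ_lo, hx, hla, show S.pi r.1 = rw0 (radW (ix y).val) from hr.trans (hix y),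
        lo_rw0, hla] at h3
      rw [Nat.ble_eq]
      exact Nat.le_of_lt_succ h3
    have hb : Nat.card β.range ≤ 63 := by
      let e : β.range → Fin L.length := fun y => ⟨L.idxOf (radL.getD (ix y).val 1), List.idxOf_lt_length_iff.2 (hmem y)⟩
      refine ((Nat.card_le_card_of_injective e fun y z h => hixi (Fin.ext ?_)).trans_eq (Nat.card_fin _)).trans rad_small
      have h' := (List.idxOf_inj (hmem y)).1 (congrArg Fin.val h)
      exact getD_inj rad_distinct (len_ok.2.1.symm ▸ (ix y).2) (len_ok.2.1.symm ▸ (ix z).2)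
        (by show keyL (wimg (dec _)) = keyL (wimg (dec _)); rw [h'])
    have := Nat.mul_le_mul h4 hb
    omega
  · -- the intersection lies over the whole plane
    push Not at hsmall
    obtain ⟨v0, hv0, h20⟩ := hsmall
    have hall : ∀ x : Q8, inW4 (lo x) = true → InD (t := t) (χ := χ) g x := fun x hx => inD_all S hg hne hv0 h20 hx
    let P := {x : Q8 // inW4 (lo x) = true}
    have hP : Nat.card P = 32 := by
      rw [Nat.card_eq_fintype_card]
      decide +kernel
    have hker : 32 ≤ Nat.card β.ker := by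
      let k : P → β.ker := fun x => ⟨⟨⟨χ x.1, S.chi_mem _⟩, (hall x.1 x.2).2⟩, S.pi_chi x.1⟩
      exact hP ▸ Nat.card_le_card_of_injective k fun a b e =>
        Subtype.ext (S.inj (congrArg (fun z => z.1.1.1) e))
    have hr8 : Nat.card β.range ≤ 8 := by
      by_contra h
      have := Nat.mul_le_mul hker (Nat.succ_le_of_lt (not_le.1 h))
      omega
    -- every element fixes the plane
    have hgood : ∀ (r : rSub t χ g) (x : Q8), inW4 (lo x) = true → lo ((S.pi r.1 : MulAut Q8) x) = lo x := by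
      intro r x hx
      let y : β.range := ⟨β r, r, rfl⟩
      have hy : S.pi r.1 = rw0 (radW (ix y).val) := hix y
      have h := List.all_eq_true.1 bad_ok (ix y).val (List.mem_range.2 (ix y).2)
      rw [Bool.or_eq_true, List.all_eq_true] at h
      rcases h with h | h
      · rw [hy, lo_rw0]
        exact Nat.eq_of_beq_eq_true (h _ ((w4_mem _ (lo_lt x)).1 hx))
      exfalso
      simp only [List.any_eq_true, Bool.and_eq_true, Nat.beq_eq, List.all_eq_true, Nat.blt_eq] at h
      obtain ⟨⟨j, ls⟩, -, ⟨⟨-, hlen⟩, hlt⟩, hdist⟩ := h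
      simp only at hlen hlt hdist
      have hmem : ∀ l : List ℕ, (∀ i ∈ l, i < 232) → rw0 (badW (ix y).val l) ∈ β.range := by
        intro l
        induction l with
        | nil => exact fun _ => by rw [show rw0 (badW (ix y).val []) = 1 from rfl]; exact Subgroup.one_mem _
        | cons i l ih =>
          intro hl
          rw [show badW (ix y).val (i :: l) = stabW i ++ radW (ix y).val ++ (stabW i).reverse ++
            badW (ix y).val l from rfl, rw0_append, rw0_conj]
          refine Subgroup.mul_mem _ ?_ (ih fun j hj => hl j (List.mem_cons_of_mem _ hj))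
          obtain ⟨c, hc, hcv⟩ := S.exists_word (stabW i)
          refine ⟨⟨c * r.1 * c⁻¹, conj_rSub S hg (by rw [hcv, stab_spec (hl i List.mem_cons_self)]) r.2⟩, ?_⟩
          show S.pi (c * r.1 * c⁻¹) = _
          rw [map_mul, map_mul, map_inv, hc, hy]
      let e : Fin ls.length → β.range := fun i => ⟨_, hmem ls[i.val] (fun j hj => hlt _ (List.getElem_mem i.2) j hj)⟩
      have he : Function.Injective e := fun a b h => Fin.ext ((nodup_of_distinctB hdist).getElem_inj_iff.1 (show
        (ls.map fun l => keyL (wimg (badW (ix y).val l)))[a.val]'(by simp) = _[b.val]'(by simp) by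
          simp only [List.getElem_map]
          rw [← imgs_rw0, ← imgs_rw0, show rw0 (badW _ ls[a.val]) = rw0 (badW _ ls[b.val]) from congrArg Subtype.val h]))
      have := Nat.card_le_card_of_injective e he
      rw [Nat.card_fin, hlen] at this
      omega
    -- so the plane is sent into the centre of the perpendicular part
    have himg : ∀ x : P, ∃ w : Q8, χ w = g * χ x.1 * g⁻¹ ∧ lo w < 2 := fun x => by
      obtain ⟨hxC, hxR⟩ := hall x.1 x.2
      obtain ⟨w, hw⟩ := mem_rSub.1 hxR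
      refine ⟨w, hw, Nat.lt_succ_of_le (perp_q0 w.n w.lt fun e he => ?_)⟩
      have he1 : e < 128 := (by decide : ∀ e ∈ [1, 2, 4, 8, 16, 32, 64], e < 128) e he
      let a : Q8 := ⟨e, by omega⟩
      have hr : g⁻¹ * χ a * g ∈ Subgroup.centralizer ({t} : Set G) := by
        rw [Subgroup.mem_centralizer_singleton_iff]
        have h : a * q0 = q0 * a := Q8.ext ((comm_q0 a.n a.lt).2 (by show e % 256 < 128; omega))
        have h' : χ a * χ q0 = χ q0 * χ a := by rw [← map_mul, ← map_mul, h]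
        rw [← hg.to_a] at h'
        calc g⁻¹ * χ a * g * t = g⁻¹ * (χ a * (g * t * g⁻¹)) * g := by group
          _ = t * (g⁻¹ * χ a * g) := by rw [h']; group
      let r : rSub t χ g := ⟨⟨_, hr⟩, mem_rSub.2 ⟨a, by group⟩⟩
      obtain ⟨z, -, hz, hzv⟩ := S.exists_rel r.1
      have hlo : lo (conjQ z x.1) = lo x.1 := by rw [conjQ_lo, hz, hgood r x.1 x.2]
      have hcomm : r.1.1 * χ x.1 * r.1.1⁻¹ * (χ x.1)⁻¹ = 1 := by
        rcases comm_rSub S hg r.2 hxR with h | h
        · exact h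
        · exfalso
          change r.1.1 * χ x.1 * r.1.1⁻¹ * (χ x.1)⁻¹ = χ q0 at h
          rw [hzv, ← map_inv, ← map_mul] at h
          have h' := congrArg lo (S.inj h)
          rw [lo_mul, lo_inv, hlo, Nat.xor_self] at h'
          cases h'
      have h3 : χ a * χ w = χ w * χ a := by
        rw [hw]
        have hc : r.1.1 * χ x.1 = χ x.1 * r.1.1 := by
          rwa [mul_inv_eq_one, mul_inv_eq_iff_eq_mul] at hcomm
        calc χ a * (g * χ x.1 * g⁻¹) = g * (r.1.1 * χ x.1) * g⁻¹ := by simp only [r]; group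
          _ = _ := by rw [hc]; simp only [r]; group
      rw [← map_mul, ← map_mul] at h3
      exact (congrArg Q8.n (S.inj h3)).symm
    choose k hk hk2 using himg
    let e : P → Fin 4 := fun x => ⟨(k x).n % 256 + 2 * ((k x).n / 256), by
      have := hk2 x
      have := (k x).lt
      simp only [lo] at *
      omega⟩
    have he : Function.Injective e := fun a b h => by
      have hn : k a = k b := Q8.ext (by
        have h' := congrArg Fin.val h
        have := hk2 a
        have := hk2 b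
        have := (k a).lt
        have := (k b).lt
        simp only [lo, e] at *
        omega)
      exact Subtype.ext (S.inj (mul_left_cancel (mul_right_cancel (by rw [← hk a, ← hk b, hn]))))
    have := Nat.card_le_card_of_injective e he
    rw [hP, Nat.card_fin] at this
    omega

omit hg

/-- The only conjugate of the involution in the extraspecial group is itself. -/
theorem weak_closure (ht : orderOf t = 2) (g : G) (hgt : g * t * g⁻¹ ∈ χ.range) : g * t * g⁻¹ = t := by
  classical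
  by_contra hne
  obtain ⟨v, hv⟩ := hgt
  have htt : t * t = 1 := by rw [← pow_two, ← ht, pow_orderOf_eq_one]
  have hv2 : v * v = 1 := S.inj (by
    rw [map_mul, hv, map_one]
    calc g * t * g⁻¹ * (g * t * g⁻¹) = g * (t * t) * g⁻¹ := by group
      _ = 1 := by rw [htt, mul_one, mul_inv_cancel])
  have hv0 : lo v ≠ 0 := fun h => by
    rcases eq_or_of_lo (a := 1) (b := v) (by rw [h, lo_one]) with e | e
    · rw [e, map_one] at hv
      have h1 : t = 1 := by simpa using hv.symm
      rw [h1, orderOf_one] at ht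
      omega
    · rw [e, one_mul, S.zt_eq] at hv
      exact hne hv.symm
  obtain ⟨p, hp, e⟩ := orbit_cases hv2 hv0
  obtain ⟨c, -, hc⟩ := S.exists_word (dec p.2)
  set k := g⁻¹ * c.1
  have hk : k * χ q0 * k⁻¹ = t := by
    calc k * χ q0 * k⁻¹ = g⁻¹ * (c.1 * χ q0 * c.1⁻¹) * g := by simp only [k]; group
      _ = t := by rw [hc, e, hv]; group
  have hAt : χ q0 * t = t * χ q0 := Subgroup.mem_centralizer_singleton_iff.1 (S.chi_mem q0)
  set u := k * t * k⁻¹
  have huC : u ∈ Subgroup.centralizer ({t} : Set G) := by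
    rw [Subgroup.mem_centralizer_singleton_iff]
    calc u * t = k * (t * χ q0) * k⁻¹ := by conv_lhs => rw [← hk]
                                            simp only [u]; group
      _ = k * (χ q0 * t) * k⁻¹ := by rw [hAt]
      _ = t * u := by conv_rhs => rw [← hk]
                      simp only [u]; group
  have hu2 : u * u = 1 := by
    calc u * u = k * (t * t) * k⁻¹ := by simp only [u]; group
      _ = 1 := by rw [htt, mul_one, mul_inv_cancel]
  have hut : u ≠ t := fun h => by
    have h1 : t = χ q0 := by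
      have h2 : k * t * k⁻¹ = k * χ q0 * k⁻¹ := h.trans hk.symm
      exact mul_left_cancel (mul_right_cancel h2)
    rw [← S.zt_eq] at h1
    exact absurd (congrArg Q8.n (S.inj h1)) (by decide)
  obtain ⟨w, hw⟩ : ∃ w, χ w = u := by
    by_contra hout
    push Not at hout
    have h1 := S.index_le (a := q0) (Q8.ext (by decide +kernel : qmulN 1 1 = 0)) (by decide)
    have h2 := S.le_index huC hu2 hout
    let f : cin t (χ q0) → cin t u := fun x => ⟨⟨k * x.1.1 * k⁻¹, by
        rw [Subgroup.mem_centralizer_singleton_iff]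
        have h : k * x.1.1 * k⁻¹ * (k * χ q0 * k⁻¹) = k * χ q0 * k⁻¹ * (k * x.1.1 * k⁻¹) := by
          calc k * x.1.1 * k⁻¹ * (k * χ q0 * k⁻¹) = k * (x.1.1 * χ q0) * k⁻¹ := by group
            _ = (k * χ q0 * k⁻¹) * (k * x.1.1 * k⁻¹) := by rw [mem_cin.1 x.2]; group
        rwa [hk] at h⟩, mem_cin.2 (by
        show k * x.1.1 * k⁻¹ * (k * t * k⁻¹) = k * t * k⁻¹ * (k * x.1.1 * k⁻¹)
        calc k * x.1.1 * k⁻¹ * (k * t * k⁻¹) = k * (x.1.1 * t) * k⁻¹ := by group
          _ = _ := by rw [Subgroup.mem_centralizer_singleton_iff.1 x.1.2]; group)⟩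
    have hf : Function.Injective f := fun a b h => Subtype.ext (Subtype.ext
      (mul_left_cancel (mul_right_cancel (congrArg (fun z => z.1.1) h))))
    have h3 := Nat.card_le_card_of_injective f hf
    have h4 := (cin t (χ q0)).card_mul_index
    have h5 := (cin t u).card_mul_index
    have hpos : 0 < Nat.card (cin t (χ q0)) := Nat.card_pos
    have h6 := Nat.mul_le_mul h3 h2
    have h7 := Nat.mul_le_mul (le_refl (Nat.card (cin t (χ q0)))) h1
    rw [h5] at h6
    omega
  have hw2 : w * w = 1 := S.inj (by rw [map_mul, hw, hu2, map_one])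
  have hw0 : lo w ≠ 0 := fun h => by
    rcases eq_or_of_lo (a := 1) (b := w) (by rw [h, lo_one]) with e | e
    · rw [e, map_one] at hw
      have h1 : t = 1 := by simpa [u] using hw.symm
      rw [h1, orderOf_one] at ht
      omega
    · rw [e, one_mul, S.zt_eq] at hw
      exact hut hw.symm
  obtain ⟨p', hp', e'⟩ := orbit_cases hw2 hw0
  obtain ⟨d, -, hd⟩ := S.exists_word (dec p'.2)
  refine no_swap S (g := d.1⁻¹ * k) ⟨?_, ?_⟩
  · calc d.1⁻¹ * k * χ q0 * (d.1⁻¹ * k)⁻¹ = d.1⁻¹ * (k * χ q0 * k⁻¹) * d.1 := by group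
      _ = d.1⁻¹ * t * d.1 := by rw [hk]
      _ = t := by rw [mul_assoc, ← Subgroup.mem_centralizer_singleton_iff.1 d.2, inv_mul_cancel_left]
  · calc d.1⁻¹ * k * t * (d.1⁻¹ * k)⁻¹ = d.1⁻¹ * u * d.1 := by simp only [u]; group
      _ = χ q0 := by rw [← hw, ← e', ← hd]; group

end Cfsg.Agent.Co2Type.Local
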