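import Cfsg.Agent.Lib.Co2Type.Local.Setup
import Cfsg.Agent.Lib.Co2Type.Local.Weak
import Cfsg.Agent.Lib.Co2Type.Local.Exist

/-!
The coordinates of the centraliser with the conjugates of the involution at the roots, from the exclusion of
the other classes.
-/

set_option autoImplicit false
set_option linter.unusedSectionVars false

namespace Cfsg.Agent.Co2Type.Local

open Code

universe uG

variable {G : Type uG} [Group G] [Finite G]

/-- The exclusion of the other classes, as used by the assembly. -/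
structure Excluded (t : G) (χ : Q8 →* G) : Prop where
  /-- the twisted case does not occur -/
  untwist : Twisted t χ → False
  /-- only roots are conjugate to the involution -/
  roots : ∀ φ : C0 →* G, Function.Injective φ → φ.range = Subgroup.centralizer ({t} : Set G) → φ Code.tau = t →
    (∀ x, Rel χ (φ x) x) → ∀ c, (∃ g, g * φ Code.tau * g⁻¹ = φ c) → Root c

/-- **The coordinates**, given the exclusion of the other classes. -/
theorem hasCoords_of (hO : Cfsg.oddCore G = ⊥) (hZ : Subgroup.center G = ⊥) (t : G) (ht : orderOf t = 2)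
    (hcon : Cfsg.IsPConstrained 2 ↥(Subgroup.centralizer ({t} : Set G)))
    (hQ : Cfsg.IsExtraspecial 2 ↥(Cfsg.pCore 2 ↥(Subgroup.centralizer ({t} : Set G))))
    (hcard : Nat.card ↥(Cfsg.pCore 2 ↥(Subgroup.centralizer ({t} : Set G))) = 2 ^ 9)
    (e : ↥(Subgroup.centralizer ({t} : Set G)) ⧸ Cfsg.pCore 2 ↥(Subgroup.centralizer ({t} : Set G)) ≃* X6)
    (hex : ∀ χ, Coo t χ → Nat.card (Subgroup.centralizer ({t} : Set G)) = 512 * 1451520 →
      (∃ g : G, g * t * g⁻¹ ∈ Subgroup.centralizer ({t} : Set G) ∧ g * t * g⁻¹ ≠ t) → Excluded t χ) :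
    ∃ φ : C0 →* G, Function.Injective φ ∧ φ.range = Subgroup.centralizer ({φ Code.tau} : Set G) ∧
      ∀ c, (∃ g, g * φ Code.tau * g⁻¹ = φ c) ↔ Root c := by
  obtain ⟨χ, S, hC, g, hg, hne⟩ := exists_setup hO hZ t ht hcon hQ hcard e
  have X := hex χ S hC ⟨g, hg, hne⟩
  rcases S.split_cases hC with ⟨φ, hinj, hrange, htau, hφ⟩ | htw
  · have hr : φ.range = Subgroup.centralizer ({φ Code.tau} : Set G) := by rw [htau, hrange]
    refine ⟨φ, hinj, hr, roots_eq φ hinj hr (X.roots φ hinj hrange htau hφ) ?_⟩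
    obtain ⟨c, hc⟩ : g * t * g⁻¹ ∈ φ.range := hrange.symm ▸ hg
    refine ⟨c, fun e => hne ?_, g, ?_⟩
    · rw [← hc, e, htau]
    · rw [htau, hc]
  · exact (X.untwist htw).elim

end Cfsg.Agent.Co2Type.Local
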