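import Cfsg.Agent.Lib.Co2Type.Local.Defs
import Cfsg.Agent.Lib.Co2Type.Code.Card
import Cfsg.Agent.Lib.Co2Type.End.Classify
import Mathlib.GroupTheory.Sylow

/-!
The action of the code group on the extraspecial group: its kernel is the centre, and the automorphisms that are
trivial modulo the centre are inner.
-/

set_option autoImplicit false
set_option maxRecDepth 20000
set_option linter.style.haveILetI false

namespace Cfsg.Agent.Co2Type.Local

open Code End

/-- The vector of an element. -/
def lo (a : Q8) : ℕ := a.n % 256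

theorem lo_lt (a : Q8) : lo a < 256 := Nat.mod_lt _ (by norm_num)

theorem xor_mod (x y : ℕ) : (x ^^^ y) % 256 = x % 256 ^^^ y % 256 := by
  apply Nat.eq_of_testBit_eq
  intro i
  simp only [show (256 : ℕ) = 2 ^ 8 by norm_num, Nat.testBit_xor, Nat.testBit_mod_two_pow]
  cases decide (i < 8) <;> simp

theorem lo_mul (a b : Q8) : lo (a * b) = lo a ^^^ lo b := by
  rw [lo, lo, lo, Q8.mul_n, qmulN_eq, xor_mod, xor_mod, kz]
  split <;> simp

theorem lo_one : lo 1 = 0 := rfl

theorem lo_zt : lo zt = 0 := rfl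

theorem lo_inv (a : Q8) : lo a⁻¹ = lo a := by
  have h : lo (a⁻¹ * a) = 0 := by rw [inv_mul_cancel, lo_one]
  rw [lo_mul] at h
  exact Nat.eq_of_testBit_eq fun i => by
    have := congrArg (fun n => n.testBit i) h
    simpa using this

theorem eq_or_of_lo {a b : Q8} (h : lo a = lo b) : b = a ∨ b = a * zt := by
  have key : ∀ x < 512, ∀ s : Bool, qmulN x (if s then 256 else 0) = (x % 256 + if xor s (decide (256 ≤ x)) then 256 else 0) := by
    decide +kernel
  rcases Bool.eq_false_or_eq_true (decide (256 ≤ a.n) == decide (256 ≤ b.n)) with hb | hb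
  · refine Or.inl (Q8.ext ?_)
    have ha := a.lt
    have hb' := b.lt
    simp only [beq_iff_eq, decide_eq_decide] at hb
    simp only [lo] at h
    omega
  · refine Or.inr (Q8.ext ?_)
    rw [Q8.mul_n, show zt.n = if true then 256 else 0 from rfl, key a.n a.lt true]
    have ha := a.lt
    have hb' := b.lt
    simp only [beq_eq_false_iff_ne, ne_eq, decide_eq_decide] at hb
    simp only [lo] at h
    by_cases h2 : 256 ≤ a.n <;> simp [h2] <;> omega

/-- An automorphism commutes with the projection on vectors. -/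
theorem lo_congr (φ : MulAut Q8) {a b : Q8} (h : lo a = lo b) : lo (φ a) = lo (φ b) := by
  rcases eq_or_of_lo h with rfl | rfl
  · rfl
  · rw [map_mul, map_zt, lo_mul, lo_zt, Nat.xor_zero]

/-- Trivial on vectors. -/
def Triv (φ : MulAut Q8) : Prop := ∀ a, lo (φ a) = lo a

theorem Triv.conj {φ : MulAut Q8} (h : Triv φ) (ψ : MulAut Q8) : Triv (ψ * φ * ψ⁻¹) := fun a => by
  rw [MulAut.mul_apply, MulAut.mul_apply]
  exact (lo_congr ψ (h _)).trans (congrArg lo (MulAut.apply_inv_self Q8 ψ a))

theorem triv_conj (v : Q8) : Triv (MulAut.conj v) := fun a => by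
  rw [MulAut.conj_apply, lo_mul, lo_mul, lo_inv]
  exact Nat.eq_of_testBit_eq fun i => by simp

/-- The inner automorphisms by sign patterns. -/
theorem inner_table : ((List.range 256).all fun m => (List.range 256).any fun v => (List.range 8).all fun i =>
    Nat.beq (qmulN (qmulN v (2 ^ i)) (v ^^^ kz (beta v v))) (2 ^ i + if m.testBit i then 256 else 0)) = true := by
  decide +kernel

/-- An automorphism trivial on vectors is inner. -/
theorem Triv.inner {φ : MulAut Q8} (h : Triv φ) : ∃ v : Q8, φ = MulAut.conj v := by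
  classical
  let co : Fin 8 → Q8 := fun i => ⟨2 ^ i.val, (Nat.pow_lt_pow_right (by norm_num) i.2).trans (by norm_num)⟩
  let m : ℕ := ∑ i : Fin 8, if (φ (co i)).n = 2 ^ i.val then 0 else 2 ^ i.val
  have hm : m < 256 ∧ ∀ i : Fin 8, m.testBit i.val = decide (¬ (φ (co i)).n = 2 ^ i.val) := by
    have key : ∀ f : Fin 8 → Bool, (∑ i : Fin 8, if f i then 2 ^ i.val else 0) < 256 ∧
        ∀ i : Fin 8, (∑ i : Fin 8, if f i then 2 ^ i.val else 0).testBit i.val = f i := by decide +kernel
    have e : m = ∑ i : Fin 8, if decide (¬ (φ (co i)).n = 2 ^ i.val) then 2 ^ i.val else 0 :=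
      Finset.sum_congr rfl fun i _ => by by_cases hh : (φ (co i)).n = 2 ^ i.val <;> simp [hh]
    rw [e]
    exact key _
  obtain ⟨v, hv, hv'⟩ := List.any_eq_true.1 (List.all_eq_true.1 inner_table m (List.mem_range.2 hm.1))
  have hvl : v < 256 := List.mem_range.1 hv
  refine ⟨⟨v, hvl.trans (by norm_num)⟩, imgs_injective ?_⟩
  refine List.map_congr_left fun e _ => ?_
  obtain ⟨i, hi⟩ : ∃ i : Fin 8, 2 ^ i.val = e.1 :=
    (by decide : ∀ e ∈ stdImg, ∃ j : Fin 8, 2 ^ j.val = e) e.1 e.2
  have hco : (⟨e.1, gen_lt e.1 (List.mem_cons_of_mem _ e.2)⟩ : Q8) = co i := Q8.ext hi.symm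
  rw [hco]
  have h1 : (φ (co i)).n = 2 ^ i.val + if m.testBit i.val then 256 else 0 := by
    rw [hm.2 i]
    rcases eq_or_of_lo (h (co i)).symm with e1 | e1
    · rw [e1]; simp [co]
    · have h2 : (co i * zt).n = 2 ^ i.val + 256 :=
        (by decide +kernel : ∀ j : Fin 8, qmulN (2 ^ j.val) 256 = 2 ^ j.val + 256) i
      rw [e1, h2]
      simp
  rw [h1, MulAut.conj_apply, Q8.mul_n, Q8.mul_n]
  exact (Nat.eq_of_beq_eq_true (List.all_eq_true.1 hv' i.val (List.mem_range.2 i.2))).symm

/-- Only the identity of the Sylow subgroup is trivial on vectors. -/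
theorem triv_table : ((List.range 512).all fun i =>
    Nat.beq i 0 || !Roots.beqL ((Classify.pC i).map fun x => x % 256) stdImg) = true := by decide +kernel

theorem eq_one_of_triv_P {w : ↥W} (hw : w ∈ Classify.P) (h : Triv w.1) : w = 1 := by
  obtain ⟨i, hi, e⟩ := Classify.index_of_mem hw
  have hl : (Classify.pC i).map (fun x => x % 256) = stdImg := by
    rw [← e, imgs, List.map_map]
    calc _ = stdImg.attach.map Subtype.val := List.map_congr_left fun x _ =>
          (h ⟨x.1, gen_lt x.1 (List.mem_cons_of_mem _ x.2)⟩).trans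
            ((by decide : ∀ y ∈ stdImg, y % 256 = y) x.1 x.2)
      _ = stdImg := List.attach_map_subtype_val _
  have ht := List.all_eq_true.1 triv_table i (List.mem_range.2 hi)
  simp only [hl, Bool.or_eq_true, Nat.beq_eq, Bool.not_eq_true'] at ht
  rcases ht with rfl | ht
  · exact Subtype.ext (imgs_injective (e.trans (Classify.pC_zero.trans code_one_snd.symm)))
  · exact absurd ht (by decide +kernel)
where
  code_one_snd : imgs ((1 : ↥W) : MulAut Q8) = stdImg := congrArg Prod.snd code_one

theorem finite_W : Finite ↥W := Nat.finite_of_card_ne_zero (by rw [card_W]; norm_num)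

theorem finite_C0 : Finite C0 := Nat.finite_of_card_ne_zero (by rw [card_C0]; norm_num)

/-- A two-element of the automorphism part is conjugate into the Sylow subgroup. -/
theorem conj_into_P {w : ↥W} (hw : ∃ k : ℕ, w ^ 2 ^ k = 1) : ∃ g : ↥W, g * w * g⁻¹ ∈ Classify.P := by
  haveI := finite_W
  haveI : Fact (Nat.Prime 2) := ⟨Nat.prime_two⟩
  have hf : Nat.factorization 1451520 2 = 9 := by
    rw [show 1451520 = 2 ^ 9 * 2835 by norm_num, Nat.factorization_mul (by norm_num) (by norm_num),
      Nat.factorization_pow]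
    simp [Nat.prime_two.factorization_self, Nat.factorization_eq_zero_of_not_dvd (show ¬ 2 ∣ 2835 by norm_num)]
  let T : Sylow 2 ↥W := Sylow.ofCard Classify.P (by rw [Classify.card_P, card_W, hf]; norm_num)
  obtain ⟨k, hk⟩ := hw
  have hp : IsPGroup 2 (Subgroup.zpowers w) := by
    rintro ⟨x, n, rfl⟩
    refine ⟨k, Subtype.ext ?_⟩
    show (w ^ n) ^ 2 ^ k = 1
    rw [← zpow_natCast (w ^ n), ← zpow_mul, mul_comm, zpow_mul, zpow_natCast, hk, one_zpow]
  obtain ⟨R, hR⟩ := hp.exists_le_sylow
  obtain ⟨g, hg⟩ := MulAction.exists_smul_eq ↥W R T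
  refine ⟨g, ?_⟩
  have h1 : MulAut.conj g w ∈ ((g • R : Sylow 2 ↥W) : Subgroup ↥W) := by
    rw [Sylow.coe_subgroup_smul]
    exact Subgroup.smul_mem_pointwise_smul w (MulAut.conj g) (R : Subgroup ↥W) (hR (Subgroup.mem_zpowers w))
  rw [hg] at h1
  exact h1

/-- The automorphism part acts faithfully on vectors. -/
theorem eq_one_of_triv {w : ↥W} (h : Triv w.1) : w = 1 := by
  have h2 : w ^ 2 ^ 2 = 1 := by
    obtain ⟨v, hv⟩ := h.inner
    refine Subtype.ext ?_
    have : ∀ a : Q8, a ^ 4 = 1 := fun a => by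
      rw [show a ^ 4 = (a * a) * (a * a) by rw [pow_succ, pow_succ, pow_succ, pow_one, mul_assoc]]
      rcases zt_sq_of a with e | e <;> rw [e]
      · rw [mul_one]
      · exact Q8.ext ((by decide : qmulN 256 256 = 0))
    rw [SubmonoidClass.coe_pow, hv, ← map_pow, show 2 ^ 2 = 4 by rfl, this, map_one]
    rfl
  obtain ⟨g, hg⟩ := conj_into_P ⟨2, h2⟩
  have ht : Triv ((g * w * g⁻¹ : ↥W) : MulAut Q8) := h.conj g.1
  exact conj_eq_one_iff.1 (eq_one_of_triv_P hg ht)

theorem conjQ_lo (x : C0) (a : Q8) : lo (conjQ x a) = lo (x.right.1 a) := triv_conj x.left _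

/-- The kernel of the action. -/
theorem conjQ_eq_one {x : C0} (h : conjQ x = 1) : x = 1 ∨ x = tau := by
  have hr : x.right = 1 := eq_one_of_triv fun a => by
    rw [← conjQ_lo, h]
    rfl
  have hc : ∀ a, x.left * a = a * x.left := fun a => by
    have := congrArg (fun φ : MulAut Q8 => φ a) h
    rw [MulAut.one_apply, conjQ_apply, hr] at this
    calc x.left * a = x.left * a * x.left⁻¹ * x.left := by group
      _ = _ := by rw [show x.left * a * x.left⁻¹ = a from this]
  have htab : ∀ v < 512, v = 0 ∨ v = 256 ∨ ∃ i < 8, qmulN v (2 ^ i) ≠ qmulN (2 ^ i) v := by decide +kernel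
  rcases htab x.left.n x.left.lt with h0 | h0 | ⟨i, hi, hne⟩
  · exact Or.inl (SemidirectProduct.ext (Q8.ext h0) hr)
  · refine Or.inr ?_
    have e : code tau = (256, stdImg) := by
      rw [tau, code_el]
      exact (by decide +kernel : codeW tauW = (256, stdImg))
    refine code_injective ?_
    rw [e, code, h0, hr]
    exact Prod.ext rfl eq_one_of_triv_P.code_one_snd
  · exact absurd (congrArg Q8.n (hc ⟨2 ^ i, (Nat.pow_lt_pow_right (by norm_num) hi).trans (by norm_num)⟩)) hne

theorem conjQ_one : conjQ 1 = 1 := MulEquiv.ext fun v => by simp [conjQ_apply]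

theorem conjQ_inl (v : Q8) : conjQ (SemidirectProduct.inl v) = MulAut.conj v :=
  MulEquiv.ext fun a => by simp [conjQ_apply, MulAut.conj_apply]

end Cfsg.Agent.Co2Type.Local
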