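import Cfsg.Agent.Lib.Co2Type.Local.Base

/-!
The classes of involutions of the code group, and of the involutions of its automorphism part.
-/

set_option autoImplicit false
set_option maxRecDepth 100000

namespace Cfsg.Agent.Co2Type.Local

open Code End

/-- An element of square one is trivial or conjugate to a representative. -/
theorem cases_sq_one {x : C0} (hx : x * x = 1) : x = 1 ∨ ∃ j, IsConj (el (repW j)) x := by
  have h2 : x.right ^ 2 ^ 1 = 1 := by
    have := congrArg SemidirectProduct.right hx
    rw [SemidirectProduct.mul_right, SemidirectProduct.one_right] at this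
    rw [pow_one, pow_two, this]
  obtain ⟨g, hg⟩ := conj_into_P ⟨1, h2⟩
  let z : C0 := SemidirectProduct.inr g
  have hS : z * x * z⁻¹ ∈ Classify.S0 := by
    show (z * x * z⁻¹).right ∈ Classify.P
    simpa [z] using hg
  have hsq : z * x * z⁻¹ * (z * x * z⁻¹) = 1 := by
    rw [show z * x * z⁻¹ * (z * x * z⁻¹) = z * (x * x) * z⁻¹ by group, hx, mul_one, mul_inv_cancel]
  rcases Classify.cases_of_mem hS hsq with h | ⟨j, hj⟩
  · exact Or.inl (conj_eq_one_iff.1 h)
  · exact Or.inr ⟨j, hj.trans (isConj_iff.2 ⟨z⁻¹, by group⟩)⟩

/-- An involution of the automorphism part is conjugate to one of five representatives. -/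
theorem exists_wrep {x : C0} (hx : x.right * x.right = 1) :
    ∃ (z : C0) (k : Fin 5), (z * x * z⁻¹).right = (el (Classify.wRepW k)).right := by
  obtain ⟨g, hg⟩ := conj_into_P (w := x.right) ⟨1, by rw [pow_one, pow_two, hx]⟩
  obtain ⟨i, hi, hc⟩ := Classify.index_of_mem hg
  have h := List.all_eq_true.1 Classify.inv_ok i (List.mem_range.2 hi)
  have hsq : Roots.beqL ((Classify.pC i).map (appL (Classify.pC i))) stdImg = true := by
    have h2 : imgs (((g * x.right * g⁻¹) * (g * x.right * g⁻¹) : ↥W) : MulAut Q8) = stdImg := by
      rw [show g * x.right * g⁻¹ * (g * x.right * g⁻¹) = g * (x.right * x.right) * g⁻¹ by group, hx, mul_one,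
        mul_inv_cancel]
      exact congrArg Prod.snd code_one
    rw [Subgroup.coe_mul (W) (g * x.right * g⁻¹), imgs_mul, hc] at h2
    rw [h2]
    decide +kernel
  simp only [Classify.invOK, hsq, Bool.not_true, Bool.false_or, List.any_eq_true, Bool.and_eq_true,
    Nat.beq_eq] at h
  obtain ⟨⟨i', k, H⟩, -, -, hH⟩ := h
  have e := Roots.beqC_eq hH
  have e' : el H * el (Classify.wRepW k) = SemidirectProduct.inr (g * x.right * g⁻¹) * el H := code_injective (by
    rw [code_mul, code_mul, ← Classify.cw_code, ← Classify.cw_code,
      show code (SemidirectProduct.inr (g * x.right * g⁻¹) : C0) = (0, Classify.pC i) from Prod.ext rfl hc]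
    exact e)
  refine ⟨(el H)⁻¹ * SemidirectProduct.inr g, k, ?_⟩
  have h3 := congrArg SemidirectProduct.right e'
  simp only [SemidirectProduct.mul_right, SemidirectProduct.right_inr] at h3
  have h4 : (el (Classify.wRepW k)).right = (el H).right⁻¹ * (g * x.right * g⁻¹ * (el H).right) := by
    rw [← h3, inv_mul_cancel_left]
  rw [h4]
  simp [mul_assoc]

/-- The classes met by the fibres over the two classes with trivial lifts. -/
theorem fib_roots : ∀ k : Fin 5, (k.val = 1 ∨ k.val = 4) → ((Classify.fibL k).all fun p =>
    match p with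
    | (_, none, j) => [2, 3, 4, 9].contains j
    | _ => true) = true := by decide +kernel

/-- A fibre over those classes meets only four classes. -/
theorem fibre_conj' {k : Fin 5} (hk : k.val = 1 ∨ k.val = 4) : ∀ n < (Classify.fibL k).length, ∀ x : C0,
    code x = (((Classify.fibL k).getD n (0, none, 10)).1, Classify.wC k) →
      ∃ j : Fin 10, j.val ∈ [2, 3, 4, 9] ∧ IsConj (el (repW j)) x := by
  intro n
  induction n using Nat.strong_induction_on with
  | _ n ih =>
    intro hn x hx
    have h := List.all_eq_true.1 (List.all_eq_true.1 Classify.entry_ok k (List.mem_finRange k)) n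
      (List.mem_range.2 hn)
    rw [Classify.entryOK] at h
    have hf := List.all_eq_true.1 (fib_roots k hk) ((Classify.fibL k).getD n (0, none, 10))
      (by rw [List.getD_eq_getElem _ _ hn]; exact List.getElem_mem hn)
    rcases he : (Classify.fibL k).getD n (0, none, 10) with ⟨v, _ | p, g⟩ <;> rw [he] at h hx hf
    · simp only [Bool.or_eq_true, Bool.and_eq_true, Nat.beq_eq, List.any_eq_true] at h
      rcases h with ⟨-, h0⟩ | ⟨a, -, hag, ha⟩
      · omega
      · refine ⟨a, ?_, ?_⟩
        · rw [hag]; exact List.contains_iff_mem.1 hf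
        · have e : el (repW a) = x := code_injective (by
            rw [← Classify.cw_code, hx]; exact Roots.beqC_eq ha)
          rw [e]
    · simp only [Bool.and_eq_true, Nat.blt_eq] at h
      obtain ⟨hp, hc⟩ := h
      set w := (Classify.fibK k).getD g []
      have e := Roots.beqC_eq hc
      have hplt : p < (Classify.fibL k).length := hp.trans hn
      set u := (((Classify.fibL k).getD p (0, none, 10))).1
      have hu : u < 512 := Nat.blt_eq.mp (List.all_eq_true.1 (Classify.fib_lt k) p (List.mem_range.2 hplt))
      let y : C0 := ⟨⟨u, hu⟩, (el (Classify.wRepW k)).right⟩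
      have hy : code y = (u, Classify.wC k) := by
        refine Prod.ext rfl ?_
        rw [Classify.wC, Classify.cw_code]
        rfl
      have : el w * y = x * el w := code_injective (by
        rw [code_mul, code_mul, ← Classify.cw_code, hy, hx]; exact e)
      obtain ⟨j, hj, hc⟩ := ih p hp hplt y hy
      exact ⟨j, hj, hc.trans (isConj_iff.2 ⟨el w, by rw [this, mul_inv_cancel_right]⟩)⟩

/-- The involutions over those classes. -/
theorem cases_over {k : Fin 5} (hk : k.val = 1 ∨ k.val = 4) {y : C0}
    (hr : y.right = (el (Classify.wRepW k)).right) (hy : y * y = 1) :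
    ∃ j : Fin 10, j.val ∈ [2, 3, 4, 9] ∧ IsConj (el (repW j)) y := by
  have hcr : (code y).2 = Classify.wC k := by
    show imgs _ = _
    rw [hr, Classify.wC, Classify.cw_code]
    rfl
  have hv : qmulN (code y).1 (appL (Classify.wC k) (code y).1) = 0 := by
    have h4 : (code (y * y)).1 = 0 := by rw [hy, code_one]; rfl
    rw [code_mul] at h4
    rw [← hcr]
    exact h4
  have hf := List.all_eq_true.1 (List.all_eq_true.1 Classify.fibre_complete k (List.mem_finRange k)) (code y).1
    (List.mem_range.2 y.left.lt)
  simp only [hv, Bool.or_eq_true, List.any_eq_true, Nat.beq_eq] at hf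
  rcases hf with hf | ⟨p, hp, hp'⟩
  · exact absurd hf (by decide +kernel)
  obtain ⟨n, hn, rfl⟩ := List.getElem_of_mem hp
  exact fibre_conj' hk n hn y (Prod.ext (by rw [List.getD_eq_getElem _ _ hn, hp']) hcr)

end Cfsg.Agent.Co2Type.Local
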