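import Cfsg.Agent.Lib.Co2Type.Code.Points
import Mathlib.GroupTheory.Subgroup.Centralizer

/-!
The centraliser of the involution modulo the involution, read in the code group: an element `c` and a code `x`
are related when they act in the same way on the extraspecial group.
-/

set_option autoImplicit false

namespace Cfsg.Agent.Co2Type.Local

open Code

/-- Conjugation by a code, on the extraspecial group. -/
noncomputable def conjQ (x : C0) : MulAut Q8 := MulAut.conj x.left * (x.right : MulAut Q8)

theorem conjQ_apply (x : C0) (v : Q8) : conjQ x v = x.left * (x.right : MulAut Q8) v * x.left⁻¹ := rfl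

theorem conjQ_spec (x : C0) (v : Q8) :
    (SemidirectProduct.inl (conjQ x v) : C0) = x * SemidirectProduct.inl v * x⁻¹ := by
  refine SemidirectProduct.ext ?_ (by simp)
  simp [conjQ_apply, mul_assoc]

theorem conjQ_mul (x y : C0) : conjQ (x * y) = conjQ x * conjQ y := MulEquiv.ext fun v => by
  apply SemidirectProduct.inl_injective (φ := W.subtype)
  rw [MulAut.mul_apply, conjQ_spec, conjQ_spec, conjQ_spec, mul_inv_rev]
  simp only [mul_assoc]

variable {G : Type*} [Group G]

/-- `c` acts on the coordinates as the code `x`. -/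
def Rel (χ : Q8 →* G) (c : G) (x : C0) : Prop := ∀ v, c * χ v * c⁻¹ = χ (conjQ x v)

/-- The centraliser of `t` modulo `t` is the code group modulo its involution. -/
structure Coo (t : G) (χ : Q8 →* G) : Prop where
  /-- the coordinates are injective -/
  inj : Function.Injective χ
  /-- and send the centre to `t` -/
  zt_eq : χ zt = t
  /-- every element of the centraliser acts as some code -/
  conj : ∀ c ∈ Subgroup.centralizer ({t} : Set G), ∃ x, Rel χ c x
  /-- every code is realised -/
  surj : ∀ x : C0, ∃ c ∈ Subgroup.centralizer ({t} : Set G), Rel χ c x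
  /-- the kernel -/
  faith : ∀ c ∈ Subgroup.centralizer ({t} : Set G), Rel χ c 1 → c = 1 ∨ c = t

theorem Rel.mul {χ : Q8 →* G} {c d : G} {x y : C0} (hc : Rel χ c x) (hd : Rel χ d y) :
    Rel χ (c * d) (x * y) := fun v => by
  rw [conjQ_mul, MulAut.mul_apply, ← hc, ← hd]
  group

theorem Rel.one (χ : Q8 →* G) : Rel χ 1 1 := fun v => by
  rw [show conjQ 1 v = v by simp [conjQ_apply]]
  group

theorem Rel.inv {χ : Q8 →* G} {c : G} {x : C0} (hc : Rel χ c x) : Rel χ c⁻¹ x⁻¹ := fun v => by
  have h : conjQ x (conjQ x⁻¹ v) = v := by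
    rw [← MulAut.mul_apply, ← conjQ_mul, mul_inv_cancel]
    simp [conjQ_apply]
  conv_lhs => rw [← h, ← hc]
  group

end Cfsg.Agent.Co2Type.Local
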