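import Cfsg.Agent.Lib.Co2Type.Local.EightData
import Cfsg.Agent.Lib.Co2Type.Code.Roots.Ord

/-!
Finite facts against the third class of conjugates: the first class times the involution.
-/

set_option autoImplicit false
set_option maxRecDepth 200000

namespace Cfsg.Agent.Co2Type.Local.EightCheck

open Code EightData

/-- A code times the involution. -/
noncomputable def flipC (x : ℕ × List ℕ) : ℕ × List ℕ := (Nat.xor x.1 256, x.2)

/-- The code of an index of the three classes. -/
noncomputable def uC (i : ℕ) : ℕ × List ℕ := cond (Nat.blt i 2269) (Roots.rootC i) (flipC (Roots.rootC (i - 2268)))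

/-- The index is that of the involution or of the last two classes. -/
noncomputable def inI (i : ℕ) : Bool := Nat.beq i 0 || (Nat.ble 1009 i && Nat.blt i 3277)

/-- A search in the increasing order of the keys. -/
noncomputable def srch (x : ℕ) : ℕ → ℕ → ℕ → ℕ
  | 0, lo, _ => lo
  | f + 1, lo, hi =>
    cond (Nat.ble (Roots.key (Roots.rootC (Roots.ord ((lo + hi) / 2)))) x) (srch x f ((lo + hi) / 2) hi)
      (srch x f lo ((lo + hi) / 2))

/-- The only possible index of a root with this code. -/
noncomputable def idxR (x : ℕ × List ℕ) : ℕ := Roots.ord (srch (Roots.key x) 12 0 2269)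

/-- A code is listed as a root. -/
noncomputable def isR (x : ℕ × List ℕ) : Bool := Roots.beqC (Roots.rootC (idxR x)) x

/-- A code is the involution or lies in the last two classes. -/
noncomputable def memI (x : ℕ × List ℕ) : Bool :=
  (isR x && (Nat.beq (idxR x) 0 || Nat.ble 1009 (idxR x))) ||
    (isR (flipC x) && Nat.ble 1 (idxR (flipC x)) && Nat.ble (idxR (flipC x)) 1008)

/-- A code lies in one of the three classes. -/
noncomputable def memNZ (x : ℕ × List ℕ) : Bool :=
  (isR x && Nat.ble 1 (idxR x)) ||
    (isR (flipC x) && Nat.ble 1 (idxR (flipC x)) && Nat.ble (idxR (flipC x)) 1008)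

/-- Two indices commute. -/
noncomputable def cmU (i j : ℕ) : Bool := Roots.beqC (mulC (uC i) (uC j)) (mulC (uC j) (uC i))

/-- The product of three indices. -/
noncomputable def prodU (c a b : ℕ) : ℕ × List ℕ := mulC (uC c) (mulC (uC a) (uC b))

theorem idx_ok : ((List.range 2269).all fun i => Nat.beq (idxR (Roots.rootC i)) i) = true := by decide +kernel

theorem flip_n : ((List.range 512).all fun n => Nat.beq (qmulN n 256) (Nat.xor n 256)) = true := by decide +kernel

theorem line_ok : ([1, 1009, 2269].all fun p => (List.range 3277).all fun q =>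
    Nat.beq q 0 || !cmU p q || !memNZ (mulC (uC p) (uC q))) = true := by decide +kernel

theorem line_start : (cmU 1 2 && !Roots.beqC (uC 2) (flipC (uC 1))) = true := by decide +kernel

theorem third_none : ((List.range 3277).all fun d =>
    Nat.beq d 0 || Nat.beq d 2269 || !inI d || !cmU d 2269 || !memI (prodU d 0 2269)) = true := by decide +kernel

theorem target_complete : ((List.range 3277).all fun d =>
    Nat.beq d 0 || Nat.beq d 1009 || !inI d || !cmU d 1009 || !memI (prodU d 0 1009) ||
      eightT.any (Nat.beq d)) = true := by decide +kernel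

theorem sizes : eightT.length = 36 ∧ eightWit.length = 36 ∧
    (eightWit.map fun p => Roots.key (uC p.1)).Nodup := by decide +kernel

theorem source_ok : (Nat.blt 2269 eightW && Nat.blt eightW 3277 && !Roots.beqC (uC eightW) (uC 2269) &&
    cmU 2269 eightW &&
    eightWit.all fun p => inI p.1 && inI p.2 && !Roots.beqC (uC p.1) (uC 2269) && !Roots.beqC (uC p.1) (uC eightW) &&
      cmU p.1 2269 &&
      cmU p.1 eightW && Roots.beqC (prodU p.1 2269 eightW) (uC p.2)) = true := by decide +kernel

theorem source_one : (eightWit.any fun p => Nat.ble 2269 p.1 && Nat.ble 2269 p.2) = true := by decide +kernel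

theorem none_all : ((List.range 3277).all fun a => Nat.beq a 0 || Nat.beq a 1009 || !inI a || !cmU a 1009 ||
    eightT.any (fun d => !cmU a d) || eightEsc.any fun p => Nat.beq a p.1) = true := by decide +kernel

theorem escape_ok : (eightEsc.all fun p => inI p.2.2.1 && inI p.2.2.2 && (Nat.beq p.2.1 0 || Nat.beq p.2.1 1009) &&
    !Roots.beqC (uC p.2.2.1) (uC p.2.1) && !Roots.beqC (uC p.2.2.1) (uC p.1) &&
     cmU p.2.2.1 p.2.1 && cmU p.2.2.1 p.1 &&
    Roots.beqC (prodU p.2.2.1 p.2.1 p.1) (uC p.2.2.2)) = true := by decide +kernel

end Cfsg.Agent.Co2Type.Local.EightCheck
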