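import Cfsg.Agent.Lib.Co2Type.Local.Five
import Cfsg.Agent.Lib.Co2Type.Local.EightCheck

/-!
With exact coordinates no conjugate of the involution lies in the first class times the involution: either the
products of commuting pairs or the counts of further conjugates of two pairs disagree.
-/

set_option autoImplicit false
set_option maxRecDepth 100000
set_option linter.unusedSectionVars false

namespace Cfsg.Agent.Co2Type.Local

open Code End EightCheck EightData

theorem beqC_self' (x : ℕ × List ℕ) : Roots.beqC x x = true := by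
  have h : ∀ l : List ℕ, Roots.beqL l l = true := fun l => by
    induction l with
    | nil => rfl
    | cons a l ih =>
      show (Nat.beq a a && Roots.beqL l l) = true
      rw [Nat.beq_refl, ih]; rfl
  rw [Roots.beqC, Nat.beq_refl, h]; rfl

theorem code_mul_tau (x : C0) : code (x * Code.tau) = flipC (code x) := by
  rw [tau_eq_inl]
  refine Prod.ext ?_ ?_
  · show (x.left * (x.right : MulAut Q8) zt).n = Nat.xor x.left.n 256
    rw [map_zt, Q8.mul_n]
    exact Nat.eq_of_beq_eq_true (List.all_eq_true.1 flip_n x.left.n (List.mem_range.2 x.left.lt))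
  · show imgs ((x * SemidirectProduct.inl zt).right : MulAut Q8) = imgs (x.right : MulAut Q8)
    rw [SemidirectProduct.mul_right, SemidirectProduct.right_inl, mul_one]

/-- The class of the first roots times the involution. -/
def InEight (c : C0) : Prop := IsConj (el rootAW) (c * Code.tau)

theorem uC_small {i : ℕ} (h : i < 2269) : uC i = Roots.rootC i := by
  rw [uC, Nat.blt_eq.mpr h]; rfl

theorem uC_large {i : ℕ} (h : 2269 ≤ i) : uC i = flipC (Roots.rootC (i - 2268)) := by
  rw [uC, show Nat.blt i 2269 = false by rw [Bool.eq_false_iff, ne_eq, Nat.blt_eq]; omega]; rfl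

theorem idx_eq {i : ℕ} (h : i < 2269) : idxR (Roots.rootC i) = i ∧ isR (Roots.rootC i) = true := by
  have e := Nat.eq_of_beq_eq_true (List.all_eq_true.1 idx_ok i (List.mem_range.2 h))
  exact ⟨e, by rw [isR, e, beqC_self']⟩

theorem flipC_code (x : C0) (h : x * Code.tau * Code.tau = x) : flipC (flipC (code x)) = code x := by
  rw [← code_mul_tau, ← code_mul_tau, h]

theorem uC_zero : uC 0 = code Code.tau := by
  rw [uC_small (by norm_num), Code.tau, code_el, Roots.start.1]

theorem uC_A : uC 1 = code (el rootAW) := by rw [uC_small (by norm_num), code_el, Roots.start.2.1]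

theorem uC_B : uC 1009 = code Code.alpha := by rw [uC_small (by norm_num), Code.alpha, code_el, Roots.start.2.2]

theorem uC_E : uC 2269 = code (el rootAW * Code.tau) := by
  rw [uC_large le_rfl, code_mul_tau, code_el, show 2269 - 2268 = 1 by norm_num, Roots.start.2.1]

/-- The element is conjugate to the involution. -/
abbrev Om {G : Type*} [Group G] (t : G) (φ : C0 →* G) (c : C0) : Prop := ∃ g, g * t * g⁻¹ = φ c

variable {G : Type*} [Group G] {t : G} {χ : Q8 →* G} {φ : C0 →* G} (X : Exact t χ φ) (S : Coo t χ)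
include X S

theorem Exact.flip_flip (c : C0) : c * Code.tau * Code.tau = c := by
  rw [mul_assoc, X.tau_sq S, mul_one]

theorem Exact.conj_mul_tau (k c : C0) : k * (c * Code.tau) * k⁻¹ = k * c * k⁻¹ * Code.tau := by
  rw [← mul_assoc k, mul_assoc (k * c) Code.tau, X.tau_comm, ← mul_assoc]

theorem Exact.inEight_base : InEight (el rootAW * Code.tau) := by
  rw [InEight, X.flip_flip S]

/-- The element of an index. -/
theorem Exact.exists_elem {i : ℕ} (hi : i < 3277) : ∃ c : C0, code c = uC i ∧ (i = 0 → c = Code.tau) ∧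
    (1 ≤ i → i ≤ 1008 → IsConj (el rootAW) c) ∧ (1009 ≤ i → i < 2269 → IsConj Code.alpha c) ∧
      (2269 ≤ i → InEight c) := by
  rcases Nat.lt_or_ge i 2269 with h | h
  · obtain ⟨c, hc, h0, h1, h2⟩ := Roots.exists_code i h
    exact ⟨c, by rw [hc, uC_small h], h0, h1, fun a _ => h2 a, fun a => absurd h (by omega)⟩
  · obtain ⟨c, hc, -, h1, -⟩ := Roots.exists_code (i - 2268) (by omega)
    refine ⟨c * Code.tau, by rw [code_mul_tau, hc, uC_large h], by omega, by omega, by omega, fun _ => ?_⟩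
    rw [InEight, X.flip_flip S]
    exact h1 (by omega) (by omega)

theorem Exact.index_eight {c : C0} (h : InEight c) : ∃ i, 2269 ≤ i ∧ i < 3277 ∧ code c = uC i := by
  obtain ⟨i, h1, h2, h3⟩ := Roots.classA_iff.1 h
  refine ⟨i + 2268, by omega, by omega, ?_⟩
  rw [uC_large (by omega), show i + 2268 - 2268 = i by omega, ← h3, ← code_mul_tau, X.flip_flip S]

theorem Exact.comm_of_cmU {i j : ℕ} {x y : C0} (hx : code x = uC i) (hy : code y = uC j) (h : cmU i j = true) :
    x * y = y * x :=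
  code_injective (by rw [code_mul, code_mul, hx, hy]; exact Roots.beqC_eq h)

theorem Exact.cmU_of_comm {i j : ℕ} {x y : C0} (hx : code x = uC i) (hy : code y = uC j) (h : x * y = y * x) :
    cmU i j = true := by
  rw [cmU, ← hx, ← hy, ← code_mul, ← code_mul, h]
  exact beqC_self' _

theorem Exact.ne_of_code {i j : ℕ} {x y : C0} (hx : code x = uC i) (hy : code y = uC j)
    (h : Roots.beqC (uC i) (uC j) = false) : x ≠ y := fun e => by
  rw [← hx, ← hy, e, beqC_self'] at h
  cases h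

variable (hsub : ∀ c, (Om t φ c) → Root c ∨ InEight c)
include hsub

/-- Both classes with trivial lifts over one automorphism do not occur together. -/
theorem Exact.not_both (hA : Om t φ (el rootAW)) (h8 : Om t φ (el rootAW * Code.tau)) : False := by
  have hst := line_start
  rw [Bool.and_eq_true, Bool.not_eq_true'] at hst
  obtain ⟨y, hy, -, hyA, -⟩ := X.exists_elem S (i := 2) (by norm_num)
  set x := el rootAW
  have hxy : x * y = y * x := X.comm_of_cmU S uC_A.symm hy hst.1
  have hyx : y ≠ x * Code.tau := fun e => by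
    have := hst.2
    rw [← hy, e, code_mul_tau, uC_A, beqC_self'] at this
    cases this
  have hne : y ≠ x := fun e => by
    have h := Roots.rootC_inj (i := 2) (i' := 1) (by norm_num) (by norm_num)
      (by rw [← uC_small (by norm_num), ← hy, e, ← uC_A, uC_small (by norm_num)])
    omega
  have hOy : Om t φ y := X.conj_omega (hyA (by norm_num) (by norm_num)) hA
  have hOy8 : Om t φ (y * Code.tau) := by
    obtain ⟨k, hk⟩ := isConj_iff.1 (hyA (by norm_num) (by norm_num))
    exact X.conj_omega (isConj_iff.2 ⟨k, by rw [X.conj_mul_tau S, hk]⟩) h8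
  obtain ⟨g0, hg0⟩ := hA
  obtain ⟨gy, hgy⟩ := hOy
  obtain ⟨gz, hgz⟩ := hOy8
  set m := g0⁻¹
  have hmx : m * φ x * m⁻¹ = t := by rw [← hg0]; simp only [m]; group
  have hcen : ∀ c : C0, x * c = c * x → m * φ c * m⁻¹ ∈ Subgroup.centralizer ({t} : Set G) := fun c hc => by
    rw [Subgroup.mem_centralizer_singleton_iff, ← hmx]
    calc m * φ c * m⁻¹ * (m * φ x * m⁻¹) = m * φ (c * x) * m⁻¹ := by rw [map_mul]; group
      _ = m * φ (x * c) * m⁻¹ := by rw [hc]
      _ = _ := by rw [map_mul]; group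
  obtain ⟨p, hp⟩ := X.exists_code (hcen Code.tau (X.tau_comm x).symm)
  obtain ⟨q, hq⟩ := X.exists_code (hcen y hxy)
  have hpO : Om t φ p := ⟨m, by rw [hp, X.tau_eq]⟩
  have hqO : Om t φ q := ⟨m * gy, by rw [hq, ← hgy]; group⟩
  have hpqO : Om t φ (p * q) := ⟨m * gz, by
    rw [map_mul, hp, hq, show m * gz * t * (m * gz)⁻¹ = m * (gz * t * gz⁻¹) * m⁻¹ by group, hgz,
      show φ (y * Code.tau) = φ (Code.tau * y) by rw [X.tau_comm], map_mul]
    group⟩
  have hpq : p * q = q * p := X.inj (by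
    rw [map_mul, map_mul, hp, hq]
    calc m * φ Code.tau * m⁻¹ * (m * φ y * m⁻¹) = m * φ (Code.tau * y) * m⁻¹ := by rw [map_mul]; group
      _ = m * φ (y * Code.tau) * m⁻¹ := by rw [X.tau_comm]
      _ = _ := by rw [map_mul]; group)
  have hp0 : p ≠ Code.tau := fun e => by
    rw [e, X.tau_eq] at hp
    have hxt : φ x = t := by
      calc φ x = m⁻¹ * (m * φ x * m⁻¹) * m := by group
        _ = m⁻¹ * (m * t * m⁻¹) * m := by rw [hmx, ← hp]
        _ = t := by group
    have h : x = Code.tau := X.inj (hxt.trans X.tau_eq.symm)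
    have := Roots.rootC_inj (i := 1) (i' := 0) (by norm_num) (by norm_num)
      (by rw [← uC_small (by norm_num), uC_A, show el rootAW = Code.tau from h, ← uC_zero, uC_small (by norm_num)])
    omega
  have hq0 : q ≠ Code.tau := fun e => by
    rw [e, X.tau_eq, ← hmx] at hq
    exact hne (X.inj (mul_left_cancel (mul_right_cancel hq)).symm)
  have hpq0 : p * q ≠ Code.tau := fun e => by
    refine hyx ?_
    have h : φ (p * q) = t := by rw [e, X.tau_eq]
    rw [map_mul, hp, hq, ← hmx] at h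
    have h' : φ (Code.tau * y) = φ x := by
      rw [map_mul]
      refine mul_left_cancel (mul_right_cancel (b := m⁻¹) (Eq.trans ?_ h))
      group
    rw [← X.inj h', X.tau_comm, X.flip_flip S]
  -- classify
  have hindex : ∀ c, (Om t φ c) → c ≠ Code.tau → ∃ i, i ≠ 0 ∧ i < 3277 ∧ code c = uC i := by
    intro c hc hct
    rcases hsub c hc with (h | h | h) | h
    · exact absurd h hct
    · obtain ⟨i, h1, h2, h3⟩ := Roots.classA_iff.1 h
      exact ⟨i, by omega, by omega, by rw [uC_small (by omega), h3]⟩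
    · obtain ⟨i, h1, h2, h3⟩ := Roots.classB_iff.1 h
      exact ⟨i, by omega, by omega, by rw [uC_small h2, h3]⟩
    · obtain ⟨i, h1, h2, h3⟩ := X.index_eight S h
      exact ⟨i, by omega, h2, h3⟩
  obtain ⟨r, hr, k, hk⟩ : ∃ r ∈ [1, 1009, 2269], ∃ k : C0, code (k * p * k⁻¹) = uC r := by
    rcases hsub p hpO with (h | h | h) | h
    · exact absurd h hp0
    · obtain ⟨k, hk⟩ := isConj_iff.1 h.symm
      exact ⟨1, by simp, k, by rw [hk, uC_A]⟩
    · obtain ⟨k, hk⟩ := isConj_iff.1 h.symm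
      exact ⟨1009, by simp, k, by rw [hk, uC_B]⟩
    · obtain ⟨k, hk⟩ := isConj_iff.1 (IsConj.symm h)
      refine ⟨2269, by simp, k, ?_⟩
      rw [uC_E, ← hk, X.conj_mul_tau S, X.flip_flip S]
  have hconj : ∀ c, c ≠ Code.tau → k * c * k⁻¹ ≠ Code.tau := fun c hc e => hc (by
    calc c = k⁻¹ * (k * c * k⁻¹) * k := by group
      _ = Code.tau := by rw [e, mul_assoc, X.tau_comm, inv_mul_cancel_left])
  obtain ⟨i, hi0, hi, hiq⟩ := hindex _ (X.conj_omega (isConj_iff.2 ⟨k, rfl⟩) hqO) (hconj q hq0)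
  obtain ⟨j, hj0, hj, hjpq⟩ := hindex _ (X.conj_omega (isConj_iff.2 ⟨k, rfl⟩) hpqO) (hconj _ hpq0)
  have h := List.all_eq_true.1 (List.all_eq_true.1 line_ok r hr) i (List.mem_range.2 hi)
  have hcm : cmU r i = true := X.cmU_of_comm S hk hiq (by
    calc k * p * k⁻¹ * (k * q * k⁻¹) = k * (p * q) * k⁻¹ := by group
      _ = k * (q * p) * k⁻¹ := by rw [hpq]
      _ = _ := by group)
  have hmem : memNZ (mulC (uC r) (uC i)) = true := by
    rw [← hk, ← hiq, ← code_mul, show k * p * k⁻¹ * (k * q * k⁻¹) = k * (p * q) * k⁻¹ by group, hjpq]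
    rw [memNZ]
    rcases Nat.lt_or_ge j 2269 with hlt | hge
    · rw [uC_small hlt, (idx_eq hlt).1, (idx_eq hlt).2, Nat.ble_eq.mpr (Nat.pos_of_ne_zero hj0)]; rfl
    · obtain ⟨d, hd, -⟩ := Roots.exists_code (j - 2268) (by omega)
      rw [uC_large hge, ← hd, flipC_code d (X.flip_flip S d), hd, (idx_eq (by omega)).1, (idx_eq (by omega)).2,
        Nat.ble_eq.mpr (show 1 ≤ j - 2268 by omega), Nat.ble_eq.mpr (show j - 2268 ≤ 1008 by omega)]
      simp
  rw [hcm, hmem, show Nat.beq i 0 = false by rw [Bool.eq_false_iff, ne_eq, Nat.beq_eq]; exact hi0] at h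
  cases h

section Third

variable (hA : ¬ Om t φ (el rootAW))
include hA

/-- An index of a conjugate. -/
theorem Exact.index_of {c : C0} (hc : Om t φ c) : ∃ i, i < 3277 ∧ inI i = true ∧ code c = uC i := by
  rcases hsub c hc with (h | h | h) | h
  · exact ⟨0, by norm_num, rfl, by rw [h, uC_zero]⟩
  · exact absurd (X.conj_omega h.symm hc) hA
  · obtain ⟨i, h1, h2, h3⟩ := Roots.classB_iff.1 h
    exact ⟨i, by omega, by simp [inI, Nat.ble_eq, Nat.blt_eq]; omega, by rw [uC_small h2, h3]⟩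
  · obtain ⟨i, h1, h2, h3⟩ := X.index_eight S h
    exact ⟨i, h2, by simp [inI, Nat.ble_eq, Nat.blt_eq]; omega, h3⟩

theorem Exact.memI_of {c : C0} (hc : Om t φ c) : memI (code c) = true := by
  obtain ⟨i, hi, hI, hci⟩ := X.index_of S hsub hA hc
  simp only [inI, Bool.or_eq_true, Bool.and_eq_true, Nat.beq_eq, Nat.ble_eq, Nat.blt_eq] at hI
  rw [memI, hci]
  rcases Nat.lt_or_ge i 2269 with hlt | hge
  · rw [uC_small hlt, (idx_eq hlt).1, (idx_eq hlt).2]
    rcases hI with rfl | hI
    · rfl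
    · rw [Nat.ble_eq.mpr hI.1]; simp
  · obtain ⟨d, hd, -⟩ := Roots.exists_code (i - 2268) (by omega)
    rw [uC_large hge, ← hd, flipC_code d (X.flip_flip S d), hd, (idx_eq (by omega)).1, (idx_eq (by omega)).2,
      Nat.ble_eq.mpr (show 1 ≤ i - 2268 by omega), Nat.ble_eq.mpr (show i - 2268 ≤ 1008 by omega)]
    simp

/-- The pair of the involution and an element of the third class has no further conjugate. -/
theorem Exact.third {x d : C0} (hx : InEight x) (hd : Om t φ d) (hd0 : d ≠ Code.tau) (hdx : d ≠ x)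
    (hc : d * x = x * d) (hO : Om t φ (d * (Code.tau * x))) : False := by
  obtain ⟨k, hk'⟩ := isConj_iff.1 (IsConj.symm hx)
  have hk : code (k * x * k⁻¹) = uC 2269 := by rw [uC_E, ← hk', X.conj_mul_tau S, X.flip_flip S]
  obtain ⟨i, hi, hI, hdi⟩ := X.index_of S hsub hA (X.conj_omega (isConj_iff.2 ⟨k, rfl⟩) hd)
  have hm := X.memI_of S hsub hA (X.conj_omega (isConj_iff.2 ⟨k, rfl⟩) hO)
  rw [show k * (d * (Code.tau * x)) * k⁻¹ = k * d * k⁻¹ * (Code.tau * (k * x * k⁻¹)) by
    rw [← mul_assoc Code.tau, ← mul_assoc Code.tau, X.tau_comm k, mul_assoc k Code.tau]; group] at hm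
  rw [code_mul (k * d * k⁻¹), code_mul Code.tau, hdi, ← uC_zero, hk] at hm
  have h := List.all_eq_true.1 third_none i (List.mem_range.2 hi)
  have hcm : cmU i 2269 = true := X.cmU_of_comm S hdi hk (by
    calc k * d * k⁻¹ * (k * x * k⁻¹) = k * (d * x) * k⁻¹ := by group
      _ = k * (x * d) * k⁻¹ := by rw [hc]
      _ = _ := by group)
  have h0 : Nat.beq i 0 = false := by
    rw [Bool.eq_false_iff, ne_eq, Nat.beq_eq]
    rintro rfl
    have e : k * d * k⁻¹ = Code.tau := code_injective (hdi.trans uC_zero)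
    refine hd0 ?_
    calc d = k⁻¹ * (k * d * k⁻¹) * k := by group
      _ = Code.tau := by rw [e, mul_assoc, X.tau_comm, inv_mul_cancel_left]
  have h1 : Nat.beq i 2269 = false := by
    rw [Bool.eq_false_iff, ne_eq, Nat.beq_eq]
    rintro rfl
    exact hdx (mul_left_cancel (mul_right_cancel (code_injective (hdi.trans hk.symm))))
  rw [prodU, hI, hcm, hm, h0, h1] at h
  cases h

omit hsub hA in
/-- A configuration over a conjugate seen from that conjugate. -/
theorem Exact.pull {m : G} {x y c e : C0} (hm : m * φ x * m⁻¹ = t) (hy : Om t φ y) (hc : Om t φ c) (he : Om t φ e)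
    (hxy : x * y = y * x) (hcx : c * x = x * c) (hcy : c * y = y * c) (hprod : c * (x * y) = e)
    (hyx : y ≠ x) (hcx' : c ≠ x) (hcy' : c ≠ y) :
    ∃ b d : C0, φ b = m * φ y * m⁻¹ ∧ φ d = m * φ c * m⁻¹ ∧ (Om t φ b) ∧ (Om t φ d) ∧ b ≠ Code.tau ∧ d ≠ Code.tau ∧
      d ≠ b ∧ d * b = b * d ∧ Om t φ (d * (Code.tau * b)) := by
  have hcen : ∀ z : C0, z * x = x * z → m * φ z * m⁻¹ ∈ Subgroup.centralizer ({t} : Set G) := fun z hz => by
    rw [Subgroup.mem_centralizer_singleton_iff, ← hm]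
    calc m * φ z * m⁻¹ * (m * φ x * m⁻¹) = m * φ (z * x) * m⁻¹ := by rw [map_mul]; group
      _ = m * φ (x * z) * m⁻¹ := by rw [hz]
      _ = _ := by rw [map_mul]; group
  obtain ⟨b, hb⟩ := X.exists_code (hcen y hxy.symm)
  obtain ⟨d, hd⟩ := X.exists_code (hcen c hcx)
  obtain ⟨gy, hgy⟩ := hy
  obtain ⟨gc, hgc⟩ := hc
  obtain ⟨ge, hge⟩ := he
  have hne : ∀ {z : C0} {w : C0}, φ w = m * φ z * m⁻¹ → z ≠ x → w ≠ Code.tau := fun {z w} hw hz e => by
    rw [e, X.tau_eq, ← hm] at hw
    exact hz (X.inj (mul_left_cancel (mul_right_cancel hw)).symm)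
  refine ⟨b, d, hb, hd, ⟨m * gy, by rw [hb, ← hgy]; group⟩, ⟨m * gc, by rw [hd, ← hgc]; group⟩,
    hne hb hyx, hne hd hcx', fun e' => ?_, X.inj ?_, ⟨m * ge, ?_⟩⟩
  · rw [e', hb] at hd
    exact hcy' (X.inj (mul_left_cancel (mul_right_cancel hd))).symm
  · rw [map_mul, map_mul, hb, hd]
    calc m * φ c * m⁻¹ * (m * φ y * m⁻¹) = m * φ (c * y) * m⁻¹ := by rw [map_mul]; group
      _ = m * φ (y * c) * m⁻¹ := by rw [hcy]
      _ = _ := by rw [map_mul]; group
  · rw [show m * ge * t * (m * ge)⁻¹ = m * (ge * t * ge⁻¹) * m⁻¹ by group, hge, ← hprod, map_mul φ d,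
      map_mul φ Code.tau, X.tau_eq, hb, hd, ← hm, map_mul φ c, map_mul φ x]
    group

/-- The third class does not occur. -/
theorem Exact.not_third (h8 : Om t φ (el rootAW * Code.tau)) : False := by
  classical
  have hsrc := source_ok
  simp only [Bool.and_eq_true, List.all_eq_true, Bool.not_eq_true', Nat.blt_eq] at hsrc
  obtain ⟨⟨⟨⟨hWlo, hWhi⟩, hWne⟩, hWcm⟩, hwit⟩ := hsrc
  set u := el rootAW * Code.tau
  have hu : code u = uC 2269 := uC_E.symm
  have hEightO : ∀ {c : C0}, InEight c → Om t φ c := fun {c} hc => by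
    obtain ⟨k, hk⟩ := isConj_iff.1 hc
    exact X.conj_omega (isConj_iff.2 ⟨k, by rw [X.conj_mul_tau S, hk, X.flip_flip S]⟩) h8
  obtain ⟨w, hw, -, -, -, hw8⟩ := X.exists_elem S (i := eightW) hWhi
  have hw8 := hw8 hWlo.le
  have hwu : w ≠ u := X.ne_of_code S hw hu hWne
  have huw : u * w = w * u := X.comm_of_cmU S hu hw hWcm
  obtain ⟨g0, hg0⟩ := h8
  set m := g0⁻¹
  have hm : m * φ u * m⁻¹ = t := by rw [← hg0]; simp only [m]; group
  -- one witness
  have hB : Om t φ Code.alpha := by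
    obtain ⟨p, hp, hp8⟩ := List.any_eq_true.1 source_one
    rw [Bool.and_eq_true, Nat.ble_eq, Nat.ble_eq] at hp8
    obtain ⟨⟨⟨⟨⟨⟨hI1, hI2⟩, hne1⟩, hne2⟩, hcm1⟩, hcm2⟩, hpr⟩ := hwit p hp
    simp only [inI, Bool.or_eq_true, Bool.and_eq_true, Nat.beq_eq, Nat.ble_eq, Nat.blt_eq] at hI1 hI2
    obtain ⟨c, hc, -, -, -, hc8⟩ := X.exists_elem S (i := p.1) (by omega)
    obtain ⟨e, he, -, -, -, he8⟩ := X.exists_elem S (i := p.2) (by omega)
    obtain ⟨b, d, -, -, hbO, hdO, hb0, hd0, hdb, hcomm, hO⟩ := X.pull S hm (hEightO hw8) (hEightO (hc8 hp8.1))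
      (hEightO (he8 hp8.2)) huw (X.comm_of_cmU S hc hu hcm1) (X.comm_of_cmU S hc hw hcm2)
      (code_injective (by rw [code_mul, code_mul, hc, hu, hw, he]; exact Roots.beqC_eq hpr)) hwu
      (X.ne_of_code S hc hu hne1) (X.ne_of_code S hc hw hne2)
    rcases hsub b hbO with (h | h | h) | h
    · exact absurd h hb0
    · exact absurd (X.conj_omega h.symm hbO) hA
    · exact X.conj_omega h.symm hbO
    · exact (X.third S hsub hA h hdO hd0 hdb hcomm hO).elim
  have hall : ∀ i, inI i = true → ∃ c : C0, code c = uC i ∧ Om t φ c := by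
    intro i hI
    simp only [inI, Bool.or_eq_true, Bool.and_eq_true, Nat.beq_eq, Nat.ble_eq, Nat.blt_eq] at hI
    obtain ⟨c, hc, h0, -, h2, h3⟩ := X.exists_elem S (i := i) (by omega)
    refine ⟨c, hc, ?_⟩
    rcases hI with rfl | hI
    · exact ⟨1, by rw [h0 rfl, X.tau_eq]; group⟩
    · rcases Nat.lt_or_ge i 2269 with h | h
      · exact X.conj_omega (h2 hI.1 h) hB
      · exact hEightO (h3 h)
  -- the images
  have hpull : ∀ p ∈ eightWit, ∃ b d c : C0, code c = uC p.1 ∧ φ b = m * φ w * m⁻¹ ∧ φ d = m * φ c * m⁻¹ ∧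
      (Om t φ b) ∧ (Om t φ d) ∧ b ≠ Code.tau ∧ d ≠ Code.tau ∧ d ≠ b ∧ d * b = b * d ∧ Om t φ (d * (Code.tau * b)) := by
    intro p hp
    obtain ⟨⟨⟨⟨⟨⟨hI1, hI2⟩, hne1⟩, hne2⟩, hcm1⟩, hcm2⟩, hpr⟩ := hwit p hp
    obtain ⟨c, hc, hcO⟩ := hall _ hI1
    obtain ⟨e, he, heO⟩ := hall _ hI2
    obtain ⟨b, d, h⟩ := X.pull S hm (hEightO hw8) hcO heO huw (X.comm_of_cmU S hc hu hcm1)
      (X.comm_of_cmU S hc hw hcm2)
      (code_injective (by rw [code_mul, code_mul, hc, hu, hw, he]; exact Roots.beqC_eq hpr)) hwu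
      (X.ne_of_code S hc hu hne1) (X.ne_of_code S hc hw hne2)
    exact ⟨b, d, c, hc, h⟩
  choose fb fd fc hfc hfbw hfdc hfbO hfdO hfb0 hfd0 hfdb hfcm hfO using hpull
  obtain ⟨p0, hp0⟩ : ∃ p, p ∈ eightWit := by
    obtain ⟨p, hp, -⟩ := List.any_eq_true.1 source_one
    exact ⟨p, hp⟩
  set b := fb p0 hp0
  have hbeq : ∀ p hp, fb p hp = b := fun p hp => X.inj ((hfbw p hp).trans (hfbw p0 hp0).symm)
  obtain ⟨k, hk⟩ : ∃ k : C0, k * b * k⁻¹ = Code.alpha := by
    rcases hsub b (hfbO p0 hp0) with (h | h | h) | h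
    · exact absurd h (hfb0 p0 hp0)
    · exact absurd (X.conj_omega h.symm (hfbO p0 hp0)) hA
    · exact isConj_iff.1 h.symm
    · exact (X.third S hsub hA h (hfdO p0 hp0) (hfd0 p0 hp0) (hfdb p0 hp0) (hfcm p0 hp0) (hfO p0 hp0)).elim
  have hktau : ∀ z, k * z * k⁻¹ = Code.tau → z = Code.tau := fun z e => by
    calc z = k⁻¹ * (k * z * k⁻¹) * k := by group
      _ = Code.tau := by rw [e, mul_assoc, X.tau_comm, inv_mul_cancel_left]
  have htgt : ∀ p hp, ∃ i : Fin eightT.length, code (k * fd p hp * k⁻¹) = uC eightT[i.val] := by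
    intro p hp
    obtain ⟨i, hi, hI, hdi⟩ := X.index_of S hsub hA (X.conj_omega (isConj_iff.2 ⟨k, rfl⟩) (hfdO p hp))
    have hcm : cmU i 1009 = true := X.cmU_of_comm S hdi (j := 1009) uC_B.symm (by
      rw [← hk, ← hbeq p hp]
      calc k * fd p hp * k⁻¹ * (k * fb p hp * k⁻¹) = k * (fd p hp * fb p hp) * k⁻¹ := by group
        _ = k * (fb p hp * fd p hp) * k⁻¹ := by rw [hfcm p hp]
        _ = _ := by group)
    have hmI : memI (prodU i 0 1009) = true := by
      have h := X.memI_of S hsub hA (X.conj_omega (isConj_iff.2 ⟨k, rfl⟩) (hfO p hp))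
      rw [hbeq p hp, show k * (fd p hp * (Code.tau * b)) * k⁻¹ = k * fd p hp * k⁻¹ * (Code.tau * (k * b * k⁻¹)) by
        rw [← mul_assoc Code.tau, ← mul_assoc Code.tau, X.tau_comm k, mul_assoc k Code.tau]; group, hk,
        code_mul (k * fd p hp * k⁻¹), code_mul Code.tau, hdi, ← uC_zero, ← uC_B] at h
      exact h
    have h0 : Nat.beq i 0 = false := by
      rw [Bool.eq_false_iff, ne_eq, Nat.beq_eq]
      rintro rfl
      exact hfd0 p hp (hktau _ (code_injective (hdi.trans uC_zero)))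
    have h9 : Nat.beq i 1009 = false := by
      rw [Bool.eq_false_iff, ne_eq, Nat.beq_eq]
      rintro rfl
      refine hfdb p hp ?_
      rw [hbeq p hp]
      exact mul_left_cancel (mul_right_cancel ((code_injective (hdi.trans uC_B)).trans hk.symm))
    have h := List.all_eq_true.1 target_complete i (List.mem_range.2 hi)
    rw [hI, hcm, hmI, h0, h9] at h
    simp only [Bool.not_true, Bool.false_or, List.any_eq_true, Nat.beq_eq] at h
    obtain ⟨q, hq, rfl⟩ := h
    obtain ⟨n, hn, rfl⟩ := List.mem_iff_getElem.1 hq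
    exact ⟨⟨n, hn⟩, hdi⟩
  choose ft hft using htgt
  obtain ⟨hlT, hlW, hnd⟩ := sizes
  let F : Fin eightWit.length → Fin eightT.length := fun n => ft eightWit[n.val] (List.getElem_mem n.2)
  have hF : Function.Injective F := fun a c e => by
    have h1 : k * fd _ (List.getElem_mem a.2) * k⁻¹ = k * fd _ (List.getElem_mem c.2) * k⁻¹ :=
      code_injective ((hft _ _).trans ((congrArg (fun i : Fin eightT.length => uC eightT[i.val]) e).trans
        (hft _ _).symm))
    have h2 : fc _ (List.getElem_mem a.2) = fc _ (List.getElem_mem c.2) := X.inj (by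
      have h := congrArg φ (mul_left_cancel (mul_right_cancel h1))
      rw [hfdc, hfdc] at h
      exact mul_left_cancel (mul_right_cancel h))
    have h3 := congrArg (fun z => Roots.key (code z)) h2
    simp only [hfc] at h3
    exact Fin.ext (hnd.getElem_inj_iff.1 (show (eightWit.map fun p => Roots.key (uC p.1))[a.val]'(by simp) =
      (eightWit.map fun p => Roots.key (uC p.1))[c.val]'(by simp) by simpa using h3))
  have hFs : Function.Surjective F := (hF.bijective_of_nat_card_le (by rw [Nat.card_fin, Nat.card_fin, hlT, hlW])).2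
  -- the image of the involution
  obtain ⟨a0, ha0⟩ := X.exists_code (c := m * t * m⁻¹) (by
    rw [Subgroup.mem_centralizer_singleton_iff]
    calc m * t * m⁻¹ * t = m * t * m⁻¹ * (m * φ u * m⁻¹) := by rw [hm]
      _ = m * (t * φ u) * m⁻¹ := by group
      _ = m * (φ u * t) * m⁻¹ := by rw [Coo.comm_t (X.mem u)]
      _ = m * φ u * m⁻¹ * (m * t * m⁻¹) := by group
      _ = t * (m * t * m⁻¹) := by rw [hm])
  set a := k * a0 * k⁻¹ with ha
  have hn : φ k * m * t * (φ k * m)⁻¹ = φ a := by rw [ha, map_mul, map_mul, map_inv, ha0]; group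
  have haO : Om t φ a := ⟨φ k * m, hn⟩
  have hcomm : ∀ z z' : C0, φ z' = m * φ z * m⁻¹ → a * (k * z' * k⁻¹) = k * z' * k⁻¹ * a := fun z z' hz => by
    have h : a0 * z' = z' * a0 := X.inj (by
      rw [map_mul, map_mul, ha0, hz]
      calc m * t * m⁻¹ * (m * φ z * m⁻¹) = m * (t * φ z) * m⁻¹ := by group
        _ = m * (φ z * t) * m⁻¹ := by rw [Coo.comm_t (X.mem z)]
        _ = _ := by group)
    rw [ha]
    calc k * a0 * k⁻¹ * (k * z' * k⁻¹) = k * (a0 * z') * k⁻¹ := by group
      _ = k * (z' * a0) * k⁻¹ := by rw [h]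
      _ = _ := by group
  have hab : a * Code.alpha = Code.alpha * a := by
    have h := hcomm w b (hfbw p0 hp0)
    rwa [hk] at h
  have hrA : el rootAW ≠ 1 := fun hh => by
    have h5 := congrArg code hh
    rw [code_el, code_one] at h5
    exact absurd h5 (by decide +kernel)
  have ha0' : a ≠ Code.tau := fun e => by
    have h := hktau a0 e
    rw [h, X.tau_eq] at ha0
    have e2 : φ u = t := by
      calc φ u = m⁻¹ * (m * φ u * m⁻¹) * m := by group
        _ = m⁻¹ * (m * t * m⁻¹) * m := by rw [hm, ← ha0]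
        _ = t := by group
    have e3 : el rootAW * Code.tau = Code.tau := X.inj (e2.trans X.tau_eq.symm)
    exact hrA (mul_eq_right.1 e3)
  have haα : a ≠ Code.alpha := fun e => by
    have h : a0 = b := mul_left_cancel (mul_right_cancel (e.trans hk.symm))
    rw [h, hfbw p0 hp0] at ha0
    have e2 : φ w = t := mul_left_cancel (mul_right_cancel ha0)
    have e3 : w = Code.tau := X.inj (e2.trans X.tau_eq.symm)
    rw [InEight, e3, X.tau_sq S] at hw8
    exact hrA (isConj_one_left.1 hw8)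
  obtain ⟨ia, hia, hiaI, hiac⟩ := X.index_of S hsub hA haO
  have hia0 : Nat.beq ia 0 = false := by
    rw [Bool.eq_false_iff, ne_eq, Nat.beq_eq]
    rintro rfl
    exact ha0' (code_injective (hiac.trans uC_zero))
  have hia9 : Nat.beq ia 1009 = false := by
    rw [Bool.eq_false_iff, ne_eq, Nat.beq_eq]
    rintro rfl
    exact haα (code_injective (hiac.trans uC_B))
  have h := List.all_eq_true.1 none_all ia (List.mem_range.2 hia)
  rw [hiaI, X.cmU_of_comm S hiac uC_B.symm hab, hia0, hia9] at h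
  simp only [Bool.not_true, Bool.false_or, Bool.or_eq_true, List.any_eq_true, Bool.not_eq_true'] at h
  rcases h with ⟨q, hq, hcm⟩ | ⟨p, hp, hpa⟩
  · obtain ⟨n, hn', rfl⟩ := List.mem_iff_getElem.1 hq
    obtain ⟨j, hj⟩ := hFs ⟨n, hn'⟩
    have h1 := hft eightWit[j.val] (List.getElem_mem j.2)
    rw [show ft eightWit[j.val] (List.getElem_mem j.2) = ⟨n, hn'⟩ from hj] at h1
    rw [X.cmU_of_comm S hiac h1 (hcomm _ _ (hfdc _ _))] at hcm
    cases hcm
  · have hpa' : ia = p.1 := Nat.eq_of_beq_eq_true hpa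
    have he := List.all_eq_true.1 escape_ok p hp
    simp only [Bool.and_eq_true, Bool.not_eq_true', Bool.or_eq_true, Nat.beq_eq] at he
    obtain ⟨⟨⟨⟨⟨⟨⟨hdI, heI⟩, hz⟩, hdz⟩, hda⟩, hcdz⟩, hcda⟩, hpr⟩ := he
    rw [← hpa'] at hda hcda hpr
    obtain ⟨d, hd, hdO⟩ := hall _ hdI
    obtain ⟨e, he', heO⟩ := hall _ heI
    set n := φ k * m
    have hna : n⁻¹ * φ a * n⁻¹⁻¹ = t := by rw [← hn]; group
    obtain ⟨z, z8, hzc, hzO, hza, hzn, hzne⟩ : ∃ z z8 : C0, code z = uC p.2.1 ∧ (Om t φ z) ∧ a * z = z * a ∧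
        (φ z8 = n⁻¹ * φ z * n⁻¹⁻¹ ∧ InEight z8) ∧ z ≠ a := by
      rcases hz with hz | hz <;> rw [hz]
      · refine ⟨Code.tau, u, uC_zero.symm, ⟨1, by rw [X.tau_eq]; group⟩, (X.tau_comm a).symm, ⟨?_, X.inEight_base S⟩,
          ha0'.symm⟩
        rw [X.tau_eq]
        calc φ u = m⁻¹ * (m * φ u * m⁻¹) * m := by group
          _ = m⁻¹ * ((φ k)⁻¹ * (φ k * t)) * m := by rw [hm]; group
          _ = m⁻¹ * ((φ k)⁻¹ * (t * φ k)) * m := by rw [Coo.comm_t (X.mem k)]
          _ = _ := by simp only [n]; group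
      · refine ⟨Code.alpha, w, uC_B.symm, hB, hab, ⟨?_, hw8⟩, haα.symm⟩
        rw [← hk, map_mul, map_mul, map_inv, hfbw p0 hp0]
        simp only [n]
        group
    obtain ⟨b', d', hb', -, -, hd'O, -, hd'0, hd'b, hcm', hO'⟩ := X.pull S hna hzO hdO heO hza
      (X.comm_of_cmU S hd hiac hcda) (X.comm_of_cmU S hd hzc hcdz) (e := e) (code_injective (by
        rw [hza, code_mul, code_mul, hd, hzc, hiac, he']
        exact Roots.beqC_eq hpr))
      hzne (X.ne_of_code S hd hiac hda) (X.ne_of_code S hd hzc hdz)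
    have hb8 : b' = z8 := X.inj (hb'.trans hzn.1.symm)
    exact X.third S hsub hA (hb8 ▸ hzn.2) hd'O hd'0 hd'b hcm' hO'

end Third

/-- **The third class contains no conjugate.** -/
theorem Exact.eight_free : ∀ c, (Om t φ c) → Root c := by
  intro c hc
  rcases hsub c hc with h | h
  · exact h
  exfalso
  obtain ⟨k, hk⟩ := isConj_iff.1 (IsConj.symm h)
  have h8 : Om t φ (el rootAW * Code.tau) :=
    X.conj_omega (isConj_iff.2 ⟨k, by rw [← hk, X.conj_mul_tau S, X.flip_flip S]⟩) hc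
  by_cases hA : Om t φ (el rootAW)
  · exact X.not_both S hsub hA h8
  · exact X.not_third S hsub hA h8

end Cfsg.Agent.Co2Type.Local
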