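import Mathlib.Logic.Basic

/-!
The witnesses against the third class of conjugates, computed; indices as in the tables of roots, then the first
class times the involution.
-/

set_option autoImplicit false

namespace Cfsg.Agent.Co2Type.Local.EightData

/-- The second element of the pair in the third class. -/
def eightW : Nat := 2270

/-- Its further elements with their products. -/
def eightWit : List (Nat × Nat) := [
  (1808, 2053), (2025, 2118), (2053, 1808), (2118, 2025), (2175, 2219), (2219, 2175),
  (2272, 2276), (2275, 2283), (2276, 2272), (2283, 2275), (2337, 2431), (2361, 2481),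
  (2431, 2337), (2481, 2361), (2497, 2714), (2642, 2963), (2690, 2804), (2714, 2497),
  (2717, 2979), (2766, 2872), (2804, 2690), (2810, 2972), (2872, 2766), (2876, 3174),
  (2932, 2974), (2947, 3158), (2963, 2642), (2972, 2810), (2974, 2932), (2979, 2717),
  (2995, 3148), (3079, 3121), (3121, 3079), (3148, 2995), (3158, 2947), (3174, 2876)]

/-- The further elements of the pair of the involution with the base of the second class. -/
def eightT : List Nat := [
  1071, 1090, 1144, 1170, 1194, 1256, 1399, 1482, 1496,
  1510, 1531, 1580, 1595, 1598, 1725, 1738, 1742, 1764,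
  1773, 1799, 1821, 1831, 1892, 1941, 1969, 1970, 1975,
  1976, 1992, 2020, 2057, 2090, 2093, 2102, 2206, 2214]

/-- Elements commuting with all of those, with a further element of a pair that has none. -/
def eightEsc : List (Nat × Nat × Nat × Nat) := [
  (1010, 0, 1119, 2235), (1012, 0, 1071, 2093), (1018, 0, 1119, 2207), (2601, 1009, 1016, 2053),
  (2682, 1009, 1027, 1808), (2709, 1009, 1014, 1991), (2972, 1009, 1011, 2082), (3073, 1009, 1572, 1855),
  (3146, 1009, 1632, 1999), (3212, 1009, 1730, 1817), (3232, 1009, 1272, 2144), (3233, 1009, 1592, 1953),
  (3260, 1009, 1238, 2248), (3271, 1009, 1278, 2147), (3276, 1009, 1231, 1883)]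

end Cfsg.Agent.Co2Type.Local.EightData
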