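import Cfsg.Agent.Lib.Co2Type.Local.Lifts
import Cfsg.Agent.Lib.Co2Type.Local.Classes
import Cfsg.Agent.Lib.Co2Type.Code.Emb

/-!
Either the code group embeds onto the centraliser, or the transvection lifts have order four and then involutions
lie only over two classes of the automorphism part.
-/

set_option autoImplicit false
set_option maxRecDepth 20000
set_option linter.style.haveILetI false
set_option maxHeartbeats 1000000

namespace Cfsg.Agent.Co2Type.Local

open Code End

/-- The conjugating word to a product of commuting transvections, and the product. -/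
def sqTbl : Fin 5 → List (Fin 7) × List (Fin 7) :=
  ![([], []), ([5, 4, 3, 0, 1, 2, 6, 3, 4, 5, 0, 1, 2, 3, 4, 1, 2, 3, 0, 1, 2], [3, 5, 6]),
    ([2, 3, 4, 0, 1, 2, 3, 1], [0, 2]), ([6, 5, 4, 3, 2, 0, 1], [0]), ([4, 1, 2, 3, 0, 1, 2, 6], [0, 2, 4])]

/-- The representatives as words in the seven. -/
def wv (k : Fin 5) : List (Fin 7) :=
  (Classify.wRepW k).map fun z => ⟨(z.val - 8) % 7, Nat.mod_lt _ (by norm_num)⟩

theorem wv_up : ∀ k, up (wv k) = Classify.wRepW k := by decide +kernel

theorem sq_conj : ∀ k : Fin 5,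
    eqW (up (sqTbl k).1 ++ up (sqTbl k).2 ++ (up (sqTbl k).1).reverse) (Classify.wRepW k) = true ∧
      eqW (Classify.wRepW k ++ Classify.wRepW k) [] = true ∧ (cw (Classify.wRepW k)).1 = 0 := by decide +kernel

theorem tgt_apart : ∀ k : Fin 5, (sqTbl k).2.Pairwise fun i j => adj i j = false ∧ i ≠ j := by decide +kernel

theorem no_root : ∀ k : Fin 5, (k.val = 2 ∨ k.val = 3) →
    ((List.range 512).all fun v => !Nat.beq (qmulN v (appL (Classify.wC k) v)) 256) = true := by decide +kernel

/-- The unit vectors. -/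
def co (i : Fin 8) : Q8 := ⟨2 ^ i.val, (Nat.pow_lt_pow_right (by norm_num) i.2).trans (by norm_num)⟩

theorem co_rel : ∀ i j : Fin 8, co i * co i = 1 ∧ zt * co i = co i * zt ∧
    (i.val + j.val ≠ 7 → co i * co j = co j * co i) ∧ (i.val + j.val = 7 → co i * co j = zt * (co j * co i)) := by
  decide +kernel

theorem act_code : ∀ (k : Fin 7) (i : Fin 8),
    appL (autImg k) (2 ^ i.val) = qmulN (actTbl k i) (if (sgnTbl k).testBit i.val then 256 else 0) ∧
      actTbl k i < 256 := by decide +kernel

variable {G : Type*} [Group G] {t : G} {χ : Q8 →* G}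

/-- No involution of the centraliser lies over the classes with non-trivial lifts. -/
def Twisted (t : G) (χ : Q8 →* G) : Prop :=
  ∀ c x, c ∈ Subgroup.centralizer ({t} : Set G) → c * c = 1 → Rel χ c x → x.right ≠ 1 →
    x * x = 1 ∧ ∃ j : Fin 10, j.val ∈ [2, 3, 4, 9] ∧ IsConj (el (repW j)) x

theorem conjQ_gen (k : Fin 7) : conjQ (el (up [k])) = autA k := by
  refine MulEquiv.ext fun v => ?_
  simp [el, up, genC, conjQ_apply]

theorem conjQ_wrep (k : Fin 5) (v : Q8) :
    (conjQ (el (Classify.wRepW k)) v).n = appL (Classify.wC k) v.n := by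
  have h := code_el (Classify.wRepW k)
  rw [← cw_eq] at h
  have hl : (el (Classify.wRepW k)).left = 1 := Q8.ext ((congrArg Prod.fst h).trans (sq_conj k).2.2)
  rw [conjQ_apply, hl, one_mul, inv_one, mul_one, apply_eq]
  exact congrArg (fun l => appL l v.n) (congrArg Prod.snd h)

variable (S : Coo t χ)
include S

theorem Coo.qgens : QGens t fun i => χ (co i) := by
  refine ⟨S.t_sq, S.t_ne, fun i => ?_, fun i => ?_, fun i j h => ?_, fun i j h => ?_⟩
  · rw [← S.zt_eq, ← map_mul, ← map_mul, (co_rel i i).2.1]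
  · rw [← map_mul, (co_rel i i).1, map_one]
  · rw [← map_mul, ← map_mul, (co_rel i j).2.2.1 h]
  · rw [← S.zt_eq, ← map_mul, ← map_mul, ← map_mul, (co_rel i j).2.2.2 h]

theorem Coo.qhom_eq (a : Q8) : S.qgens.qhom a = χ a := by
  revert a
  refine q8_induction (by rw [map_one, map_one]) fun a e he ih => ?_
  rw [map_mul, map_mul, ih]
  congr 1
  rcases List.mem_cons.1 he with rfl | he'
  · rw [show (⟨256, gen_lt 256 he⟩ : Q8) = zt from rfl, S.qgens.qhom_zt, S.zt_eq]
  · obtain ⟨i, rfl⟩ : ∃ i : Fin 8, 2 ^ i.val = e :=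
      (by decide : ∀ e ∈ stdImg, ∃ j : Fin 8, 2 ^ j.val = e) e he'
    rw [S.qgens.qhom_q]
    rfl

variable {a : Fin 7 → G} (L : Lifts t χ a)
include L

/-- With lifts of order four. -/
theorem twisted_of_lifts (hsq : ∀ k, a k * a k = zb t true)
    (hcomm : ∀ k l, adj k l = false → k ≠ l → Comm t true (a k) (a l)) : Twisted t χ := by
  intro c x hc hc2 hrel hne
  have hr2 : x.right * x.right = 1 := by
    have h := hrel.mul hrel
    rw [hc2] at h
    rcases S.code_uniq (Rel.one χ) h with e | e
    · simpa using congrArg SemidirectProduct.right e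
    · have := congrArg SemidirectProduct.right e
      rw [tau_eq_inl] at this
      simpa using this
  obtain ⟨z, k, hk⟩ := exists_wrep hr2
  obtain ⟨d, hd, hdz⟩ := S.surj z
  set y := z * x * z⁻¹
  set E := el (Classify.wRepW k) with hE
  have hrel' : Rel χ (d * c * d⁻¹) y := (hdz.mul hrel).mul hdz.inv
  have hc' : d * c * d⁻¹ ∈ Subgroup.centralizer ({t} : Set G) := mul_mem (mul_mem hd hc) (inv_mem hd)
  have hc2' : d * c * d⁻¹ * (d * c * d⁻¹) = 1 := by
    rw [show d * c * d⁻¹ * (d * c * d⁻¹) = d * (c * c) * d⁻¹ by group, hc2, mul_one, mul_inv_cancel]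
  have hEl : E.left = 1 := by
    have h := code_el (Classify.wRepW k)
    rw [← cw_eq] at h
    exact Q8.ext ((congrArg Prod.fst h).trans (sq_conj k).2.2)
  have hy : y = SemidirectProduct.inl y.left * E := by
    refine SemidirectProduct.ext ?_ (by simpa using hk)
    simp [hEl]
  set v := y.left
  set l := lift a (wv k)
  have hl : Rel χ l E := by
    have h := rel_lift L.rel (wv k)
    rwa [wv_up] at h
  have hlm : l ∈ Subgroup.centralizer ({t} : Set G) := L.lift_mem _
  have hg : lift a (sqTbl k).1 ∈ Subgroup.centralizer ({t} : Set G) := L.lift_mem _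
  set g := lift a (sqTbl k).1
  set p := lift a (sqTbl k).2
  have hp : Rel χ (g * p * g⁻¹) E := by
    have h := ((rel_lift L.rel (sqTbl k).1).mul (rel_lift L.rel (sqTbl k).2)).mul (rel_lift L.rel (sqTbl k).1).inv
    rwa [el_reverse, ← el_append, ← el_append, of_eqW (sq_conj k).1] at h
  obtain ⟨f, hf⟩ := S.exists_zb (mul_mem (mul_mem hg (L.lift_mem _)) (inv_mem hg)) hlm hp hl
  have hp2 : p * p = zb t (sqBit true true (sqTbl k).2.length) := by
    have := prod_sq S ((sqTbl k).2.map a) (fun u hu => by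
        obtain ⟨i, -, rfl⟩ := List.mem_map.1 hu; exact L.mem i)
      (fun u hu => by obtain ⟨i, -, rfl⟩ := List.mem_map.1 hu; exact hsq i)
      (List.pairwise_map.2 ((tgt_apart k).imp fun {i j} h => hcomm i j h.1 h.2))
    rwa [List.length_map] at this
  have hl2 : l * l = zb t (sqBit true true (sqTbl k).2.length) := by
    rw [hf, mul_assoc (g * p * g⁻¹), ← mul_assoc (zb t f), ← zb_comm (mul_mem (mul_mem hg (L.lift_mem _)) (inv_mem hg)),
      mul_assoc (g * p * g⁻¹) (zb t f), S.zb_xor, Bool.xor_self, zb_false, mul_one,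
      show g * p * g⁻¹ * (g * p * g⁻¹) = g * (p * p) * g⁻¹ by group, hp2, zb_comm hg, mul_inv_cancel_right]
  have hcl : χ (v * conjQ E v) * zb t (sqBit true true (sqTbl k).2.length) = 1 := by
    have h' : Rel χ (χ v * l) y := by
      rw [hy]
      exact (rel_chi χ v).mul hl
    obtain ⟨f', hf'⟩ := S.exists_zb (mul_mem (S.mem_C v) hlm) hc' h' hrel'
    rw [← hc2', hf', mul_assoc (χ v * l), ← mul_assoc (zb t f'), ← zb_comm (mul_mem (S.mem_C v) hlm),
      mul_assoc (χ v * l) (zb t f'), S.zb_xor, Bool.xor_self, zb_false, mul_one, map_mul, ← hl v, ← hl2]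
    group
  have hyy : y * y = SemidirectProduct.inl (v * conjQ E v) := by
    have hEE : E * E = 1 := by rw [hE, ← el_append, of_eqW (sq_conj k).2.1, el_nil]
    rw [hy, map_mul, conjQ_spec]
    calc SemidirectProduct.inl v * E * (SemidirectProduct.inl v * E)
        = SemidirectProduct.inl v * (E * SemidirectProduct.inl v * E⁻¹) * (E * E) := by group
      _ = _ := by rw [hEE, mul_one]
  have hval : (v * conjQ E v).n = qmulN v.n (appL (Classify.wC k) v.n) := by rw [Q8.mul_n, conjQ_wrep]
  have good : k.val = 1 ∨ k.val = 4 → x * x = 1 ∧ ∃ j : Fin 10, j.val ∈ [2, 3, 4, 9] ∧ IsConj (el (repW j)) x := by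
    intro hk14
    have hb : sqBit true true (sqTbl k).2.length = false := by
      rcases hk14 with h | h
      · obtain rfl : k = 1 := Fin.ext h
        rfl
      · obtain rfl : k = 4 := Fin.ext h
        rfl
    rw [hb, zb_false, mul_one] at hcl
    have hy1 : y * y = 1 := by rw [hyy, S.inj (hcl.trans (map_one χ).symm), map_one]
    obtain ⟨j, hj, hjc⟩ := cases_over hk14 hk hy1
    refine ⟨?_, j, hj, hjc.trans (isConj_iff.2 ⟨z⁻¹, by simp only [y]; group⟩)⟩
    calc x * x = z⁻¹ * (y * y) * z := by simp only [y]; group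
      _ = 1 := by rw [hy1, mul_one, inv_mul_cancel]
  have bad : k.val = 2 ∨ k.val = 3 → False := by
    intro hk23
    have hb : sqBit true true (sqTbl k).2.length = true := by
      rcases hk23 with h | h
      · obtain rfl : k = 2 := Fin.ext h
        rfl
      · obtain rfl : k = 3 := Fin.ext h
        rfl
    rw [hb, zb_true, ← S.zt_eq, ← map_mul] at hcl
    have h1 : v * conjQ E v = zt := by
      have h2 := S.inj (hcl.trans (map_one χ).symm)
      calc v * conjQ E v = v * conjQ E v * zt * zt⁻¹ := by group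
        _ = zt⁻¹ := by rw [h2, one_mul]
        _ = zt := inv_eq_of_mul_eq_one_left (Q8.ext (by decide +kernel : qmulN 256 256 = 0))
    have h3 := List.all_eq_true.1 (no_root k hk23) v.n (List.mem_range.2 v.lt)
    rw [← hval, h1] at h3
    exact absurd h3 (by decide +kernel)
  by_cases h0 : k.val = 0
  · exfalso
    obtain rfl : k = 0 := Fin.ext h0
    refine hne ?_
    have hE1 : E = 1 := el_nil
    rw [hE1] at hk
    have : z.right * x.right * z.right⁻¹ = 1 := by
      simpa [y] using hk
    exact conj_eq_one_iff.1 this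
  · rcases (by omega : (k.val = 1 ∨ k.val = 4) ∨ (k.val = 2 ∨ k.val = 3)) with h | h
    · exact good h
    · exact (bad h).elim

/-- With lifts of order two: signs can be chosen. -/
theorem pre_of_lifts (hsq : ∀ k, a k * a k = zb t false)
    (hcomm : ∀ k l, adj k l = false → k ≠ l → Comm t false (a k) (a l))
    (hcard : Nat.card (Subgroup.centralizer ({t} : Set G)) = 512 * 1451520) :
    ∃ φ : C0 →* G, Function.Injective φ ∧ φ.range = Subgroup.centralizer ({t} : Set G) ∧ φ tau = t ∧
      ∀ x, Rel χ (φ x) x := by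
  classical
  have hbr : ∀ k l, ∃ s, adj k l = true → a k * a l * a k = a l * a k * a l * zb t s := fun k l => by
    by_cases hkl : adj k l = true
    · have h1 := ((L.rel k).mul (L.rel l)).mul (L.rel k)
      have h2 := ((L.rel l).mul (L.rel k)).mul (L.rel l)
      rw [← el_append, ← el_append] at h1 h2
      rw [of_eqW (braid_code k l hkl)] at h1
      obtain ⟨s, hs⟩ := S.exists_zb (mul_mem (mul_mem (L.mem l) (L.mem k)) (L.mem l))
        (mul_mem (mul_mem (L.mem k) (L.mem l)) (L.mem k)) h2 h1
      exact ⟨s, fun _ => hs⟩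
    · exact ⟨false, fun h => absurd h hkl⟩
  choose s hs using hbr
  let cx : G := a 0 * a 1 * a 2 * a 3 * a 4 * a 5 * a 6
  obtain ⟨d, hd⟩ : ∃ d, cx ^ 9 = zb t d := by
    have h : Rel χ cx (el (up [0, 1, 2, 3, 4, 5, 6])) := by
      have := rel_lift L.rel [0, 1, 2, 3, 4, 5, 6]
      simpa [lift, cx, mul_assoc] using this
    have hpow : ∀ n : ℕ, Rel χ (cx ^ n) (el (up [0, 1, 2, 3, 4, 5, 6]) ^ n) := fun n => by
      induction n with
      | zero => simpa using Rel.one χ
      | succ n ih => rw [pow_succ, pow_succ]; exact ih.mul h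
    have h9 : el (up [0, 1, 2, 3, 4, 5, 6]) ^ 9 = 1 := by
      rw [show el (up [0, 1, 2, 3, 4, 5, 6]) ^ 9 = el ((List.replicate 9 (up [0, 1, 2, 3, 4, 5, 6])).flatten) by
        simp [List.replicate_succ, el_append, pow_succ, mul_assoc]]
      rw [← el_nil]
      exact of_eqW (by decide +kernel)
    have hcx : cx ∈ Subgroup.centralizer ({t} : Set G) :=
      mul_mem (mul_mem (mul_mem (mul_mem (mul_mem (mul_mem (L.mem 0) (L.mem 1)) (L.mem 2)) (L.mem 3))
        (L.mem 4)) (L.mem 5)) (L.mem 6)
    obtain ⟨b, hb⟩ := S.exists_zb (one_mem _) (pow_mem hcx 9) (Rel.one χ) (h9 ▸ hpow 9)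
    exact ⟨b, by rw [hb, one_mul]⟩
  let h₁ := s 0 1
  let h₂ := xor h₁ (s 1 2)
  let h₃ := xor h₂ (s 2 3)
  let h₄ := xor h₃ (s 3 4)
  let h₅ := xor h₄ (s 4 5)
  let h₆ := xor h₂ (s 2 6)
  let g := xor d (xor h₁ (xor h₂ (xor h₃ (xor h₄ (xor h₅ h₆)))))
  let f : Fin 7 → Bool := ![g, xor g h₁, xor g h₂, xor g h₃, xor g h₄, xor g h₅, xor g h₆]
  let a' : Fin 7 → G := fun k => a k * zb t (f k)
  have hzc : ∀ (k : Fin 7) (b : Bool), zb t b * a k = a k * zb t b := fun k b => (zb_comm (L.mem k) b).symm
  have hL' : Lifts t χ a' := ⟨fun k => mul_mem (L.mem k) (S.zb_mem _), fun k => by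
    cases hfk : f k
    · simpa [a', hfk, zb] using L.rel k
    · simpa [a', hfk, zb] using S.rel_mul_t (L.rel k)⟩
  have hsq' : ∀ k, a' k * a' k = 1 := fun k => by
    simp only [a']
    rw [mul_assoc, ← mul_assoc (zb t (f k)), hzc, mul_assoc (a k), S.zb_xor, Bool.xor_self, ← mul_assoc, hsq,
      S.zb_xor]
    rfl
  have hcomm' : ∀ k l, adj k l = false → a' k * a' l = a' l * a' k := fun k l hkl => by
    by_cases h : k = l
    · rw [h]
    · have := Comm.shift S (L.mem k) (L.mem l) (hcomm k l hkl h) (f k) (f l)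
      rwa [Comm, zb_false, one_mul] at this
  have htriple : ∀ k l, a' k * a' l * a' k = a k * a l * a k * zb t (f l) := fun k l => by
    simp only [a']
    rw [show a k * zb t (f k) * (a l * zb t (f l)) * (a k * zb t (f k)) =
      a k * (zb t (f k) * a l) * (zb t (f l) * a k) * zb t (f k) by simp only [mul_assoc], hzc, hzc]
    simp only [mul_assoc]
    rw [← mul_assoc (zb t (f k)) (a k), hzc]
    simp only [mul_assoc]
    congr 3
    rw [S.zb_xor, S.zb_xor]
    congr 1
    cases f k <;> cases f l <;> rfl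
  have hedge : ∀ k l, (k, l) ∈ [((0 : Fin 7), (1 : Fin 7)), (1, 2), (2, 3), (3, 4), (4, 5), (2, 6)] →
      xor (s k l) (xor (f k) (f l)) = false := by
    have key : ∀ u h b : Bool, xor b (xor (xor u h) (xor u (xor h b))) = false := by decide
    have key0 : ∀ u b : Bool, xor b (xor u (xor u b)) = false := by decide
    intro k l hkl
    fin_cases hkl
    exacts [key0 g (s 0 1), key g h₁ (s 1 2), key g h₂ (s 2 3), key g h₃ (s 3 4), key g h₄ (s 4 5),
      key g h₂ (s 2 6)]
  have hbraid : ∀ k l, adj k l = true → a' k * a' l * a' k = a' l * a' k * a' l := by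
    intro k l hkl
    wlog hmem : (k, l) ∈ [((0 : Fin 7), (1 : Fin 7)), (1, 2), (2, 3), (3, 4), (4, 5), (2, 6)] generalizing k l
    · have hsym : adj l k = true ∧ (l, k) ∈ [((0 : Fin 7), (1 : Fin 7)), (1, 2), (2, 3), (3, 4), (4, 5), (2, 6)] := by
        revert k l; decide +kernel
      exact (this l k hsym.1 hsym.2).symm
    rw [htriple, htriple, hs k l hkl, mul_assoc, S.zb_xor]
    congr 2
    have := hedge k l hmem
    revert this
    cases s k l <;> cases f k <;> cases f l <;> simp
  have hcox : (a' 0 * a' 1 * a' 2 * a' 3 * a' 4 * a' 5 * a' 6) ^ 9 = 1 := by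
    have hprod : a' 0 * a' 1 * a' 2 * a' 3 * a' 4 * a' 5 * a' 6 =
        cx * zb t (xor (xor (xor (xor (xor (xor (f 0) (f 1)) (f 2)) (f 3)) (f 4)) (f 5)) (f 6)) := by
      have step : ∀ (P : G) (b : Bool) (k : Fin 7), P * zb t b * a' k = P * a k * zb t (xor b (f k)) := fun P b k => by
        rw [← S.zb_xor]
        simp only [a', mul_assoc]
        rw [← mul_assoc (zb t b) (a k), hzc, mul_assoc]
      simp only [cx]
      rw [show a' 0 = a 0 * zb t (f 0) from rfl, step, step, step, step, step, step]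
    have hcx : cx ∈ Subgroup.centralizer ({t} : Set G) :=
      mul_mem (mul_mem (mul_mem (mul_mem (mul_mem (mul_mem (L.mem 0) (L.mem 1)) (L.mem 2)) (L.mem 3))
        (L.mem 4)) (L.mem 5)) (L.mem 6)
    rw [hprod, Commute.mul_pow (zb_comm hcx _), hd]
    generalize hb : xor (xor (xor (xor (xor (xor (f 0) (f 1)) (f 2)) (f 3)) (f 4)) (f 5)) (f 6) = b
    have hbd : b = d := by
      rw [← hb]
      have key : ∀ u k₁ k₂ k₃ k₄ k₅ k₆ : Bool, xor (xor (xor (xor (xor (xor u (xor u k₁)) (xor u k₂)) (xor u k₃))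
          (xor u k₄)) (xor u k₅)) (xor u k₆) = xor u (xor k₁ (xor k₂ (xor k₃ (xor k₄ (xor k₅ k₆))))) := by
        decide
      refine (key g h₁ h₂ h₃ h₄ h₅ h₆).trans ?_
      show xor (xor d _) _ = d
      rw [Bool.xor_assoc, Bool.xor_self, Bool.xor_false]
    subst hbd
    cases b
    · simp [zb]
    · rw [zb_true, show t ^ 9 = t by
        rw [show (9 : ℕ) = 2 * 4 + 1 by norm_num, pow_succ, pow_mul, pow_two, S.t_sq, one_pow, one_mul], S.t_sq]
  have hpre : Pre t (fun i => χ (co i)) a' := by
    refine { toQGens := S.qgens, t_comm_a := fun k => (Coo.comm_t (hL'.mem k)).symm, a_sq := hsq', a_comm := hcomm',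
             a_braid := hbraid, cox := hcox, act := fun k i => ?_, gen := ?_, card := hcard }
    · have h := hL'.rel k (co i)
      rw [inv_eq_of_mul_eq_one_left (hsq' k), conjQ_gen] at h
      show a' k * χ (co i) * a' k = _
      rw [h]
      have hn : (autA k (co i)).n =
          qmulN (actTbl k i) (if (sgnTbl k).testBit i.val then 256 else 0) := (act_code k i).1
      have e : autA k (co i) = (⟨actTbl k i, (act_code k i).2.trans (by norm_num)⟩ : Q8) *
          (if (sgnTbl k).testBit i.val then zt else 1) := Q8.ext (by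
        rw [hn, Q8.mul_n]
        split <;> rfl)
      rw [e, map_mul, qv_qword' (t := t) _ (act_code k i).2]
      congr 1
      · rw [← S.qhom_eq]
        rfl
      · cases (sgnTbl k).testBit i.val
        · exact map_one χ
        · exact S.zt_eq
    · refine le_antisymm ((Subgroup.closure_le _).2 ?_) fun c hc => ?_
      · rintro u ((hu | ⟨i, rfl⟩) | ⟨k, rfl⟩)
        · rw [Set.mem_singleton_iff.1 hu]; exact S.t_mem
        · exact S.mem_C _
        · exact hL'.mem k
      · set H := Subgroup.closure ({t} ∪ Set.range (fun i => χ (co i)) ∪ Set.range a')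
        have hHle : H ≤ Subgroup.centralizer ({t} : Set G) := (Subgroup.closure_le _).2 (by
          rintro u ((hu | ⟨i, rfl⟩) | ⟨k, rfl⟩)
          · rw [Set.mem_singleton_iff.1 hu]; exact S.t_mem
          · exact S.mem_C _
          · exact hL'.mem k)
        have hall : ∀ x : C0, ∃ u ∈ H, Rel χ u x := by
          intro x
          have hx : x ∈ Subgroup.closure (Set.range genC) := by rw [closure_genC']; trivial
          induction hx using Subgroup.closure_induction with
          | mem x hx =>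
            obtain ⟨z, rfl⟩ := hx
            by_cases hz : z.val < 8
            · refine ⟨χ (co ⟨z.val, hz⟩), Subgroup.subset_closure (Or.inl (Or.inr ⟨_, rfl⟩)), ?_⟩
              have := rel_chi χ (co ⟨z.val, hz⟩)
              rwa [genC, dif_pos hz]
            · refine ⟨a' ⟨z.val - 8, by omega⟩, Subgroup.subset_closure (Or.inr ⟨_, rfl⟩), ?_⟩
              have h := hL'.rel ⟨z.val - 8, by omega⟩
              rwa [show el (up [(⟨z.val - 8, by omega⟩ : Fin 7)]) = genC z by
                simp [el, up, show 8 + (z.val - 8) = z.val by omega]] at h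
          | one => exact ⟨1, one_mem _, Rel.one χ⟩
          | mul x y _ _ hx hy =>
            obtain ⟨u, hu, hux⟩ := hx
            obtain ⟨w, hw, hwy⟩ := hy
            exact ⟨u * w, mul_mem hu hw, hux.mul hwy⟩
          | inv x _ hx =>
            obtain ⟨u, hu, hux⟩ := hx
            exact ⟨u⁻¹, inv_mem hu, hux.inv⟩
        obtain ⟨x, hx⟩ := S.conj c hc
        obtain ⟨u, hu, hux⟩ := hall x
        rcases S.uniq (hHle hu) hc hux hx with r | r
        · exact r ▸ hu
        · exact r ▸ mul_mem hu (Subgroup.subset_closure (Or.inl (Or.inl rfl)))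
  obtain ⟨φ, hinj, hrange, hzt, hq, ha⟩ := hpre.exists_phi
  refine ⟨φ, hinj, hrange, by rw [tau_eq_inl]; exact hzt, fun x => ?_⟩
  have hx : x ∈ Subgroup.closure (Set.range genC) := by rw [closure_genC']; trivial
  induction hx using Subgroup.closure_induction with
  | mem x hx =>
    obtain ⟨z, rfl⟩ := hx
    by_cases hz : z.val < 8
    · have := hq ⟨z.val, hz⟩
      rw [this, genC, dif_pos hz]
      exact rel_chi χ (co ⟨z.val, hz⟩)
    · obtain ⟨k, hk⟩ : ∃ k : Fin 7, (⟨8 + k.val, by omega⟩ : Fin 15) = z :=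
        ⟨⟨z.val - 8, by omega⟩, Fin.ext (show 8 + (z.val - 8) = z.val by omega)⟩
      rw [← hk, ha k]
      have h := hL'.rel k
      simpa [el, up] using h
  | one => rw [map_one]; exact Rel.one χ
  | mul x y _ _ hx hy => rw [map_mul]; exact hx.mul hy
  | inv x _ hx => rw [map_inv]; exact hx.inv

omit L

/-- **The dichotomy.** -/
theorem Coo.split_cases (hcard : Nat.card (Subgroup.centralizer ({t} : Set G)) = 512 * 1451520) :
    (∃ φ : C0 →* G, Function.Injective φ ∧ φ.range = Subgroup.centralizer ({t} : Set G) ∧ φ tau = t ∧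
      ∀ x, Rel χ (φ x) x) ∨ Twisted t χ := by
  obtain ⟨a, L⟩ := S.exists_lifts
  obtain ⟨e, hsq, hcomm⟩ := L.exists_consts S
  cases e
  · exact Or.inl (pre_of_lifts S L hsq hcomm hcard)
  · exact Or.inr (twisted_of_lifts S L hsq hcomm)

/-- The codes of involutions. -/
theorem Coo.involution_code (hcard : Nat.card (Subgroup.centralizer ({t} : Set G)) = 512 * 1451520) :
    ∀ c x, c ∈ Subgroup.centralizer ({t} : Set G) → c * c = 1 → Rel χ c x → x.right ≠ 1 →
      x * x = 1 ∧ ∃ j : Fin 10, 2 ≤ j.val ∧ IsConj (el (repW j)) x := by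
  intro c x hc hc2 hrel hne
  rcases S.split_cases hcard with ⟨φ, hinj, hrange, htau, hφ⟩ | htw
  · obtain ⟨x', hx'⟩ : c ∈ φ.range := hrange.symm ▸ hc
    subst hx'
    have h2 : x' * x' = 1 := hinj (by rw [map_mul, hc2, map_one])
    have hxx : x * x = 1 ∧ x.right = x'.right := by
      rcases S.code_uniq (hφ x') hrel with e | e <;> subst e
      · exact ⟨h2, rfl⟩
      · have ht : ∀ y : C0, y * tau = tau * y := fun y => hinj (by
          rw [map_mul, map_mul, htau]
          exact Coo.comm_t (hrange ▸ ⟨y, rfl⟩))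
        refine ⟨?_, by rw [tau_eq_inl]; simp⟩
        rw [mul_assoc x', ← mul_assoc tau, ← ht x', mul_assoc x' tau,
          show tau * tau = 1 from hinj (by rw [map_mul, htau, map_one, S.t_sq]), mul_one, h2]
    refine ⟨hxx.1, ?_⟩
    rcases cases_sq_one hxx.1 with h | ⟨j, hj⟩
    · exact absurd (by rw [h]; rfl) hne
    · refine ⟨j, ?_, hj⟩
      by_contra hlt
      obtain ⟨g, rfl⟩ := isConj_iff.1 hj
      refine hne ?_
      have hr : ∀ i : Fin 10, i.val < 2 → (el (repW i)).right = 1 := by
        intro i hi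
        refine Subtype.ext (imgs_injective ?_)
        have h := congrArg Prod.snd (code_el (repW i))
        rw [← cw_eq] at h
        exact h.trans (((by decide +kernel : ∀ i : Fin 10, i.val < 2 → (cw (repW i)).2 = stdImg) i hi).trans
          eq_one_of_triv_P.code_one_snd.symm)
      simp [hr j (by omega)]
  · obtain ⟨h1, j, hj, hjc⟩ := htw c x hc hc2 hrel hne
    refine ⟨h1, j, ?_, hjc⟩
    simp only [List.mem_cons, List.not_mem_nil, or_false] at hj
    omega

end Cfsg.Agent.Co2Type.Local
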