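import Cfsg.Agent.Lib.Co2Type.Local.TwistW
import Cfsg.Agent.Lib.Co2Type.Local.Weak
import Cfsg.Agent.Lib.Co2Type.Local.Split

/-!
The twisted extension does not occur: the part of a conjugate of the extraspecial group in the centraliser would
have too small an image in the automorphism part.
-/

set_option autoImplicit false
set_option maxRecDepth 20000
set_option linter.unusedSectionVars false

namespace Cfsg.Agent.Co2Type.Local

open Code End WeakCheck TwistCheck TwistData

/-- An involution of the centraliser over a representative, sent to `t`. -/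
structure TSetup {G : Type*} [Group G] (t : G) (χ : Q8 →* G) (u g : G) (k : Fin 2) : Prop where
  mem : u ∈ Subgroup.centralizer ({t} : Set G)
  rel : Rel χ u (el (repW (jRep k)))
  to_t : g * u * g⁻¹ = t
  sq : u * u = 1

variable {G : Type*} [Group G] {t : G} {χ : Q8 →* G} (S : Coo t χ)
include S

variable {u g : G} {k : Fin 2}

theorem rep_right (j : Fin 10) (hj : j.val ∈ [2, 3, 4]) : (el (repW j)).right = rw0 w1 :=
  Subtype.ext (imgs_injective ((imgs_rw0 _).trans ((rep_ok.1 j hj).trans (imgs_rw0 w1).symm)))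

theorem jRep_mem (k : Fin 2) : (jRep k).val ∈ [2, 3, 4] := (by decide : ∀ k : Fin 2, (jRep k).val ∈ [2, 3, 4]) k

variable (H : TSetup t χ u g k)
include H

theorem pi_u : S.pi ⟨u, H.mem⟩ = rw0 w1 :=
  (S.pi_eq (c := ⟨u, H.mem⟩) H.rel).trans (rep_right S _ (jRep_mem S k))

theorem u_notMem : ∀ v, χ v ≠ u := fun v e => by
  have h := pi_u S H
  rw [show (⟨u, H.mem⟩ : ↥(Subgroup.centralizer ({t} : Set G))) = ⟨χ v, S.chi_mem v⟩ from Subtype.ext e.symm,
    S.pi_chi] at h
  refine rep_ok.2.2.2.2 ?_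
  rw [← imgs_rw0, ← h]
  exact congrArg Prod.snd code_one

theorem r_comm {c : ↥(Subgroup.centralizer ({t} : Set G))} (hc : c ∈ rSub t χ g) : c.1 * u = u * c.1 := by
  obtain ⟨v, hv⟩ := mem_rSub.1 hc
  have h := Subgroup.mem_centralizer_singleton_iff.1 (S.chi_mem v)
  rw [hv] at h
  have h2 : g * c.1 * g⁻¹ * (g * u * g⁻¹) = g * u * g⁻¹ * (g * c.1 * g⁻¹) := by rw [H.to_t]; exact h
  calc c.1 * u = g⁻¹ * (g * c.1 * g⁻¹ * (g * u * g⁻¹)) * g := by group
    _ = u * c.1 := by rw [h2]; group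

theorem r_sq {c : ↥(Subgroup.centralizer ({t} : Set G))} (hc : c ∈ rSub t χ g) :
    c.1 * c.1 = 1 ∨ c.1 * c.1 = u := by
  obtain ⟨v, hv⟩ := mem_rSub.1 hc
  have e : g * (c.1 * c.1) * g⁻¹ = χ (v * v) := by rw [map_mul, hv]; group
  rcases zt_sq_of v with h | h <;> rw [h] at e
  · rw [map_one] at e
    exact Or.inl (by simpa using e)
  · rw [S.zt_eq] at e
    exact Or.inr (mul_left_cancel (mul_right_cancel (e.trans H.to_t.symm)))

theorem r_commutator {c d : ↥(Subgroup.centralizer ({t} : Set G))} (hc : c ∈ rSub t χ g) (hd : d ∈ rSub t χ g) :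
    c.1 * d.1 * c.1⁻¹ * d.1⁻¹ = 1 ∨ c.1 * d.1 * c.1⁻¹ * d.1⁻¹ = u := by
  obtain ⟨v, hv⟩ := mem_rSub.1 hc
  obtain ⟨w, hw⟩ := mem_rSub.1 hd
  have e : g * (c.1 * d.1 * c.1⁻¹ * d.1⁻¹) * g⁻¹ = χ (v * w * v⁻¹ * w⁻¹) := by
    simp only [map_mul, map_inv, hv, hw]; group
  have h0 : lo (v * w * v⁻¹ * w⁻¹) = lo (1 : Q8) := by
    rw [lo_mul, lo_mul, lo_mul, lo_inv, lo_inv, lo_one]
    exact Nat.eq_of_testBit_eq fun i => by simp
  rcases eq_or_of_lo h0.symm with h | h
  · rw [h, map_one] at e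
    exact Or.inl (by simpa using e)
  · rw [h, one_mul, S.zt_eq] at e
    exact Or.inr (mul_left_cancel (mul_right_cancel (e.trans H.to_t.symm)))

/-- The part is normalised by what centralises `u`. -/
theorem r_conj {c r : ↥(Subgroup.centralizer ({t} : Set G))} (hc : c.1 * u = u * c.1)
    (hr : r ∈ rSub t χ g) : c * r * c⁻¹ ∈ rSub t χ g := by
  obtain ⟨v, hv⟩ := mem_rSub.1 hr
  have hc' : g * c.1 * g⁻¹ ∈ Subgroup.centralizer ({t} : Set G) := by
    rw [Subgroup.mem_centralizer_singleton_iff]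
    have h : g * c.1 * g⁻¹ * (g * u * g⁻¹) = g * u * g⁻¹ * (g * c.1 * g⁻¹) := by
      calc g * c.1 * g⁻¹ * (g * u * g⁻¹) = g * (c.1 * u) * g⁻¹ := by group
        _ = g * u * g⁻¹ * (g * c.1 * g⁻¹) := by rw [hc]; group
    rwa [H.to_t] at h
  obtain ⟨x, -, -, hx⟩ := S.exists_rel ⟨_, hc'⟩
  refine mem_rSub.2 ⟨conjQ x v, ?_⟩
  rw [← hx v, hv]
  show g * c.1 * g⁻¹ * (g * r.1 * g⁻¹) * (g * c.1 * g⁻¹)⁻¹ = g * (c.1 * r.1 * c.1⁻¹) * g⁻¹
  group

/-- The fixed elements of the extraspecial group centralise `u`. -/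
theorem chi_fix {a : Q8} (ha : lo ((rw0 w1 : MulAut Q8) a) = lo a) : χ a * u = u * χ a := by
  have h := (fix_ok k).1
  have h' := List.all_eq_true.1 h a.n (List.mem_range.2 a.lt)
  rw [lo_rw0] at ha
  have hl : (wap w1 (a.n % 256)).beq (a.n % 256) = true := by rw [show a.n % 256 = lo a from rfl, ha, Nat.beq_refl]
  rw [hl, beq_iff_eq] at h'
  have e : conjQ (el (repW (jRep k))) a = a := Q8.ext ((conjQ_n _ a).trans (Nat.eq_of_beq_eq_true h'.symm))
  have h2 := H.rel a
  rw [e, mul_inv_eq_iff_eq_mul] at h2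
  exact h2.symm

/-- Squares of centralising elements centralise exactly. -/
theorem exists_sq {i : ℕ} (hi : i < 25) :
    ∃ d : ↥(Subgroup.centralizer ({t} : Set G)), S.pi d = rw0 (sqW i) ∧ d.1 * u = u * d.1 := by
  obtain ⟨c, hc, hcv⟩ := S.exists_word (preW i k ++ centW i)
  have h := List.all_eq_true.1 (sq_ok k) i (List.mem_range.2 hi)
  simp only [Bool.and_eq_true, Nat.beq_eq] at h
  obtain ⟨⟨hpre, hlo⟩, hrt⟩ := h
  set p := preW i k ++ centW i
  set x := el (repW (jRep k))
  set y := el p * x * (el p)⁻¹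
  have hy : conjQ y = conjQ x := by
    have hye : y = el (p ++ repW (jRep k) ++ p.reverse) := el_conj _ _
    refine MulEquiv.ext fun a => ?_
    rw [hye, conjQ_apply, conjQ_apply,
      show (el (p ++ repW (jRep k) ++ p.reverse)).right = (el (repW (jRep k))).right from
        Subtype.ext (imgs_injective ((imgs_rw0 _).trans ((Roots.beqL_eq _ _ hrt).trans (imgs_rw0 _).symm)))]
    have e1 : lo (el (repW (jRep k))).left = lo (el (p ++ repW (jRep k) ++ p.reverse)).left := by
      rw [cw_eq, cw_eq, ← code_el, ← code_el] at hlo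
      exact hlo.symm
    rcases eq_or_of_lo e1 with e | e
    · rw [e]
    · rw [e]
      have hz : ∀ q : Q8, zt * q * zt⁻¹ = q := fun q => by
        have := map_zt (MulAut.conj q)
        rw [MulAut.conj_apply, mul_inv_eq_iff_eq_mul] at this
        rw [← this, mul_inv_cancel_right]
      calc (el (repW (jRep k))).left * zt * ((el (repW (jRep k))).right : MulAut Q8) a *
            ((el (repW (jRep k))).left * zt)⁻¹
          = (el (repW (jRep k))).left * (zt * ((el (repW (jRep k))).right : MulAut Q8) a * zt⁻¹) *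
            (el (repW (jRep k))).left⁻¹ := by group
        _ = _ := by rw [hz]
  have hd : Rel χ (c.1 * u * c.1⁻¹) x := fun v => by
    rw [← hy]
    exact ((Rel.mul (x := el p) (y := x) hcv H.rel).mul (Rel.inv (x := el p) hcv)) v
  refine ⟨c * c, ?_, ?_⟩
  · have hp : rw0 (preW i k) = 1 := Subtype.ext (imgs_injective ((imgs_rw0 _).trans
      ((Roots.beqL_eq _ _ hpre).trans (congrArg Prod.snd code_one).symm)))
    rw [map_mul, hc, rw0_append, hp, one_mul, sqW, rw0_append]
  · have hu : ∀ f : G, f * t = t * f → (f = u ∨ f = u * t) → c.1 * f * c.1⁻¹ = c.1 * f * c.1⁻¹ := fun _ _ _ => rfl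
    have hct : c.1 * t = t * c.1 := Subgroup.mem_centralizer_singleton_iff.1 c.2
    have hmem : c.1 * u * c.1⁻¹ ∈ Subgroup.centralizer ({t} : Set G) := mul_mem (mul_mem c.2 H.mem) (inv_mem c.2)
    show c.1 * c.1 * u = u * (c.1 * c.1)
    rcases S.uniq H.mem hmem H.rel hd with e | e
    · rw [mul_inv_eq_iff_eq_mul] at e
      rw [mul_assoc, e, ← mul_assoc, e, mul_assoc]
    · rw [mul_inv_eq_iff_eq_mul] at e
      calc c.1 * c.1 * u = c.1 * (u * t * c.1) := by rw [mul_assoc, e]
        _ = c.1 * u * (t * c.1) := by group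
        _ = u * t * c.1 * (t * c.1) := by rw [e]
        _ = u * (t * (c.1 * t)) * c.1 := by group
        _ = u * (t * t) * c.1 * c.1 := by rw [hct]; group
        _ = u * (c.1 * c.1) := by rw [S.t_sq]; group

theorem t_notMem (hweak : ∀ g : G, g * t * g⁻¹ ∈ χ.range → g * t * g⁻¹ = t) :
    (⟨t, S.t_mem⟩ : ↥(Subgroup.centralizer ({t} : Set G))) ∉ rSub t χ g := fun h => by
  have h1 := hweak g h
  refine u_notMem S H zt ?_
  rw [S.zt_eq]
  exact mul_left_cancel (mul_right_cancel (h1.trans H.to_t.symm))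

theorem meet_comm {v w : Q8} (hv : InD (t := t) (χ := χ) g v) (hw : InD (t := t) (χ := χ) g w) :
    v * w = w * v := by
  obtain ⟨h1, h1'⟩ := hv
  obtain ⟨h2, h2'⟩ := hw
  have e : χ (v * w * v⁻¹ * w⁻¹) = χ v * χ w * (χ v)⁻¹ * (χ w)⁻¹ := by simp only [map_mul, map_inv]
  rcases r_commutator S H h1' h2' with e2 | e2
  · have := S.inj ((e.trans e2).trans (map_one χ).symm)
    rwa [mul_inv_eq_one, mul_inv_eq_iff_eq_mul] at this
  · exact absurd (e.trans e2) (u_notMem S H _)

theorem meet_sq {v : Q8} (hv : InD (t := t) (χ := χ) g v) : v * v = 1 := by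
  obtain ⟨h1, h1'⟩ := hv
  rcases r_sq S H h1' with e | e
  · exact S.inj (by rw [map_mul, map_one]; exact e)
  · exact absurd ((map_mul χ v v).trans e) (u_notMem S H _)

theorem meet_image {v : Q8}
    (hv : InD (t := t) (χ := χ) g v) : inT (lo v) = true := by
  have hfix : lo ((rw0 w1 : MulAut Q8) v) = lo v := by
    obtain ⟨h1, h1'⟩ := hv
    have h := r_comm S H h1'
    rw [← pi_u S H]
    exact (S.conj_lo ⟨u, H.mem⟩ (w := v) (by rw [← h, mul_inv_cancel_right])).symm
  have h := List.all_eq_true.1 outside_image (lo v) (List.mem_range.2 (lo_lt v))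
  have hsq : qmulN (lo v) (lo v) = 0 := by
    have hl : lo v < 512 := (lo_lt v).trans (by norm_num)
    rcases eq_or_of_lo (a := ⟨lo v, hl⟩) (b := v) (Nat.mod_mod _ _) with e | e
    · have h2 := meet_sq S H hv
      rw [e] at h2
      exact congrArg Q8.n h2
    · have h2 := meet_sq S H hv
      rw [e] at h2
      have hz : zt * zt = 1 := Q8.ext (by decide +kernel : qmulN 256 256 = 0)
      have hc : zt * (⟨lo v, hl⟩ : Q8) = ⟨lo v, hl⟩ * zt := by
        have := map_zt (MulAut.conj (⟨lo v, hl⟩ : Q8))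
        rw [MulAut.conj_apply, mul_inv_eq_iff_eq_mul] at this
        exact this.symm
      rw [mul_assoc, ← mul_assoc zt, hc, mul_assoc _ zt zt, hz, mul_one] at h2
      exact congrArg Q8.n h2
  rw [lo_rw0] at hfix
  rw [show fixV (lo v) = true by rw [fixV, hfix, Nat.beq_refl], hsq] at h
  simp only [Bool.not_true, Bool.false_or, Bool.or_eq_true, List.any_eq_true, List.mem_range, Bool.not_eq_true'] at h
  rcases h with (h | h) | ⟨i, hi, i', hi', h⟩
  · exact h
  · rw [Nat.beq_refl] at h; cases h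
  · exfalso
    have hconj : ∀ i < 25, ∃ w, InD (t := t) (χ := χ) g w ∧ lo w = wap (sqW i) (lo v) := fun i hi => by
      obtain ⟨d, hd, hdu⟩ := exists_sq S H hi
      obtain ⟨h1, h1'⟩ := hv
      obtain ⟨x, -, hx, hxv⟩ := S.exists_rel d
      refine ⟨conjQ x v, ⟨S.chi_mem _, ?_⟩, by rw [conjQ_lo, hx, hd, lo_rw0]⟩
      rw [show (⟨χ (conjQ x v), S.chi_mem _⟩ : ↥(Subgroup.centralizer ({t} : Set G))) = d * ⟨χ v, h1⟩ * d⁻¹ from
        Subtype.ext (hxv v).symm]
      exact r_conj S H hdu h1'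
    obtain ⟨w, hw, e⟩ := hconj i hi
    obtain ⟨w', hw', e'⟩ := hconj i' hi'
    have hc := meet_comm S H hw hw'
    have hlw : ∀ w : Q8, ∃ s : Q8, s.n = lo w ∧ (w = s ∨ w = s * zt) := fun w =>
      ⟨⟨lo w, (lo_lt w).trans (by norm_num)⟩, rfl, eq_or_of_lo (Nat.mod_mod _ _)⟩
    obtain ⟨s, hs, hs'⟩ := hlw w
    obtain ⟨s', hs2, hs2'⟩ := hlw w'
    have hz : ∀ q : Q8, zt * q = q * zt := fun q => by
      have := map_zt (MulAut.conj q)
      rw [MulAut.conj_apply, mul_inv_eq_iff_eq_mul] at this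
      exact this.symm
    have hss : s * s' = s' * s := by
      have hcz : ∀ q : Q8, Commute q zt := fun q => (hz q).symm
      have h1 : Commute w w' := hc
      have hr : ∀ a b : Q8, Commute a (b * zt) → Commute a b := fun a b hab => by
        have h2 := hab.mul_right ((hcz a).inv_right)
        rwa [mul_inv_cancel_right] at h2
      rcases hs' with rfl | rfl <;> rcases hs2' with rfl | rfl
      · exact h1.eq
      · exact (hr _ _ h1).eq
      · exact (hr _ _ h1.symm).symm.eq
      · exact (hr _ _ (hr _ _ h1.symm).symm).eq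
    have := congrArg Q8.n hss
    rw [Q8.mul_n, Q8.mul_n, hs, hs2, e, e'] at this
    rw [this, Nat.beq_refl] at h
    cases h

variable [Finite G]

/-- The part has at least 128 elements. -/
theorem card_part {u' : G} {z : C0} {k' : Fin 2} (hu' : g * t * g⁻¹ = u')
    (hrel' : Rel χ u' (z * el (repW (jRep k')) * z⁻¹)) : 128 ≤ Nat.card (rSub t χ g) := by
  classical
  set L := (List.range 512).filter fun v => Nat.beq (conjN (cw (repW (jRep k'))) v) v
  have hlt : ∀ i : Fin L.length, L[i.val] < 512 ∧ conjN (cw (repW (jRep k'))) L[i.val] = L[i.val] := fun i => by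
    have h := List.mem_filter.1 (List.getElem_mem i.2)
    exact ⟨List.mem_range.1 h.1, Nat.eq_of_beq_eq_true h.2⟩
  let q : Fin L.length → Q8 := fun i => conjQ z ⟨L[i.val], (hlt i).1⟩
  have hq : ∀ i, χ (q i) * u' = u' * χ (q i) := fun i => by
    have h := hrel' (q i)
    have e : conjQ (z * el (repW (jRep k')) * z⁻¹) (q i) = q i := by
      simp only [q]
      rw [← MulAut.mul_apply, ← conjQ_mul, inv_mul_cancel_right, conjQ_mul, MulAut.mul_apply]
      exact congrArg (conjQ z) (Q8.ext ((conjQ_n _ _).trans (hlt i).2))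
    rw [e, mul_inv_eq_iff_eq_mul] at h
    exact h.symm
  let F : Fin L.length → rSub t χ g := fun i => ⟨⟨g⁻¹ * χ (q i) * g, Subgroup.mem_centralizer_singleton_iff.2 (by
      have h := hq i
      rw [← hu'] at h
      calc g⁻¹ * χ (q i) * g * t = g⁻¹ * (χ (q i) * (g * t * g⁻¹)) * g := by group
        _ = t * (g⁻¹ * χ (q i) * g) := by rw [h]; group)⟩, mem_rSub.2 ⟨q i, by group⟩⟩
  have hF : Function.Injective F := fun a b e => by
    have e' : g⁻¹ * χ (q a) * g = g⁻¹ * χ (q b) * g := congrArg (fun z => z.1.1) e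
    have h := congrArg Q8.n ((conjQ z).injective (S.inj (mul_left_cancel (mul_right_cancel e'))))
    exact Fin.ext ((List.nodup_range.filter _).getElem_inj_iff.1 h)
  have := Nat.card_le_card_of_injective F hF
  rwa [Nat.card_fin, (fix_ok k').2] at this

/-- The contradiction. -/
theorem setup_false (hweak : ∀ g : G, g * t * g⁻¹ ∈ χ.range → g * t * g⁻¹ = t) (htw : Twisted t χ)
    (h128 : 128 ≤ Nat.card (rSub t χ g)) : False := by
  classical
  let β : rSub t χ g →* ↥W := S.pi.comp (rSub t χ g).subtype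
  have hprod : Nat.card β.ker * Nat.card β.range = Nat.card (rSub t χ g) := by
    rw [← Subgroup.index_ker, Subgroup.card_mul_index]
  -- the kernel
  have hk : Nat.card β.ker ≤ 4 := by
    have hv : ∀ r : β.ker, ∃ v : Q8, InD (t := t) (χ := χ) g v ∧ χ v = r.1.1.1 := fun r => by
      obtain ⟨v, hv⟩ := S.ker_pi (c := r.1.1) r.2
      exact ⟨v, ⟨S.chi_mem v, by
        rw [show (⟨χ v, S.chi_mem v⟩ : ↥(Subgroup.centralizer ({t} : Set G))) = r.1.1 from Subtype.ext hv]
        exact r.1.2⟩, hv⟩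
    choose f hfD hf using hv
    have him : ∀ r, ∃ i : Fin imgL.length, lo (f r) = imgL[i.val] := fun r => by
      obtain ⟨d, hd, e⟩ := List.any_eq_true.1 (meet_image S H (hfD r))
      obtain ⟨i, hi, rfl⟩ := List.mem_iff_getElem.1 hd
      rw [Nat.mod_eq_of_lt (lo_lt _), Nat.beq_eq] at e
      exact ⟨⟨i, hi⟩, e⟩
    choose ii hii using him
    have hinj : Function.Injective ii := fun r s e => by
      have hl : lo (f r) = lo (f s) := by rw [hii r, hii s, e]
      rcases eq_or_of_lo hl with h | h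
      · exact Subtype.ext (Subtype.ext (Subtype.ext (by rw [← hf r, ← hf s, h])))
      · exfalso
        refine t_notMem S H hweak ?_
        have e2 : (⟨t, S.t_mem⟩ : ↥(Subgroup.centralizer ({t} : Set G))) = r.1.1⁻¹ * s.1.1 := Subtype.ext (by
          show t = r.1.1.1⁻¹ * s.1.1.1
          rw [← hf r, ← hf s, h, map_mul, S.zt_eq, inv_mul_cancel_left])
        rw [e2]
        exact Subgroup.mul_mem _ (Subgroup.inv_mem _ r.1.2) s.1.2
    have := Nat.card_le_card_of_injective ii hinj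
    rwa [Nat.card_fin, TwistCheck.len_ok.1] at this
  -- the image
  have hrad : ∀ r : rSub t χ g, TRad (S.pi r.1) := fun r => by
    refine ⟨?_, fun a ha => ?_⟩
    · rw [← pi_u S H, ← map_mul, ← map_mul]
      exact congrArg S.pi (Subtype.ext (r_comm S H r.2))
    · obtain ⟨x, -, hx, hxv⟩ := S.exists_rel r.1
      set q : ↥(Subgroup.centralizer ({t} : Set G)) := ⟨χ a, S.chi_mem a⟩
      have h2 : InD (t := t) (χ := χ) g (conjQ x a * a⁻¹) := by
        refine ⟨S.chi_mem _, ?_⟩
        have e : (⟨χ (conjQ x a * a⁻¹), S.chi_mem _⟩ : ↥(Subgroup.centralizer ({t} : Set G))) =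
            r.1 * (q * r.1⁻¹ * q⁻¹) := Subtype.ext (by
          show χ (conjQ x a * a⁻¹) = r.1.1 * (χ a * r.1.1⁻¹ * (χ a)⁻¹)
          rw [map_mul, map_inv, ← hxv]; group)
        rw [e]
        exact Subgroup.mul_mem _ r.2 (r_conj S H (chi_fix S H ha) (Subgroup.inv_mem _ r.2))
      have h3 := meet_image S H h2
      rwa [lo_mul, lo_inv, conjQ_lo, hx] at h3
  have hallow : ∀ r : rSub t χ g, forb (imgs (S.pi r.1 : MulAut Q8)) = false := fun r => by
    rw [Bool.eq_false_iff]
    intro hf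
    simp only [forb, Bool.or_eq_true, Bool.and_eq_true, Bool.not_eq_true', Nat.beq_eq] at hf
    have hsqI : (imgs (S.pi r.1 : MulAut Q8)).map (appL (imgs (S.pi r.1 : MulAut Q8))) =
        imgs ((S.pi r.1 * S.pi r.1 : ↥W) : MulAut Q8) := by rw [Subgroup.coe_mul, imgs_mul]
    have h1 : imgs ((1 : ↥W) : MulAut Q8) = stdImg := congrArg Prod.snd code_one
    have hself : ∀ l : List ℕ, Roots.beqL l l = true := fun l => by
      induction l with
      | nil => rfl
      | cons a l ih =>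
        show (Nat.beq a a && Roots.beqL l l) = true
        rw [Nat.beq_refl, ih]; rfl
    rcases r_sq S H r.2 with e | e
    · have hp : S.pi r.1 * S.pi r.1 = 1 := by
        rw [← map_mul, show r.1 * r.1 = 1 from Subtype.ext e, map_one]
      rcases hf with ⟨h, -⟩ | ⟨⟨-, h⟩, h32⟩
      · rw [hsqI, hp, h1, hself] at h
        cases h
      · obtain ⟨x, hrx, hx, -⟩ := S.exists_rel r.1
        have hne : x.right ≠ 1 := fun h' => by
          rw [← hx, h', h1, hself] at h
          cases h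
        obtain ⟨-, j, hj, hjc⟩ := htw r.1.1 x r.1.2 e hrx hne
        obtain ⟨z, hz⟩ := isConj_iff.1 hjc
        have hr : S.pi r.1 = z.right * (el (repW j)).right * z.right⁻¹ := by
          rw [← hx, ← hz]; rfl
        rw [hr, fcount_conj] at h32
        simp only [List.mem_cons, List.not_mem_nil, or_false] at hj
        have hcase : j.val ∈ [2, 3, 4] ∨ j = 9 := by
          rcases hj with h | h | h | h
          · left; simp [h]
          · left; simp [h]
          · left; simp [h]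
          · exact Or.inr (Fin.ext h)
        rcases hcase with h' | rfl
        · rw [rep_right S j h', imgs_rw0, rep_ok.2.2.1] at h32
          omega
        · rw [show imgs ((el (repW 9)).right : MulAut Q8) = wimg (repW 9) from imgs_rw0 _, rep_ok.2.1,
            rep_ok.2.2.2.1] at h32
          omega
    · have hp : S.pi r.1 * S.pi r.1 = rw0 w1 := by
        rw [← map_mul, show r.1 * r.1 = ⟨u, H.mem⟩ from Subtype.ext e, pi_u S H]
      rw [hsqI, hp, imgs_rw0] at hf
      rcases hf with ⟨-, h⟩ | ⟨⟨h, -⟩, -⟩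
      · rw [hself] at h; cases h
      · exact rep_ok.2.2.2.2 (Roots.beqL_eq _ _ h)
  have hix : ∀ y : β.range, ∃ i : Fin 128, y.1 = rw0 (tradW i.val) := fun y => by
    obtain ⟨r, hr⟩ := y.2
    obtain ⟨i, hi, e⟩ := trad_iff (hrad r)
    exact ⟨⟨i, hi⟩, hr.symm.trans e⟩
  choose ix hix using hix
  have hkeep : ∀ y : β.range, ∃ i : Fin keepL.length, (ix y).val = keepL[i.val] := fun y => by
    have h := List.all_eq_true.1 TwistCheck.bad_ok (ix y).val (List.mem_range.2 (ix y).2)
    rw [Bool.or_eq_true, List.any_eq_true, List.any_eq_true] at h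
    rcases h with ⟨a, ha, e⟩ | ⟨⟨n, l⟩, -, h⟩
    · obtain ⟨i, hi, rfl⟩ := List.mem_iff_getElem.1 ha
      exact ⟨⟨i, hi⟩, Nat.eq_of_beq_eq_true e⟩
    · exfalso
      simp only [Bool.and_eq_true, List.all_eq_true, Nat.blt_eq] at h
      obtain ⟨⟨-, hl⟩, hforb⟩ := h
      obtain ⟨r0, hr0⟩ := y.2
      have hmem : ∀ l : List ℕ, (∀ i ∈ l, i < 25) →
          ∃ r : rSub t χ g, S.pi r.1 = rw0 (tbadW (ix y).val l) := by
        intro l
        induction l with
        | nil => exact fun _ => ⟨1, by rw [OneMemClass.coe_one, map_one]; rfl⟩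
        | cons i l ih =>
          intro hl
          obtain ⟨r', hr'⟩ := ih fun j hj => hl j (List.mem_cons_of_mem _ hj)
          obtain ⟨d, hd, hdu⟩ := exists_sq S H (hl i List.mem_cons_self)
          refine ⟨⟨d * r0.1 * d⁻¹, r_conj S H hdu r0.2⟩ * r', ?_⟩
          rw [Subgroup.coe_mul, map_mul, hr', map_mul, map_mul, map_inv, hd,
            show S.pi r0.1 = rw0 (tradW (ix y).val) from hr0.trans (hix y),
            show tbadW (ix y).val (i :: l) = sqW i ++ tradW (ix y).val ++ (sqW i).reverse ++ tbadW (ix y).val l from rfl,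
            rw0_append (sqW i ++ tradW (ix y).val ++ (sqW i).reverse), rw0_conj]
      obtain ⟨r, hr⟩ := hmem l hl
      have := hallow r
      rw [hr, imgs_rw0, hforb] at this
      cases this
  choose kp hkp using hkeep
  have hkinj : Function.Injective kp := fun y z e => Subtype.ext (by
    rw [hix y, hix z, show (ix y).val = (ix z).val by rw [hkp y, hkp z, e]])
  have hr := Nat.card_le_card_of_injective kp hkinj
  rw [Nat.card_fin, TwistCheck.len_ok.2.2.2.2.2] at hr
  have := Nat.mul_le_mul hk hr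
  omega

omit H

/-- A conjugate in the centraliser lies over one of the two representatives. -/
theorem conj_class (hweak : ∀ g : G, g * t * g⁻¹ ∈ χ.range → g * t * g⁻¹ = t) (htw : Twisted t χ)
    (hkill : ∀ (g : G) (x : C0), g * t * g⁻¹ ∈ Subgroup.centralizer ({t} : Set G) → Rel χ (g * t * g⁻¹) x →
      ¬ IsConj (el (repW 3)) x ∧ ¬ IsConj (el (repW 9)) x)
    {g : G} (hg : g * t * g⁻¹ ∈ Subgroup.centralizer ({t} : Set G)) (hne : g * t * g⁻¹ ≠ t) :
    ∃ (k : Fin 2) (z : C0), Rel χ (g * t * g⁻¹) (z * el (repW (jRep k)) * z⁻¹) := by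
  obtain ⟨x, hx⟩ := S.conj _ hg
  have h2 : g * t * g⁻¹ * (g * t * g⁻¹) = 1 := by
    calc g * t * g⁻¹ * (g * t * g⁻¹) = g * (t * t) * g⁻¹ := by group
      _ = 1 := by rw [S.t_sq, mul_one, mul_inv_cancel]
  have hr : x.right ≠ 1 := fun h => hne (hweak g (S.mem_range hg hx h))
  obtain ⟨-, j, hj, hjc⟩ := htw _ x hg h2 hx hr
  obtain ⟨h3, h9⟩ := hkill g x hg hx
  obtain ⟨z, hz⟩ := isConj_iff.1 hjc
  simp only [List.mem_cons, List.not_mem_nil, or_false] at hj
  rcases hj with h | h | h | h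
  · exact ⟨0, z, by rw [show jRep 0 = j from Fin.ext h.symm, hz]; exact hx⟩
  · exact absurd (show j = 3 from Fin.ext h) (fun e => h3 (e ▸ hjc))
  · exact ⟨1, z, by rw [show jRep 1 = j from Fin.ext h.symm, hz]; exact hx⟩
  · exact absurd (show j = 9 from Fin.ext h) (fun e => h9 (e ▸ hjc))

/-- **The twisted case does not occur.** -/
theorem twist_false (ht : orderOf t = 2) (htw : Twisted t χ)
    (hkill : ∀ (g : G) (x : C0), g * t * g⁻¹ ∈ Subgroup.centralizer ({t} : Set G) → Rel χ (g * t * g⁻¹) x →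
      ¬ IsConj (el (repW 3)) x ∧ ¬ IsConj (el (repW 9)) x)
    (hpart : ∃ g : G, g * t * g⁻¹ ∈ Subgroup.centralizer ({t} : Set G) ∧ g * t * g⁻¹ ≠ t) : False := by
  have hweak := weak_closure S ht
  obtain ⟨g0, hg0, hne0⟩ := hpart
  obtain ⟨k, z, hz⟩ := conj_class S hweak htw hkill hg0 hne0
  obtain ⟨c, hc, hcz⟩ := S.surj z
  have hu0 : g0 * t * g0⁻¹ * (g0 * t * g0⁻¹) = 1 := by
    calc g0 * t * g0⁻¹ * (g0 * t * g0⁻¹) = g0 * (t * t) * g0⁻¹ := by group
      _ = 1 := by rw [S.t_sq, mul_one, mul_inv_cancel]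
  set g := g0⁻¹ * c
  have H : TSetup t χ (c⁻¹ * (g0 * t * g0⁻¹) * c) g k := by
    refine ⟨mul_mem (mul_mem (inv_mem hc) hg0) hc, ?_, by simp only [g]; group, ?_⟩
    · have h := (hcz.inv.mul hz).mul hcz
      rwa [show z⁻¹ * (z * el (repW (jRep k)) * z⁻¹) * z = el (repW (jRep k)) by group] at h
    · calc c⁻¹ * (g0 * t * g0⁻¹) * c * (c⁻¹ * (g0 * t * g0⁻¹) * c)
          = c⁻¹ * (g0 * t * g0⁻¹ * (g0 * t * g0⁻¹)) * c := by group
        _ = 1 := by rw [hu0, mul_one, inv_mul_cancel]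
  have e : g * t * g⁻¹ = g0⁻¹ * t * g0 := by
    have h : c * t * c⁻¹ = t := by rw [Subgroup.mem_centralizer_singleton_iff.1 hc, mul_inv_cancel_right]
    calc g * t * g⁻¹ = g0⁻¹ * (c * t * c⁻¹) * g0 := by simp only [g]; group
      _ = _ := by rw [h]
  have hgC : g * t * g⁻¹ ∈ Subgroup.centralizer ({t} : Set G) := by
    rw [e, Subgroup.mem_centralizer_singleton_iff]
    have h := Subgroup.mem_centralizer_singleton_iff.1 hg0
    calc g0⁻¹ * t * g0 * t = g0⁻¹ * (t * (g0 * t * g0⁻¹)) * g0 := by group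
      _ = g0⁻¹ * (g0 * t * g0⁻¹ * t) * g0 := by rw [h]
      _ = t * (g0⁻¹ * t * g0) := by group
  have hgne : g * t * g⁻¹ ≠ t := fun h => hne0 (by
    rw [e] at h
    calc g0 * t * g0⁻¹ = g0 * (g0⁻¹ * t * g0) * g0⁻¹ := by rw [h]
      _ = t := by group)
  obtain ⟨k', z', hz'⟩ := conj_class S hweak htw hkill hgC hgne
  exact setup_false S H hweak htw (card_part S H rfl hz')

end Cfsg.Agent.Co2Type.Local
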