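import Cfsg.Agent.Lib.Co2Type.Local.Five
import Cfsg.Agent.Lib.Co2Type.Local.Twist
import Cfsg.Agent.Lib.Co2Type.Code.Roots.Ord

/-!
With exact coordinates no conjugate of the involution lies in the second class: the part would contain a root of
it, and none lies over the radical.
-/

set_option autoImplicit false
set_option maxRecDepth 100000
set_option linter.unusedSectionVars false

namespace Cfsg.Agent.Co2Type.Local

open Code End WeakCheck TwistCheck FiveCheck KillCheck

/-- The commutator of a code with a vector. -/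
noncomputable def dispR (r : ℕ × List ℕ) (a : ℕ) : ℕ := qmulN (cnj r a) (a ^^^ kz (Code.beta a a))

theorem two_no_root : ((List.range 128).all fun i =>
    !Roots.beqL ((wimg (tradW i)).map (appL (wimg (tradW i)))) (wimg w1) ||
      (List.range 512).all fun v => !Nat.beq (qmulN v (appL (wimg (tradW i)) v)) (cw (repW 2)).1 ||
        [4, 8].any fun a => [69, 398, 459, 256].any fun d => Nat.beq (dispR (v, wimg (tradW i)) a) d) = true := by
  decide +kernel

theorem two_fixed : ([4, 8].all fun a => Nat.blt a 512 && Nat.beq (cnj (cw (repW 2)) a) a) = true ∧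
    ([69, 398, 459, 256].all fun d => !Nat.beq d 0 && (Nat.beq d 256 ||
      (List.range 512).any fun w => Nat.beq (disp (cw (repW 2)) w) d)) = true := by
  decide +kernel

variable {G : Type*} [Group G] {t : G} {χ : Q8 →* G} {φ : C0 →* G} (X : Exact t χ φ)
include X

/-- A conjugate of the four classes is conjugate to a representative of a setup. -/
theorem Exact.normal_five (S : Coo t χ) {j : Fin 10} (hj : j.val ∈ [5, 6, 7, 8]) :
    ∃ (k : Fin 4) (e : C0), 2 ≤ k.val ∧ (e = el (repW (jK k)) ∨ e = el (repW (jK k)) * Code.tau) ∧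
      IsConj (el (repW j)) e := by
  simp only [List.mem_cons, List.not_mem_nil, or_false] at hj
  have hA : ∀ w : List (Fin 15), ((List.range 2269).any fun i => Nat.ble 1 i && Nat.ble i 1008 &&
      Roots.beqC (cw w) (Roots.rootC i)) = true → IsConj (el rootAW) (el w) := fun w h => by
    obtain ⟨i, -, hi⟩ := List.any_eq_true.1 h
    simp only [Bool.and_eq_true, Nat.ble_eq] at hi
    exact Roots.classA_iff.2 ⟨i, hi.1.1, hi.1.2, by rw [← cw_code']; exact Roots.beqC_eq hi.2⟩
  rcases hj with h | h | h | h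
  · exact ⟨2, el (repW 5), le_refl _, Or.inl rfl, by rw [show j = 5 from Fin.ext h]⟩
  · refine ⟨2, el (repW 5) * Code.tau, le_refl _, Or.inr rfl, ?_⟩
    have e := of_eqW six_conj
    rw [el_append, el_append, el_append] at e
    rw [show j = 6 from Fin.ext h, isConj_iff]
    refine ⟨el (dec 0x112), ?_⟩
    have e2 : el (dec 0x112) * el (repW 6) * Code.tau = el (repW 5) * el (dec 0x112) := by
      rw [mul_assoc]; exact e
    calc el (dec 0x112) * el (repW 6) * (el (dec 0x112))⁻¹
        = el (dec 0x112) * el (repW 6) * (Code.tau * Code.tau) * (el (dec 0x112))⁻¹ := by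
          rw [X.tau_sq S, mul_one]
      _ = el (dec 0x112) * el (repW 6) * Code.tau * (Code.tau * (el (dec 0x112))⁻¹) := by group
      _ = el (repW 5) * (el (dec 0x112) * ((el (dec 0x112))⁻¹ * Code.tau)) := by rw [e2, X.tau_comm, mul_assoc]
      _ = el (repW 5) * Code.tau := by rw [mul_inv_cancel_left]
  · exact ⟨3, el (repW 7), by decide, Or.inl rfl, by rw [show j = 7 from Fin.ext h]⟩
  · refine ⟨3, el (repW 7) * Code.tau, by decide, Or.inr rfl, ?_⟩
    have h8 := hA _ root_rep.2.1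
    rw [el_append] at h8
    obtain ⟨z, hz⟩ := isConj_iff.1 (h8.symm.trans (hA _ root_rep.1))
    rw [show j = 8 from Fin.ext h, isConj_iff]
    refine ⟨z, ?_⟩
    calc z * el (repW 8) * z⁻¹ = z * el (repW 8) * (Code.tau * Code.tau) * z⁻¹ := by rw [X.tau_sq S, mul_one]
      _ = z * (el (repW 8) * Code.tau) * (Code.tau * z⁻¹) := by group
      _ = z * (el (repW 8) * Code.tau) * (z⁻¹ * Code.tau) := by rw [X.tau_comm z⁻¹]
      _ = _ := by rw [← hz, mul_assoc (z * _)]; rfl

variable [Finite G] (ht : orderOf t = 2)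
include ht

/-- The second class contains no conjugate. -/
theorem Exact.two_free (S : Coo t χ) (hcard : Nat.card (Subgroup.centralizer ({t} : Set G)) = 512 * 1451520) :
    ¬ ∃ g, g * t * g⁻¹ = φ (el (repW 2)) := by
  rintro ⟨g0, hg0⟩
  set e := el (repW 2)
  set u := φ e
  set g := g0⁻¹ with hg
  have H : TSetup t χ u g 0 := by
    refine ⟨X.mem e, X.rel e, by simp only [u, g, ← hg0]; group, ?_⟩
    calc u * u = g0 * (t * t) * g0⁻¹ := by rw [show u = g0 * t * g0⁻¹ from hg0.symm]; group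
      _ = 1 := by rw [S.t_sq, mul_one, mul_inv_cancel]
  have hmem : g * t * g⁻¹ ∈ Subgroup.centralizer ({t} : Set G) := by
    rw [Subgroup.mem_centralizer_singleton_iff, hg, inv_inv]
    have h : g0 * t * g0⁻¹ * t = t * (g0 * t * g0⁻¹) := by
      rw [show g0 * t * g0⁻¹ = u from hg0]
      exact Coo.comm_t (X.mem e)
    calc g0⁻¹ * t * g0 * t = g0⁻¹ * (t * (g0 * t * g0⁻¹)) * g0 := by group
      _ = g0⁻¹ * (g0 * t * g0⁻¹ * t) * g0 := by rw [h]
      _ = t * (g0⁻¹ * t * g0) := by group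
  obtain ⟨x', j, hx', hj, hjc⟩ := X.classes ht S hcard hmem fun h => u_notMem S H zt (by
    rw [S.zt_eq]
    exact mul_left_cancel (mul_right_cancel (h.trans H.to_t.symm)))
  by_cases h5 : j.val ∈ [5, 6, 7, 8]
  · obtain ⟨k, e', hk, he', hc⟩ := X.normal_five S h5
    obtain ⟨z, hz⟩ := isConj_iff.1 (hjc.symm.trans hc)
    have hzt : φ z * t = t * φ z := Coo.comm_t (X.mem z)
    refine X.pair_free ht S (g := φ z * g) hk he' ?_ (x := e) (j := 2) ?_ (by decide) (IsConj.refl _)
    · rw [← hz, map_mul, map_mul, map_inv, hx']; group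
    · calc φ e = g⁻¹ * t * g := by rw [hg, inv_inv, hg0]
        _ = g⁻¹ * ((φ z)⁻¹ * (t * φ z)) * g := by rw [← hzt, inv_mul_cancel_left]
        _ = _ := by group
  have hj24 : j.val ∈ [2, 4] := by
    simp only [List.mem_cons, List.not_mem_nil, or_false] at hj h5 ⊢
    omega
  obtain ⟨z, rfl⟩ := isConj_iff.1 hjc
  obtain ⟨v, hv, hv'⟩ := List.any_eq_true.1 (fix_root j hj24)
  simp only [Bool.and_eq_true, Nat.beq_eq] at hv'
  set a : Q8 := ⟨v, List.mem_range.1 hv⟩
  set q := χ (conjQ z a) with hq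
  have hqu : q * (g * t * g⁻¹) = g * t * g⁻¹ * q := by
    have h := X.rel (z * el (repW j) * z⁻¹) (conjQ z a)
    have e2 : conjQ (z * el (repW j) * z⁻¹) (conjQ z a) = conjQ z a := by
      rw [← MulAut.mul_apply, ← conjQ_mul, inv_mul_cancel_right, conjQ_mul, MulAut.mul_apply]
      exact congrArg (conjQ z) (Q8.ext ((conjQ_el _ _).trans hv'.1))
    rw [e2, hx', mul_inv_eq_iff_eq_mul] at h
    exact h.symm
  have hrC : g⁻¹ * q * g ∈ Subgroup.centralizer ({t} : Set G) := Subgroup.mem_centralizer_singleton_iff.2 (by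
    calc g⁻¹ * q * g * t = g⁻¹ * (q * (g * t * g⁻¹)) * g := by group
      _ = t * (g⁻¹ * q * g) := by rw [hqu]; group)
  set r : ↥(Subgroup.centralizer ({t} : Set G)) := ⟨g⁻¹ * q * g, hrC⟩
  have hr : r ∈ rSub t χ g := mem_rSub.2 ⟨conjQ z a, by simp only [r, q]; group⟩
  have hqq : q * q = t := by
    rw [hq, ← map_mul, ← map_mul, show a * a = zt from Q8.ext ((Q8.mul_n a a).trans hv'.2), map_zt, S.zt_eq]
  have hr2 : r.1 * r.1 = u := by
    calc g⁻¹ * q * g * (g⁻¹ * q * g) = g⁻¹ * (q * q) * g := by group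
      _ = u := by rw [hqq, hg, inv_inv, hg0]
  -- the image lies in the radical
  have hrad : TRad (S.pi r) := by
    refine ⟨?_, fun b hb => ?_⟩
    · rw [← pi_u S H, ← map_mul, ← map_mul]
      exact congrArg S.pi (Subtype.ext (r_comm S H hr))
    · obtain ⟨y, -, hy, hyv⟩ := S.exists_rel r
      set c : ↥(Subgroup.centralizer ({t} : Set G)) := ⟨χ b, S.chi_mem b⟩
      have h2 : InD (t := t) (χ := χ) g (conjQ y b * b⁻¹) := by
        refine ⟨S.chi_mem _, ?_⟩
        have e : (⟨χ (conjQ y b * b⁻¹), S.chi_mem _⟩ : ↥(Subgroup.centralizer ({t} : Set G))) =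
            r * (c * r⁻¹ * c⁻¹) := Subtype.ext (by
          show χ (conjQ y b * b⁻¹) = r.1 * (χ b * r.1⁻¹ * (χ b)⁻¹)
          rw [map_mul, map_inv, ← hyv]; group)
        rw [e]
        exact Subgroup.mul_mem _ hr (r_conj S H (chi_fix S H hb) (Subgroup.inv_mem _ hr))
      have h3 := meet_image S H h2
      rwa [lo_mul, lo_inv, conjQ_lo, hy] at h3
  obtain ⟨i, hi, hri⟩ := trad_iff hrad
  obtain ⟨x, hx⟩ := X.exists_code hrC
  have hrel : Rel χ r.1 x := by rw [show r.1 = φ x from hx.symm]; exact X.rel x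
  have hxr : x.right = rw0 (tradW i) := (S.pi_eq (c := r) hrel).symm.trans hri
  have hxx : code (x * x) = code e := congrArg code (X.inj (by rw [map_mul, hx]; exact hr2))
  rw [code_mul, code_of_right hxr, ← cw_code'] at hxx
  have h := List.all_eq_true.1 two_no_root i (List.mem_range.2 hi)
  have hself : ∀ l : List ℕ, Roots.beqL l l = true := fun l => by
    induction l with
    | nil => rfl
    | cons a l ih =>
      show (Nat.beq a a && Roots.beqL l l) = true
      rw [Nat.beq_refl, ih]; rfl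
  have h1 : (wimg (tradW i)).map (appL (wimg (tradW i))) = wimg w1 :=
    (congrArg Prod.snd hxx).trans (rep_ok.1 2 (by decide))
  have h2 : qmulN x.left.n (appL (wimg (tradW i)) x.left.n) = (cw (repW 2)).1 := congrArg Prod.fst hxx
  rw [h1, hself, Bool.not_true, Bool.false_or] at h
  have h' := List.all_eq_true.1 h x.left.n (List.mem_range.2 x.left.lt)
  rw [h2, Nat.beq_refl, Bool.not_true, Bool.false_or, List.any_eq_true] at h'
  obtain ⟨b, hb, h'⟩ := h'
  obtain ⟨d, hd, h'⟩ := List.any_eq_true.1 h'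
  have hb' := List.all_eq_true.1 two_fixed.1 b hb
  simp only [Bool.and_eq_true, Nat.blt_eq, Nat.beq_eq] at hb'
  have hd' := List.all_eq_true.1 two_fixed.2 d hd
  simp only [Bool.and_eq_true, Bool.not_eq_true', Bool.or_eq_true, List.any_eq_true] at hd'
  set bq : Q8 := ⟨b, hb'.1⟩
  -- the commutator lies in the meet
  set dq := conjQ x bq * bq⁻¹ with hdq
  have hdn : dq.n = d := by
    rw [← Nat.eq_of_beq_eq_true h', hdq, Q8.mul_n, conjQ_cnj, code_of_right hxr]
    rfl
  set cb : ↥(Subgroup.centralizer ({t} : Set G)) := ⟨χ bq, S.chi_mem bq⟩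
  have hbu : cb.1 * u = u * cb.1 := by
    have h := X.rel e bq
    rw [show conjQ e bq = bq from Q8.ext ((conjQ_el _ _).trans hb'.2), mul_inv_eq_iff_eq_mul] at h
    exact h.symm
  have hD : (⟨χ dq, S.chi_mem dq⟩ : ↥(Subgroup.centralizer ({t} : Set G))) ∈ rSub t χ g := by
    rw [show (⟨χ dq, S.chi_mem dq⟩ : ↥(Subgroup.centralizer ({t} : Set G))) = r * (cb * r⁻¹ * cb⁻¹) from
      Subtype.ext (by
        show χ (conjQ x bq * bq⁻¹) = r.1 * (χ bq * r.1⁻¹ * (χ bq)⁻¹)
        rw [map_mul, map_inv, ← hrel bq]; group)]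
    exact Subgroup.mul_mem _ hr (r_conj S H hbu (Subgroup.inv_mem _ hr))
  rcases hd'.2 with hd256 | ⟨w, hw, hwd⟩
  · refine t_notMem S H (fun g hg => weak_closure S ht g hg) ?_
    convert hD using 1
    exact Subtype.ext (by
      show t = χ dq
      rw [show dq = zt from Q8.ext (hdn.trans (Nat.eq_of_beq_eq_true hd256)), S.zt_eq])
  · set w' : Q8 := ⟨w, List.mem_range.1 hw⟩
    have hwq : w' * (conjQ e w')⁻¹ = dq := Q8.ext (by
      rw [Q8.mul_n, hdn, ← Nat.eq_of_beq_eq_true hwd]
      show qmulN w ((conjQ e w').n ^^^ kz (Code.beta (conjQ e w').n (conjQ e w').n)) = _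
      rw [conjQ_el]
      rfl)
    obtain ⟨v, hv⟩ := mem_rSub.1 hD
    have e1 : χ dq * u = χ w' * g⁻¹ * t * (χ w' * g⁻¹)⁻¹ := by
      rw [← hwq, map_mul, map_inv, ← X.rel e w', show φ e = g⁻¹ * t * g by rw [hg, inv_inv]; exact hg0.symm,
        show u = g⁻¹ * t * g by rw [hg, inv_inv]; exact hg0.symm]
      group
    have h3 := weak_closure S ht (g * χ w' * g⁻¹) ⟨v * zt, by
      rw [map_mul, S.zt_eq, hv, show g * χ w' * g⁻¹ * t * (g * χ w' * g⁻¹)⁻¹ =
        g * (χ w' * g⁻¹ * t * (χ w' * g⁻¹)⁻¹) * g⁻¹ by group, ← e1]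
      show g * χ dq * g⁻¹ * t = g * (χ dq * u) * g⁻¹
      calc g * χ dq * g⁻¹ * t = g * χ dq * g⁻¹ * (g * u * g⁻¹) := by rw [H.to_t]
        _ = _ := by group⟩
    rw [show g * χ w' * g⁻¹ * t * (g * χ w' * g⁻¹)⁻¹ =
        g * (χ w' * g⁻¹ * t * (χ w' * g⁻¹)⁻¹) * g⁻¹ by group, ← e1] at h3
    have h4 : χ dq * u = u := mul_left_cancel (mul_right_cancel (h3.trans H.to_t.symm))
    have h5 : dq = 1 := S.inj (by rw [map_one]; exact mul_eq_right.1 h4)
    have := hd'.1
    rw [← hdn, h5, Q8.one_n] at this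
    cases this

end Cfsg.Agent.Co2Type.Local
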