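import Cfsg.Agent.Lib.Co2Type.Local.Main
import Cfsg.Agent.Lib.Co2Type.Local.Two
import Cfsg.Agent.Lib.Co2Type.Local.Eight
import Cfsg.Agent.Lib.Co2Type.Assembly

/-!
The coordinates from the hypotheses on the centraliser: the twisted case does not occur and only roots are
conjugate to the involution.
-/

set_option autoImplicit false
set_option linter.unusedSectionVars false
set_option maxRecDepth 100000

namespace Cfsg.Agent.Co2Type.Local

open Code End FiveCheck

universe uG

variable {G : Type uG} [Group G] [Finite G] {t : G} {χ : Q8 →* G}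

/-- Only roots are conjugate to the involution. -/
theorem Exact.roots {φ : C0 →* G} (X : Exact t χ φ) (S : Coo t χ) (ht : orderOf t = 2)
    (hcard : Nat.card (Subgroup.centralizer ({t} : Set G)) = 512 * 1451520) :
    ∀ c, (∃ g, g * t * g⁻¹ = φ c) → Root c := by
  have hA : ∀ w : List (Fin 15), ((List.range 2269).any fun i => Nat.ble 1 i && Nat.ble i 1008 &&
      Roots.beqC (cw w) (Roots.rootC i)) = true → IsConj (el rootAW) (el w) := fun w h => by
    obtain ⟨i, -, hi⟩ := List.any_eq_true.1 h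
    simp only [Bool.and_eq_true, Nat.ble_eq] at hi
    exact Roots.classA_iff.2 ⟨i, hi.1.1, hi.1.2, by rw [← cw_code']; exact Roots.beqC_eq hi.2⟩
  refine X.eight_free S fun c hc => ?_
  obtain ⟨g, hg⟩ := hc
  by_cases hne : g * t * g⁻¹ = t
  · exact Or.inl (Or.inl (X.inj (by rw [X.tau_eq, ← hg, hne])))
  obtain ⟨x, j, hx, hj, hjc⟩ := X.classes ht S hcard (hg ▸ X.mem c) hne
  obtain rfl : x = c := X.inj (hx.trans hg)
  have hO := X.conj_omega hjc.symm ⟨g, hg⟩
  have hsplit : ∀ j : Fin 10, j.val ∈ [2, 4, 5, 6, 7, 8] → j = 2 ∨ j = 4 ∨ j = 5 ∨ j = 6 ∨ j = 7 ∨ j = 8 := by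
    decide
  rcases hsplit j hj with rfl | rfl | rfl | rfl | rfl | rfl
  · exact (X.two_free ht S hcard hO).elim
  · refine Or.inl (Or.inr (Or.inr ?_))
    obtain ⟨i, hi, hi'⟩ := List.any_eq_true.1 root_rep.2.2
    simp only [Bool.and_eq_true, Nat.ble_eq] at hi'
    exact (Roots.classB_iff.2 ⟨i, hi'.1, List.mem_range.1 hi, by rw [← cw_code']; exact Roots.beqC_eq hi'.2⟩).trans hjc
  · exact (X.five_free ht S hcard 0 hO).elim
  · have e := of_eqW six_conj
    rw [el_append, el_append, el_append, ← mul_assoc] at e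
    refine (X.five_free ht S hcard 1 (X.conj_omega (isConj_iff.2 ⟨el (dec 0x112), ?_⟩) hO)).elim
    rw [show el (uW 1) = el (repW 5) * Code.tau from el_append _ _, mul_inv_eq_iff_eq_mul]
    calc el (dec 0x112) * el (repW 6) = el (dec 0x112) * el (repW 6) * (Code.tau * Code.tau) := by
          rw [X.tau_sq S, mul_one]
      _ = el (repW 5) * (el (dec 0x112) * Code.tau) := by rw [← mul_assoc, ← mul_assoc, ← e]; rfl
      _ = _ := by rw [← X.tau_comm, mul_assoc]
  · exact Or.inl (Or.inr (Or.inl ((hA _ root_rep.1).trans hjc)))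
  · refine Or.inr ?_
    have h8 := hA _ root_rep.2.1
    rw [el_append] at h8
    obtain ⟨k, hk⟩ := isConj_iff.1 hjc
    exact h8.trans (isConj_iff.2 ⟨k, by rw [← hk]; exact X.conj_mul_tau S k (el (repW 8))⟩)

/-- The exclusion of the other classes. -/
theorem excluded (S : Coo t χ) (ht : orderOf t = 2)
    (hcard : Nat.card (Subgroup.centralizer ({t} : Set G)) = 512 * 1451520)
    (hpart : ∃ g : G, g * t * g⁻¹ ∈ Subgroup.centralizer ({t} : Set G) ∧ g * t * g⁻¹ ≠ t) : Excluded t χ :=
  ⟨fun h => twist_false S ht h (kill_free S ht hcard) hpart, fun φ hinj hrange htau hφ c hc =>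
    (Exact.mk hinj hrange htau hφ).roots S ht hcard c (by rwa [htau] at hc)⟩

/-- **The coordinates of the centraliser with the roots.** -/
theorem hasCoords (hO : Cfsg.oddCore G = ⊥) (hZ : Subgroup.center G = ⊥) (t : G) (ht : orderOf t = 2)
    (hcon : Cfsg.IsPConstrained 2 ↥(Subgroup.centralizer ({t} : Set G)))
    (hQ : Cfsg.IsExtraspecial 2 ↥(Cfsg.pCore 2 ↥(Subgroup.centralizer ({t} : Set G))))
    (hcard : Nat.card ↥(Cfsg.pCore 2 ↥(Subgroup.centralizer ({t} : Set G))) = 2 ^ 9)
    (e : ↥(Subgroup.centralizer ({t} : Set G)) ⧸ Cfsg.pCore 2 ↥(Subgroup.centralizer ({t} : Set G)) ≃* X6) :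
    HasCoords G :=
  hasCoords_of hO hZ t ht hcon hQ hcard e fun _ S hC hp => excluded S ht hC hp

end Cfsg.Agent.Co2Type.Local
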