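import Cfsg.Agent.Lib.Co2Type.Local.Base
import Cfsg.Agent.Lib.Co2Type.Coord
import Cfsg.Agent.Lib.Co2Type.Form
import Cfsg.Agent.Lib.Co2Type.Code.Emb

/-!
The coordinates exist: the centraliser modulo the involution is the code group modulo its involution.
-/

set_option autoImplicit false
set_option maxRecDepth 20000
set_option linter.style.haveILetI false

namespace Cfsg.Agent.Co2Type.Local

open Code

/-- The projection of a generating automorphism on vectors. -/
theorem autImg_ap : ∀ k : Fin 7, ((List.range 512).all fun n =>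
    Nat.beq (appL (autImg k) n % 256) (ap (sp8 k) (n % 256))) = true := by decide +kernel

theorem qf_pow : ∀ i : Fin 8, qf (2 ^ i.val) = false ∧ 2 ^ i.val < 256 := by decide +kernel

theorem bf_pow : ∀ i j : Fin 8, bf (2 ^ i.val) (2 ^ j.val) = decide (i.val + j.val = 7) := by decide +kernel

section Theta

variable {V : Type*} [AddCommGroup V] {M : Mod V} (F : SpinFrame M)

/-- An automorphism acts on the module as an element of `Sp₆(2)`. -/
def Theta (w : MulAut Q8) (x : X6) : Prop := ∀ a, M.ρ x (F.E (lo a)) = F.E (lo (w a))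

variable {F}

theorem Theta.mul {w w' : MulAut Q8} {x x' : X6} (h : Theta F w x) (h' : Theta F w' x') :
    Theta F (w * w') (x * x') := fun a => by rw [Mod.rho_mul, h', h]; rfl

theorem Theta.one : Theta F 1 1 := fun a => by rw [Mod.rho_one]; rfl

theorem Theta.inv {w : MulAut Q8} {x : X6} (h : Theta F w x) : Theta F w⁻¹ x⁻¹ := fun a => by
  have := h (w⁻¹ a)
  rw [MulAut.apply_inv_self] at this
  rw [← this, ← Mod.rho_mul, inv_mul_cancel, Mod.rho_one]

theorem theta_gen (k : Fin 7) : Theta F (autA k) (gen k) := fun a => by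
  rw [F.act]
  exact congrArg F.E (Nat.eq_of_beq_eq_true
    (List.all_eq_true.1 (autImg_ap k) a.n (List.mem_range.2 a.lt))).symm

/-- Every element of `Sp₆(2)` is the action of an element of the automorphism part. -/
theorem exists_theta (x : X6) : ∃ w : ↥W, Theta F w.1 x := by
  have hx : x ∈ Subgroup.closure (Set.range gen) := by rw [closure_gen]; trivial
  induction hx using Subgroup.closure_induction with
  | mem x hx =>
    obtain ⟨k, rfl⟩ := hx
    exact ⟨⟨autA k, Subgroup.subset_closure ⟨k, rfl⟩⟩, theta_gen k⟩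
  | one => exact ⟨1, Theta.one⟩
  | mul x y _ _ hx hy =>
    obtain ⟨w, hw⟩ := hx
    obtain ⟨w', hw'⟩ := hy
    exact ⟨w * w', hw.mul hw'⟩
  | inv x _ hx =>
    obtain ⟨w, hw⟩ := hx
    exact ⟨w⁻¹, hw.inv⟩

/-- Every element of the automorphism part acts as an element of `Sp₆(2)`. -/
theorem exists_theta' (w : ↥W) : ∃ x : X6, Theta F w.1 x := by
  obtain ⟨w, hw⟩ := w
  induction hw using Subgroup.closure_induction with
  | mem w hw =>
    obtain ⟨k, rfl⟩ := hw
    exact ⟨gen k, theta_gen k⟩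
  | one => exact ⟨1, Theta.one⟩
  | mul x y _ _ hx hy =>
    obtain ⟨a, ha⟩ := hx
    obtain ⟨b, hb⟩ := hy
    exact ⟨a * b, ha.mul hb⟩
  | inv x _ hx =>
    obtain ⟨a, ha⟩ := hx
    exact ⟨a⁻¹, ha.inv⟩

end Theta

variable {G : Type*} [Group G] {V : Type*} [AddCommGroup V] {M : Mod V} {t : G} {Q : Subgroup G}

/-- Involutions over the unit vectors. -/
theorem exists_qgens (S : Coord M t Q) (F : SpinFrame M) :
    ∃ q : Fin 8 → G, QGens t q ∧ (∀ i, q i ∈ Q) ∧ ∀ i, S.mk (q i) = F.E (2 ^ i.val) := by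
  have h : ∀ i : Fin 8, ∃ x ∈ Q, S.mk x = F.E (2 ^ i.val) := fun i => S.mk_surj _
  choose q hq hv using h
  have hcomm : ∀ i j : Fin 8, q i * q j = zb t (decide (i.val + j.val = 7)) * (q j * q i) := fun i j => by
    rw [S.mk_comm _ (hq i) _ (hq j), hv, hv, F.b_E (qf_pow i).2 (qf_pow j).2, bf_pow]
  refine ⟨q, ⟨S.ctr.zz, S.ctr.ne_one, fun i => ?_, fun i => ?_, fun i j h => ?_, fun i j h => ?_⟩, hq, hv⟩
  · exact (Subgroup.mem_centralizer_singleton_iff.1 (S.mem_C (hq i))).symm
  · rw [S.sq_false (hq i), hv, F.q_E (qf_pow i).2, (qf_pow i).1]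
  · rw [hcomm, decide_eq_false h, zb_false, one_mul]
  · rw [hcomm, decide_eq_true h, zb_true]

/-- The coordinates of `Q`. -/
theorem exists_chi [Finite G] (S : Coord M t Q) (F : SpinFrame M) : ∃ χ : Q8 →* G, Function.Injective χ ∧
    χ zt = t ∧ χ.range = Q ∧ ∀ a, S.mk (χ a) = F.E (lo a) := by
  obtain ⟨q, hC, hq, hv⟩ := exists_qgens S F
  let χ := hC.qhom
  have hmk : ∀ a, χ a ∈ Q ∧ S.mk (χ a) = F.E (lo a) := by
    refine q8_induction ⟨by rw [map_one]; exact Q.one_mem, by rw [map_one, S.mk_one, lo_one, F.E_zero]⟩ ?_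
    rintro a e he ⟨h1, h2⟩
    have he' : χ ⟨e, gen_lt e he⟩ ∈ Q ∧ S.mk (χ ⟨e, gen_lt e he⟩) = F.E (e % 256) := by
      rcases List.mem_cons.1 he with rfl | he'
      · rw [show (⟨256, gen_lt 256 he⟩ : Q8) = zt from rfl, hC.qhom_zt, S.mk_t,
          show 256 % 256 = 0 from rfl, F.E_zero]
        exact ⟨S.ctr.z_mem, rfl⟩
      · obtain ⟨i, rfl⟩ : ∃ i : Fin 8, 2 ^ i.val = e :=
          (by decide : ∀ e ∈ stdImg, ∃ j : Fin 8, 2 ^ j.val = e) e he'
        rw [hC.qhom_q, hv, Nat.mod_eq_of_lt (qf_pow i).2]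
        exact ⟨hq i, rfl⟩
    rw [map_mul, lo_mul]
    refine ⟨Q.mul_mem h1 he'.1, ?_⟩
    rw [S.mk_mul _ h1 _ he'.1, h2, he'.2, F.add]
    rfl
  have hinj : Function.Injective χ := by
    refine (injective_iff_map_eq_one χ).2 fun a ha => ?_
    have h0 : lo a = lo (1 : Q8) := by
      rw [lo_one]
      refine F.inj _ (lo_lt a) _ (by norm_num) ?_
      rw [← (hmk a).2, ha, S.mk_one, F.E_zero]
    rcases eq_or_of_lo h0 with e | e
    · exact e.symm
    · exfalso
      have : χ (a * zt) = 1 := by rw [← e, map_one]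
      rw [map_mul, ha, one_mul, hC.qhom_zt] at this
      exact S.ctr.ne_one this
  refine ⟨χ, hinj, hC.qhom_zt, ?_, fun a => (hmk a).2⟩
  refine Subgroup.eq_of_le_of_card_ge ?_ ?_
  · rintro _ ⟨a, rfl⟩; exact (hmk a).1
  · rw [S.card, ← card_Q8]
    exact le_of_eq (Nat.card_congr (MonoidHom.ofInjective hinj).toEquiv)

/-- **The coordinates of the centraliser modulo the involution.** -/
theorem exists_coo [Finite G] (S : Coord M t Q) (F : SpinFrame M) :
    ∃ χ : Q8 →* G, Coo t χ ∧ χ.range = Q ∧ (∀ a, S.mk (χ a) = F.E (lo a)) := by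
  obtain ⟨χ, hinj, hzt, hrange, hmk⟩ := exists_chi S F
  have hQ : ∀ v, χ v ∈ Q := fun v => hrange ▸ ⟨v, rfl⟩
  let e : Q8 ≃* ↥χ.range := MonoidHom.ofInjective hinj
  refine ⟨χ, ⟨hinj, hzt, fun c hc => ?_, fun x => ?_, fun c hc h => ?_⟩, hrange, hmk⟩
  · have hct : c * t = t * c := Subgroup.mem_centralizer_singleton_iff.1 hc
    have hin : ∀ v, ∃ v', χ v' = c * χ v * c⁻¹ := fun v => by
      have := S.conj_mem_Q hct (hQ v)
      rwa [← hrange] at this
    choose f hf using hin
    let φh : Q8 →* Q8 := MonoidHom.mk' f fun a b => hinj (by rw [map_mul, hf, hf, hf, map_mul]; group)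
    have hbij : Function.Bijective φh := Finite.injective_iff_bijective.1 fun a b h => hinj (by
      have := congrArg χ h
      simp only [φh, MonoidHom.mk'_apply, hf] at this
      exact mul_left_cancel (mul_right_cancel this))
    let φ : MulAut Q8 := MulEquiv.ofBijective φh hbij
    have hφ : ∀ v, χ (φ v) = c * χ v * c⁻¹ := fun v => hf v
    obtain ⟨w, hw⟩ := exists_theta (F := F) (S.π ⟨c, hc⟩)
    have htr : Triv (φ * w.1⁻¹) := fun a => by
      rw [MulAut.mul_apply]
      refine F.inj _ (lo_lt _) _ (lo_lt _) ?_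
      rw [← hmk, hφ, S.mk_conj' hc (hQ _), hmk, hw, MulAut.apply_inv_self]
    obtain ⟨v, hv⟩ := htr.inner
    refine ⟨⟨v, w⟩, fun a => ?_⟩
    rw [← hφ]
    refine congrArg χ ?_
    show φ a = (MulAut.conj v * w.1) a
    rw [← hv, inv_mul_cancel_right]
  · obtain ⟨y, hy⟩ := exists_theta' (F := F) x.right
    obtain ⟨⟨c, hc⟩, hcy⟩ := S.surj y
    have hct : c * t = t * c := Subgroup.mem_centralizer_singleton_iff.1 hc
    have hin : ∀ v, ∃ v', χ v' = c⁻¹ * χ (conjQ x v) * c := fun v => by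
      have h1 : c⁻¹ * t = t * c⁻¹ := inv_mul_eq_iff_eq_mul.2 (by rw [← mul_assoc, hct, mul_assoc, mul_inv_cancel, mul_one])
      have := S.conj_mem_Q h1 (hQ (conjQ x v))
      rwa [inv_inv, ← hrange] at this
    choose f hf using hin
    let φh : Q8 →* Q8 := MonoidHom.mk' f fun a b => hinj (by rw [map_mul, hf, hf, hf, map_mul, map_mul]; group)
    have hbij : Function.Bijective φh := Finite.injective_iff_bijective.1 fun a b h => by
      have := congrArg χ h
      simp only [φh, MonoidHom.mk'_apply, hf] at this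
      exact (conjQ x).injective (hinj (mul_left_cancel (mul_right_cancel this)))
    let φ : MulAut Q8 := MulEquiv.ofBijective φh hbij
    have hφ : ∀ v, χ (φ v) = c⁻¹ * χ (conjQ x v) * c := fun v => hf v
    have htr : Triv φ := fun a => by
      refine F.inj _ (lo_lt _) _ (lo_lt _) (M.rho_inj_eq (g := y) ?_)
      have e1 : S.mk (c * χ (φ a) * c⁻¹) = S.mk (χ (conjQ x a)) := by
        congr 1
        rw [hφ]; group
      rw [S.mk_conj' hc (hQ _), hcy, hmk, hmk, conjQ_lo] at e1
      rw [e1, hy]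
    obtain ⟨v, hv⟩ := htr.inner
    refine ⟨c * χ v, mul_mem hc (S.mem_C (hQ v)), fun a => ?_⟩
    have h2 : χ (φ a) = χ v * χ a * (χ v)⁻¹ := by
      rw [hv, MulAut.conj_apply, map_mul, map_mul, map_inv]
    rw [hφ] at h2
    calc c * χ v * χ a * (c * χ v)⁻¹ = c * (χ v * χ a * (χ v)⁻¹) * c⁻¹ := by group
      _ = _ := by rw [← h2]; group
  · have hQc : c ∈ Q := by
      refine S.mem_of_rho (c := ⟨c, hc⟩) fun u => ?_
      obtain ⟨n, hn, rfl⟩ := F.surj u
      have : F.E n = S.mk (χ ⟨n, hn.trans (by norm_num)⟩) := by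
        rw [hmk, lo, Nat.mod_eq_of_lt hn]
      rw [this, ← S.mk_conj' hc (hQ _)]
      rw [h, conjQ_one]
      rfl
    obtain ⟨v, rfl⟩ : c ∈ χ.range := hrange.symm ▸ hQc
    have hv : conjQ (SemidirectProduct.inl v) = 1 := MulEquiv.ext fun a => hinj (by
      rw [conjQ_inl, MulAut.conj_apply, map_mul, map_mul, map_inv, h a, conjQ_one])
    rcases conjQ_eq_one hv with e | e
    · refine Or.inl ?_
      rw [show v = 1 from congrArg SemidirectProduct.left e, map_one]
    · refine Or.inr ?_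
      have hl : v = tau.left := congrArg SemidirectProduct.left e
      rw [hl, show tau.left = zt from Q8.ext (congrArg Prod.fst
        (show code tau = (256, stdImg) by rw [tau, code_el]; exact (by decide +kernel : codeW tauW = (256, stdImg)))), hzt]

end Cfsg.Agent.Co2Type.Local
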