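import Cfsg.Agent.Lib.Co2Type.Local.KillCheck

/-!
Finite facts for the classes with thirty-two fixed elements: a lift that cannot lie in the part, and the squares in
the pointwise stabiliser.
-/

set_option autoImplicit false
set_option maxRecDepth 200000

namespace Cfsg.Agent.Co2Type.Local.FiveCheck

open Code End WeakCheck KillCheck FiveData

/-- The representative with either sign, as a word. -/
def uW (s : Fin 2) : List (Fin 15) := if s = 0 then repW 5 else repW 5 ++ tauW

/-- Two codes commute. -/
noncomputable def commC (a b : ℕ × List ℕ) : Bool := Roots.beqC (mulC a b) (mulC b a)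

/-- The product tested for a lift. -/
noncomputable def prodC (s : Fin 2) (r : ℕ × List ℕ) (kind c : ℕ) : ℕ × List ℕ :=
  if kind = 0 then r else if kind = 1 then mulC r (cw (uW s))
  else mulC r (mulC (mulC (cw (dec c)) r) (cw (dec c).reverse))

/-- The centralising word moves a lift within its image. -/
noncomputable def movedB (r : ℕ × List ℕ) : Bool :=
  let c := cw (dec fiveC)
  !Nat.beq (mulC c r).1 (mulC r c).1 && Roots.beqL (mulC c r).2 (mulC r c).2

/-- A product is a further conjugate. -/
noncomputable def conjD (s : Fin 2) (r : ℕ × List ℕ) (p : ℕ × ℕ × ℕ) : Bool :=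
  let q := prodC s r p.1 p.2.1
  let h := cw (dec p.2.2)
  commC (cw (dec p.2.1)) (cw (uW s)) && Roots.beqC (mulC q h) (mulC h (cw (uW s))) && !Roots.beqC q (cw (uW s))

theorem lift_ok : ∀ s : Fin 2, ((List.range 512).all fun v =>
    !commC (v, wimg (dec fiveW)) (cw (uW s)) || movedB (v, wimg (dec fiveW)) ||
      (fiveD s).any (conjD s (v, wimg (dec fiveW)))) = true := by decide +kernel

theorem c_comm : ∀ s : Fin 2, commC (cw (dec fiveC)) (cw (uW s)) = true := by decide +kernel

theorem five_count : ((listK 2).filter (commX 2)).length = 32 ∧ fiveW ∈ (listK 2).filter (commX 2) := by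
  decide +kernel

theorem square_one : ∀ k : Fin 4, 2 ≤ k.val → ((listK k).all fun n =>
    Roots.beqL ((wimg (dec n)).map (appL (wimg (dec n)))) stdImg) = true := by decide +kernel

theorem fix_thirty_two : ∀ j : Fin 10, j.val ∈ [2, 4, 5, 6, 7, 8] →
    32 ≤ ((List.range 512).filter fun v => Nat.beq (cnj (cw (repW j)) v) v).length := by decide +kernel

theorem fix_root : ∀ j : Fin 10, j.val ∈ [2, 4] →
    ((List.range 512).any fun v => Nat.beq (cnj (cw (repW j)) v) v && Nat.beq (qmulN v v) 256) = true := by
  decide +kernel

theorem six_conj : eqW (dec 0x112 ++ (repW 6 ++ tauW)) (repW 5 ++ dec 0x112) = true := by decide +kernel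

theorem root_rep : ((List.range 2269).any fun i => Nat.ble 1 i && Nat.ble i 1008 &&
      Roots.beqC (cw (repW 7)) (Roots.rootC i)) = true ∧
    ((List.range 2269).any fun i => Nat.ble 1 i && Nat.ble i 1008 &&
      Roots.beqC (cw (repW 8 ++ tauW)) (Roots.rootC i)) = true ∧
    ((List.range 2269).any fun i => Nat.ble 1009 i &&
      Roots.beqC (cw (repW 4)) (Roots.rootC i)) = true := by decide +kernel

end Cfsg.Agent.Co2Type.Local.FiveCheck
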