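import Cfsg.Agent.Lib.Co2Type.Local.Kill
import Cfsg.Agent.Lib.Co2Type.Local.FiveCheck

/-!
With exact coordinates: no conjugate of the involution lies in the classes five and six, and a conjugate of the
classes with thirty-two fixed elements is not paired with one having a root of the centre in its fixed group.
-/

set_option autoImplicit false
set_option maxRecDepth 20000
set_option linter.unusedSectionVars false
set_option linter.style.haveILetI false

namespace Cfsg.Agent.Co2Type.Local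

open Code End WeakCheck KillCheck FiveCheck FiveData

variable {G : Type*} [Group G] {t : G} {χ : Q8 →* G}

/-- The code group maps onto the centraliser compatibly with the coordinates. -/
structure Exact (t : G) (χ : Q8 →* G) (φ : C0 →* G) : Prop where
  inj : Function.Injective φ
  range_eq : φ.range = Subgroup.centralizer ({t} : Set G)
  tau_eq : φ Code.tau = t
  rel : ∀ x, Rel χ (φ x) x

namespace KSetup

variable {u g : G} {k : Fin 4} (H : KSetup t χ u g k) (hweak : ∀ g : G, g * t * g⁻¹ ∈ χ.range → g * t * g⁻¹ = t)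
include H hweak

/-- The part has no root of the conjugate. -/
theorem sq_free (S : Coo t χ) (hk : 2 ≤ k.val) {r : ↥(Subgroup.centralizer ({t} : Set G))} (hr : r ∈ rSub t χ g) :
    r.1 * r.1 ≠ u := by
  intro e
  obtain ⟨n, hn, hp, -⟩ := H.image_mem hweak S hr
  have h2 := List.all_eq_true.1 (square_one k hk) n hn
  refine H.moved ?_
  rw [← H.pi_u S, show (⟨u, H.mem⟩ : ↥(Subgroup.centralizer ({t} : Set G))) = r * r from Subtype.ext e.symm,
    map_mul, hp]
  refine Subtype.ext (imgs_injective ?_)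
  rw [Subgroup.coe_mul, imgs_mul, imgs_rw0, Roots.beqL_eq _ _ h2]
  exact eq_one_of_triv_P.code_one_snd.symm

/-- A fixed root of the other conjugate gives a root in the part. -/
theorem root_mem (S : Coo t χ) {z : C0} {j : Fin 10} (hrel : Rel χ (g * t * g⁻¹) (z * el (repW j) * z⁻¹))
    (hj : j.val ∈ [2, 4]) : ∃ r ∈ rSub t χ g, r.1 * r.1 = u := by
  obtain ⟨v, hv, hv'⟩ := List.any_eq_true.1 (fix_root j hj)
  simp only [Bool.and_eq_true, Nat.beq_eq] at hv'
  set a : Q8 := ⟨v, List.mem_range.1 hv⟩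
  obtain ⟨r, hr, he⟩ := H.mem_of_fix hweak S hrel a hv'.1
  refine ⟨r, hr, ?_⟩
  have h : g * (r.1 * r.1) * g⁻¹ = g * u * g⁻¹ := by
    rw [H.to_t, show g * (r.1 * r.1) * g⁻¹ = g * r.1 * g⁻¹ * (g * r.1 * g⁻¹) by group, he, ← map_mul, ← map_mul,
      show a * a = zt from Q8.ext ((Q8.mul_n a a).trans hv'.2), map_zt, S.zt_eq]
  exact mul_left_cancel (mul_right_cancel h)

end KSetup

/-- The code of an element over a word. -/
theorem code_of_right {x : C0} {w : List (Fin 15)} (h : x.right = rw0 w) : code x = (x.left.n, wimg w) :=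
  Prod.ext rfl (by show imgs _ = _; rw [h, imgs_rw0])

variable {φ : C0 →* G} (X : Exact t χ φ)
include X

theorem Exact.mem (x : C0) : φ x ∈ Subgroup.centralizer ({t} : Set G) := X.range_eq ▸ ⟨x, rfl⟩

theorem Exact.exists_code {c : G} (hc : c ∈ Subgroup.centralizer ({t} : Set G)) : ∃ x, φ x = c := by
  have : c ∈ φ.range := X.range_eq.symm ▸ hc
  exact this

theorem Exact.tau_comm (x : C0) : Code.tau * x = x * Code.tau := X.inj (by
  rw [map_mul, map_mul, X.tau_eq]
  exact (Coo.comm_t (X.mem x)).symm)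

theorem Exact.tau_sq (S : Coo t χ) : Code.tau * Code.tau = 1 := X.inj (by rw [map_mul, X.tau_eq, map_one, S.t_sq])

theorem Exact.conj_omega {a b : C0} (hab : IsConj a b) (h : ∃ g, g * t * g⁻¹ = φ a) :
    ∃ g, g * t * g⁻¹ = φ b := by
  obtain ⟨g, hg⟩ := h
  obtain ⟨k, rfl⟩ := isConj_iff.1 hab
  exact ⟨φ k * g, by rw [map_mul, map_mul, map_inv, ← hg]; group⟩

/-- A conjugate with the code of a representative up to the centre gives a setup. -/
theorem Exact.setup {e : C0} {k : Fin 4} (he : e = el (repW (jK k)) ∨ e = el (repW (jK k)) * Code.tau)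
    (S : Coo t χ) {g : G} (hg : g * t * g⁻¹ = φ e) : KSetup t χ (φ e) g⁻¹ k := by
  refine ⟨X.mem e, ?_, by rw [← hg]; group, ?_⟩
  · rcases he with rfl | rfl
    · exact X.rel _
    · have h := (X.rel (el (repW (jK k)) * Code.tau)).mul_tau
      rwa [mul_assoc (el (repW (jK k))), X.tau_sq S, mul_one] at h
  · rw [Subgroup.mem_centralizer_singleton_iff, inv_inv]
    have h := Coo.comm_t (X.mem e)
    rw [← hg] at h
    calc g⁻¹ * t * g * t = g⁻¹ * (t * (g * t * g⁻¹)) * g := by group
      _ = g⁻¹ * (g * t * g⁻¹ * t) * g := by rw [h]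
      _ = t * (g⁻¹ * t * g) := by group

variable [Finite G] (ht : orderOf t = 2)
include ht

/-- The conjugates other than the involution lie over eight classes. -/
theorem Exact.classes (S : Coo t χ) (hcard : Nat.card (Subgroup.centralizer ({t} : Set G)) = 512 * 1451520)
    {g : G} (hmem : g * t * g⁻¹ ∈ Subgroup.centralizer ({t} : Set G)) (hne : g * t * g⁻¹ ≠ t) :
    ∃ (x : C0) (j : Fin 10), φ x = g * t * g⁻¹ ∧ j.val ∈ [2, 4, 5, 6, 7, 8] ∧ IsConj (el (repW j)) x := by
  obtain ⟨x, hx⟩ := X.exists_code hmem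
  have hrel : Rel χ (g * t * g⁻¹) x := hx ▸ X.rel x
  have hr : x.right ≠ 1 := fun h => hne (weak_closure S ht g (S.mem_range hmem hrel h))
  have h2 : g * t * g⁻¹ * (g * t * g⁻¹) = 1 := by
    calc g * t * g⁻¹ * (g * t * g⁻¹) = g * (t * t) * g⁻¹ := by group
      _ = 1 := by rw [S.t_sq, mul_one, mul_inv_cancel]
  obtain ⟨-, j, hj, hjc⟩ := S.involution_code hcard _ x hmem h2 hrel hr
  obtain ⟨h3, h9⟩ := kill_free S ht hcard g x hmem hrel
  refine ⟨x, j, hx, ?_, hjc⟩
  have h3' : j ≠ 3 := fun e => h3 (e ▸ hjc)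
  have h9' : j ≠ 9 := fun e => h9 (e ▸ hjc)
  exact (by decide : ∀ j : Fin 10, 2 ≤ j.val → j ≠ 3 → j ≠ 9 → j.val ∈ [2, 4, 5, 6, 7, 8]) j hj h3' h9'

/-- The other conjugate of a setup differs from the involution. -/
theorem Exact.classes_setup (S : Coo t χ) (hcard : Nat.card (Subgroup.centralizer ({t} : Set G)) = 512 * 1451520)
    {u g : G} {k : Fin 4} (H : KSetup t χ u g k) :
    ∃ (x : C0) (j : Fin 10), φ x = g * t * g⁻¹ ∧ j.val ∈ [2, 4, 5, 6, 7, 8] ∧ IsConj (el (repW j)) x :=
  X.classes ht S hcard H.other fun e => H.u_notMem S zt (by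
    rw [S.zt_eq]
    exact mul_left_cancel (mul_right_cancel (e.trans H.to_t.symm)))

/-- The classes five and six contain no conjugate. -/
theorem Exact.five_free (S : Coo t χ) (hcard : Nat.card (Subgroup.centralizer ({t} : Set G)) = 512 * 1451520)
    (s : Fin 2) : ¬ ∃ g, g * t * g⁻¹ = φ (el (uW s)) := by
  classical
  rintro ⟨g0, hg0⟩
  have hweak := fun g hg => weak_closure S ht g hg
  set e := el (uW s) with he_def
  have he : e = el (repW (jK 2)) ∨ e = el (repW (jK 2)) * Code.tau := by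
    rw [he_def]
    fin_cases s
    exacts [Or.inl rfl, Or.inr (el_append _ _)]
  have H := X.setup he S hg0
  set g := g0⁻¹
  set u := φ e
  obtain ⟨x', j, hx', hj, hjc⟩ := X.classes_setup ht S hcard H
  obtain ⟨z, rfl⟩ := isConj_iff.1 hjc
  have h32 : 32 ≤ Nat.card (rSub t χ g) := (fix_thirty_two j hj).trans (H.fix_le hweak S (hx' ▸ X.rel _))
  -- the images
  have hinj : ∀ r s : rSub t χ g, S.pi r.1 = S.pi s.1 → r = s := fun r s e => by
    obtain ⟨v, hv⟩ := S.ker_pi (c := r.1⁻¹ * s.1) (by rw [map_mul, map_inv, e, inv_mul_cancel])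
    have hm : InD (t := t) (χ := χ) g v := ⟨S.chi_mem v, by
      rw [show (⟨χ v, S.chi_mem v⟩ : ↥(Subgroup.centralizer ({t} : Set G))) = r.1⁻¹ * s.1 from Subtype.ext hv]
      exact Subgroup.mul_mem _ (Subgroup.inv_mem _ r.2) s.2⟩
    rw [H.meet_one hweak S hm, map_one] at hv
    exact Subtype.ext (Subtype.ext (inv_mul_eq_one.1 hv.symm))
  have him : ∀ r : rSub t χ g, ∃ i : Fin ((listK 2).filter (commX 2)).length,
      S.pi r.1 = rw0 (dec ((listK 2).filter (commX 2))[i.val]) := fun r => by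
    obtain ⟨n, hn, he, hc⟩ := H.image_mem hweak S r.2
    obtain ⟨i, hi, rfl⟩ := List.mem_iff_getElem.1 (List.mem_filter.2 ⟨hn, hc⟩)
    exact ⟨⟨i, hi⟩, he⟩
  choose f hf using him
  have hfi : Function.Injective f := fun r s e => hinj r s (by rw [hf r, hf s, e])
  obtain ⟨hlen, hW⟩ := five_count
  have hb := hfi.bijective_of_nat_card_le (by rw [Nat.card_fin, hlen]; exact h32)
  obtain ⟨i, hi, hiW⟩ := List.mem_iff_getElem.1 hW
  obtain ⟨r, hr⟩ := hb.2 ⟨i, hi⟩
  have hpr : S.pi r.1 = rw0 (dec fiveW) := by rw [hf r, hr, ← hiW]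
  obtain ⟨x, hx⟩ := X.exists_code r.1.2
  have hxr : x.right = rw0 (dec fiveW) := (S.pi_eq (c := r.1) (hx ▸ X.rel x)).symm.trans hpr
  have hxc : code x = (x.left.n, wimg (dec fiveW)) := code_of_right hxr
  have huc : cw (uW s) = code e := by rw [cw_code']
  have hxe : x * e = e * x := X.inj (by rw [map_mul, map_mul, hx]; exact H.r_comm S r.2)
  have hbeq : ∀ c : ℕ × List ℕ, Roots.beqC c c = true := fun c => by
    have h : ∀ l : List ℕ, Roots.beqL l l = true := fun l => by
      induction l with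
      | nil => rfl
      | cons a l ih =>
        show (Nat.beq a a && Roots.beqL l l) = true
        rw [Nat.beq_refl, ih]; rfl
    rw [Roots.beqC, Nat.beq_refl, h]; rfl
  have hcomm_of : ∀ {c : C0}, commC (code c) (cw (uW s)) = true → φ c * u = u * φ c := fun {c} h => by
    have := Roots.beqC_eq h
    rw [huc, ← code_mul, ← code_mul] at this
    simp only [u, ← map_mul, code_injective this]
  have hcond : commC (code x) (cw (uW s)) = true := by
    rw [commC, huc, ← code_mul, ← code_mul, hxe]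
    exact hbeq _
  have h := List.all_eq_true.1 (lift_ok s) x.left.n (List.mem_range.2 x.left.lt)
  rw [← hxc, hcond] at h
  simp only [Bool.not_true, Bool.false_or, Bool.or_eq_true, List.any_eq_true] at h
  rcases h with h | ⟨p, -, h⟩
  · -- the lift is moved within its image
    set cc := el (dec fiveC)
    have hcc : φ cc * u = u * φ cc := hcomm_of (by rw [← cw_code']; exact c_comm s)
    have hr2 := H.r_conj S (c := ⟨φ cc, X.mem cc⟩) hcc r.2
    simp only [movedB, cw_code', ← code_mul, Bool.and_eq_true, Bool.not_eq_true'] at h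
    obtain ⟨h1, h2⟩ := h
    have hright : (cc * x).right = (x * cc).right := Subtype.ext (imgs_injective (Roots.beqL_eq _ _ h2))
    have hpi : S.pi (⟨φ cc, X.mem cc⟩ * r.1 * (⟨φ cc, X.mem cc⟩)⁻¹) = S.pi r.1 := by
      rw [map_mul, map_mul, map_inv, S.pi_eq (c := ⟨φ cc, X.mem cc⟩) (X.rel cc), ← (S.pi_eq (c := r.1) (hx ▸ X.rel x)).symm,
        ← SemidirectProduct.mul_right, hright, SemidirectProduct.mul_right, mul_inv_cancel_right]
    have heq : (⟨φ cc, X.mem cc⟩ : ↥(Subgroup.centralizer ({t} : Set G))) * r.1 * (⟨φ cc, X.mem cc⟩)⁻¹ = r.1 :=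
      congrArg Subtype.val (hinj ⟨_, hr2⟩ r hpi)
    have hcx : cc * x = x * cc := X.inj (by
      rw [map_mul, map_mul, hx]
      exact mul_inv_eq_iff_eq_mul.1 (congrArg Subtype.val heq))
    rw [hcx, Nat.beq_refl] at h1
    cases h1
  · -- a product is a further conjugate
    simp only [conjD, Bool.and_eq_true, Bool.not_eq_true'] at h
    obtain ⟨⟨hc, hq⟩, hne⟩ := h
    set c := el (dec p.2.1)
    set hh := el (dec p.2.2)
    rw [cw_code'] at hc
    have hr2 := H.r_conj S (c := ⟨φ c, X.mem c⟩) (hcomm_of hc) r.2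
    have huR : (⟨u, H.mem⟩ : ↥(Subgroup.centralizer ({t} : Set G))) ∈ rSub t χ g :=
      mem_rSub.2 ⟨zt, by rw [S.zt_eq]; exact H.to_t.symm⟩
    obtain ⟨y, hy, hyR⟩ : ∃ y : C0, code y = prodC s (code x) p.1 p.2.1 ∧
        (⟨φ y, X.mem y⟩ : ↥(Subgroup.centralizer ({t} : Set G))) ∈ rSub t χ g := by
      rw [prodC]
      split
      · exact ⟨x, rfl, by convert r.2⟩
      split
      · refine ⟨x * e, by rw [code_mul, huc], ?_⟩
        convert Subgroup.mul_mem _ r.2 huR using 1
        refine Subtype.ext ?_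
        show φ (x * e) = r.1.1 * u
        rw [map_mul, hx]
      · refine ⟨x * (c * x * c⁻¹), by rw [cw_code', cw_code', ← el_reverse]; simp only [code_mul]; rfl, ?_⟩
        convert Subgroup.mul_mem _ r.2 hr2 using 1
        refine Subtype.ext ?_
        show φ (x * (c * x * c⁻¹)) = r.1.1 * (φ c * r.1.1 * (φ c)⁻¹)
        rw [map_mul, map_mul, map_mul, map_inv, hx]
    rw [← hy, cw_code', huc, ← code_mul, ← code_mul] at hq
    rw [← hy, huc] at hne
    have hyh : y * hh = hh * e := code_injective (Roots.beqC_eq hq)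
    have hyu : φ y = u := H.omega hweak hyR ⟨φ hh * g0, by
      show φ hh * g0 * t * (φ hh * g0)⁻¹ = φ y
      calc φ hh * g0 * t * (φ hh * g0)⁻¹ = φ hh * (g0 * t * g0⁻¹) * (φ hh)⁻¹ := by group
        _ = φ (hh * e) * (φ hh)⁻¹ := by rw [hg0, map_mul]
        _ = φ y := by rw [← hyh, map_mul, mul_inv_cancel_right]⟩
    rw [X.inj hyu, hbeq] at hne
    cases hne

/-- A conjugate over a class with thirty-two fixed elements is not paired with a class with a root. -/
theorem Exact.pair_free (S : Coo t χ) {g : G} {e : C0} {k : Fin 4} (hk : 2 ≤ k.val)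
    (he : e = el (repW (jK k)) ∨ e = el (repW (jK k)) * Code.tau) (hg : g * t * g⁻¹ = φ e)
    {x : C0} {j : Fin 10} (hx : φ x = g⁻¹ * t * g) (hj : j.val ∈ [2, 4]) : ¬ IsConj (el (repW j)) x := by
  intro hjc
  obtain ⟨z, rfl⟩ := isConj_iff.1 hjc
  have H := X.setup he S hg
  have hweak := fun g hg => weak_closure S ht g hg
  have hrel : Rel χ (g⁻¹ * t * g⁻¹⁻¹) (z * el (repW j) * z⁻¹) := by rw [inv_inv, ← hx]; exact X.rel _
  obtain ⟨r, hr, hr2⟩ := H.root_mem hweak S hrel hj
  exact H.sq_free hweak S hk hr hr2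

end Cfsg.Agent.Co2Type.Local
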