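import Mathlib.Logic.Basic

/-!
Data for the classes with thirty-two fixed elements, computed: words in base sixteen, least letter first, with a
leading digit one.
-/

set_option autoImplicit false
set_option maxRecDepth 100000

namespace Cfsg.Agent.Co2Type.Local.FiveData

/-- The levels of the pointwise stabiliser. -/
def fiveLv : List (Nat × List Nat) :=
  [(17, [
    0x18, 0x18dc, 0x18d, 0x19ea98, 0x18e,
    0x18bc, 0x18b, 0x19dcba98, 0x18bdc, 0x18dcb,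
    0x18be, 0x19dea98, 0x18bd, 0x18bcd, 0x18de,
    0x19, 0x1, 0x18baea9b, 0x18baeab, 0x1ea,
    0x1ea9, 0x1ba, 0x1ba9, 0x19dc, 0x1badcbe,
    0x1dc, 0x1baeab, 0x1dcba, 0x1bea, 0x1dcba9,
    0x1badc, 0x19d, 0x18badcbe, 0x1baeabc, 0x1d,
    0x1dea, 0x1ba9d, 0x1bad, 0x1dea9, 0x19ea,
    0x18ea98, 0x19ea9, 0x1ea98, 0x18ba9dcea, 0x1dea98b,
    0x18ba9dea, 0x18dea98b, 0x19e, 0x18ea9, 0x18ea,
    0x1e, 0x18bea9b, 0x1ba9e, 0x1bae, 0x18beab,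
    0x19ba, 0x18ba98, 0x1bc, 0x18bac, 0x1eabc,
    0x18bacde, 0x1ea9bc, 0x18ba98de, 0x19b, 0x18ba9,
    0x18ba, 0x1b, 0x18baea9, 0x1ea9b, 0x1eab,
    0x18baea, 0x19dcba, 0x18dcba98, 0x18ba98ea, 0x18ea98ba,
    0x19dcba9, 0x1dcba98, 0x18ba98dea, 0x1ea98bc, 0x19bdc,
    0x18ba9dc, 0x18deab, 0x18bade, 0x1bdc, 0x18badc,
    0x18dea9b, 0x18ba9de, 0x19dcb, 0x18dcba9, 0x1badcb,
    0x1badce, 0x18dcba, 0x1dcb, 0x1baea, 0x1beab,
    0x19be, 0x18bea9, 0x18ba9e, 0x18ea9b, 0x18bea,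
    0x1be, 0x18eab, 0x18bae, 0x19dea, 0x18dea98,
    0x18ba9ea, 0x18ea98b, 0x18ba9ea9, 0x1ea98b, 0x19dea9,
    0x1dea98, 0x19bd, 0x18ba9d, 0x1deab, 0x18badce,
    0x1dea9b, 0x18ba9dce, 0x1bd, 0x18bad, 0x19bad,
    0x18ba98d, 0x18ba98e, 0x18ea9ba, 0x18eabc, 0x18bace,
    0x18bacd, 0x1bcd, 0x19de, 0x18dea9, 0x18badcb,
    0x1bade, 0x1ba9de, 0x1beabc, 0x18dea, 0x1de]),
  (35, [
    0x198badea9b, 0x19badea9b, 0x18dcbaeabcd, 0x1, 0x1c,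
    0x189dcbaeabcd, 0x18badcba9ea9bae, 0x18ba9dcba9ea98bae, 0x189ba9dcba9ea98bae, 0x189badcba9ea9bae,
    0x189bcdcbea, 0x1bcbdcbe, 0x1bcdcbe, 0x18bcdcbea]),
  (69, [
    0x189a98ba98ea98bacbe, 0x18a9ba98ea98bacbe, 0x18a9ba9cb, 0x189a98ba9cb, 0x18a,
    0x1, 0x1898c, 0x189ac, 0x189bcbea98bacbe, 0x189bcbea9bacbea,
    0x18bcea9bacbea, 0x18bcea98bacbe]),
  (142, [
    0x1, 0x189a98dcbaea98bacd])]

/-- The pointwise stabiliser. -/
def fiveL : List Nat :=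
  [
    0x1, 0x19a9c, 0x19ba9cb,
    0x19abacba9, 0x19dcbaea9bcd, 0x1abcea9bacbea,
    0x19acdcbaea9bcd, 0x1a9bcbea9bacbea, 0x19bacbdcbaea9bcd,
    0x1aba9cbaea9bacbea, 0x19abacbadcbaea9bcd, 0x19dea9bacbdcea9bae,
    0x1898abcea98bacbea98, 0x1a9ba9cba9ea9bacbea, 0x198ea9bacbdcea98ba9e,
    0x19acdea9bacbdcea9bae, 0x1898a9bcbea98bacbea98, 0x198acea9bacbdcea98ba9e,
    0x19bacbdea9bacbdcea9bae, 0x1898aba9cbaea98bacbea98, 0x198bacbea9bacbdcea98ba9e,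
    0x19abacbadea9bacbdcea9bae, 0x1898a9ba9cba9ea98bacbea98, 0x1898ea98ba9cbaea98ba9cbae,
    0x198abacbaea9bacbdcea98ba9e, 0x198ea98ba9cbadcea98ba9cbae, 0x198a9cea98ba9cbaea98ba9cbae,
    0x198acea98ba9cbadcea98ba9cbae, 0x198ba9cbea98ba9cbaea98ba9cbae, 0x198bacbea98ba9cbadcea98ba9cbae,
    0x198abacba9ea98ba9cbaea98ba9cbae, 0x198abacbaea98ba9cbadcea98ba9cbae]

/-- Words whose squares move the candidates, for the two classes. -/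
def fiveP : List Nat := [0x1898baeab, 0x1898abcdcba, 0x1898abacdcbeab]

@[inherit_doc fiveP]
def sevenP : List Nat := [0x1bc, 0x1aeab, 0x1a9eab]

/-- An image without a possible lift. -/
def fiveW : Nat := 0x19a9c

/-- A centralising word moving most lifts. -/
def fiveC : Nat := 0x1898abcdcba

/-- For the remaining lifts, with either sign: the kind of product, a centralising word and a conjugator. -/
def fiveD : Fin 2 → List (Nat × Nat × Nat) := fun s =>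
  if s = 0 then [(0, 0x1, 0x1b), (2, 0x1baeab, 0x1a9ea)] else [(1, 0x1, 0x1c), (0, 0x1, 0x1b)]

end Cfsg.Agent.Co2Type.Local.FiveData
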