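import Cfsg.Agent.Lib.Co2Type.Local.KillCheck
import Cfsg.Agent.Lib.Co2Type.Local.Weak
import Cfsg.Agent.Lib.Co2Type.Local.Split

/-!
No conjugate of the involution lies over the classes of centraliser orders `2^15` and `6144`: the part of the other
extraspecial group in the centraliser would embed in a set of four, or would contain a second conjugate.
-/

set_option autoImplicit false
set_option maxRecDepth 20000
set_option linter.unusedSectionVars false
set_option linter.style.haveILetI false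

namespace Cfsg.Agent.Co2Type.Local

open Code End WeakCheck KillData KillCheck

/-- An element whose code is one of the two representatives, sent to `t`. -/
structure KSetup {G : Type*} [Group G] (t : G) (χ : Q8 →* G) (u g : G) (k : Fin 4) : Prop where
  mem : u ∈ Subgroup.centralizer ({t} : Set G)
  rel : Rel χ u (el (repW (jK k)))
  to_t : g * u * g⁻¹ = t
  other : g * t * g⁻¹ ∈ Subgroup.centralizer ({t} : Set G)

theorem cw_code' (w : List (Fin 15)) : cw w = code (el w) := by rw [cw_eq, code_el]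

theorem conjQ_cnj (x : C0) (a : Q8) : (conjQ x a).n = cnj (code x) a.n := by
  rw [conjQ_apply, Q8.mul_n, Q8.mul_n, apply_eq]
  rfl

theorem conjQ_el (w : List (Fin 15)) (a : Q8) : (conjQ (el w) a).n = cnj (cw w) a.n := by
  rw [cw_code', conjQ_cnj]

/-- Codes with one automorphism part and one vector agree up to the central involution. -/
theorem code_lo_eq {A B : C0} (hr : A.right = B.right) (hl : lo A.left = lo B.left) :
    A = B ∨ A = B * Code.tau := by
  rcases eq_or_of_lo hl.symm with e | e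
  · exact Or.inl (SemidirectProduct.ext e hr)
  · refine Or.inr (SemidirectProduct.ext ?_ ?_)
    · rw [tau_eq_inl, SemidirectProduct.mul_left, SemidirectProduct.left_inl]
      show A.left = B.left * (B.right : MulAut Q8) zt
      rw [map_zt, e]
    · rw [tau_eq_inl, SemidirectProduct.mul_right, SemidirectProduct.right_inl, mul_one, hr]

variable {G : Type*} [Group G] {t : G} {χ : Q8 →* G}

namespace KSetup

variable {u g : G} {k : Fin 4} (H : KSetup t χ u g k)
include H

theorem pi_u (S : Coo t χ) : S.pi ⟨u, H.mem⟩ = rw0 (repW (jK k)) :=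
  S.pi_eq (c := ⟨u, H.mem⟩) H.rel

theorem moved : rw0 (repW (jK k)) ≠ 1 := fun h => by
  have h1 : wimg (repW (jK k)) = stdImg := by
    rw [← imgs_rw0, h]
    exact eq_one_of_triv_P.code_one_snd
  have h2 := rep_moved k
  rw [h1] at h2
  exact absurd h2 (by decide +kernel)

theorem u_notMem (S : Coo t χ) (v : Q8) : χ v ≠ u := fun e => by
  have h := H.pi_u S
  rw [show (⟨u, H.mem⟩ : ↥(Subgroup.centralizer ({t} : Set G))) = ⟨χ v, S.chi_mem v⟩ from Subtype.ext e.symm,
    S.pi_chi] at h
  exact H.moved h.symm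

theorem r_comm (S : Coo t χ) {c : ↥(Subgroup.centralizer ({t} : Set G))} (hc : c ∈ rSub t χ g) :
    c.1 * u = u * c.1 := by
  obtain ⟨v, hv⟩ := mem_rSub.1 hc
  have h := Subgroup.mem_centralizer_singleton_iff.1 (S.chi_mem v)
  rw [hv] at h
  have h2 : g * c.1 * g⁻¹ * (g * u * g⁻¹) = g * u * g⁻¹ * (g * c.1 * g⁻¹) := by rw [H.to_t]; exact h
  calc c.1 * u = g⁻¹ * (g * c.1 * g⁻¹ * (g * u * g⁻¹)) * g := by group
    _ = u * c.1 := by rw [h2]; group

theorem r_sq (S : Coo t χ) {c : ↥(Subgroup.centralizer ({t} : Set G))} (hc : c ∈ rSub t χ g) :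
    c.1 * c.1 = 1 ∨ c.1 * c.1 = u := by
  obtain ⟨v, hv⟩ := mem_rSub.1 hc
  have e : g * (c.1 * c.1) * g⁻¹ = χ (v * v) := by rw [map_mul, hv]; group
  rcases zt_sq_of v with h | h <;> rw [h] at e
  · rw [map_one] at e
    exact Or.inl (by simpa using e)
  · rw [S.zt_eq] at e
    exact Or.inr (mul_left_cancel (mul_right_cancel (e.trans H.to_t.symm)))

theorem r_conj (S : Coo t χ) {c r : ↥(Subgroup.centralizer ({t} : Set G))} (hc : c.1 * u = u * c.1)
    (hr : r ∈ rSub t χ g) : c * r * c⁻¹ ∈ rSub t χ g := by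
  obtain ⟨v, hv⟩ := mem_rSub.1 hr
  have hc' : g * c.1 * g⁻¹ ∈ Subgroup.centralizer ({t} : Set G) := by
    rw [Subgroup.mem_centralizer_singleton_iff]
    have h : g * c.1 * g⁻¹ * (g * u * g⁻¹) = g * u * g⁻¹ * (g * c.1 * g⁻¹) := by
      calc g * c.1 * g⁻¹ * (g * u * g⁻¹) = g * (c.1 * u) * g⁻¹ := by group
        _ = g * u * g⁻¹ * (g * c.1 * g⁻¹) := by rw [hc]; group
    rwa [H.to_t] at h
  obtain ⟨x, -, -, hx⟩ := S.exists_rel ⟨_, hc'⟩
  refine mem_rSub.2 ⟨conjQ x v, ?_⟩
  rw [← hx v, hv]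
  show g * c.1 * g⁻¹ * (g * r.1 * g⁻¹) * (g * c.1 * g⁻¹)⁻¹ = g * (c.1 * r.1 * c.1⁻¹) * g⁻¹
  group

variable (hweak : ∀ g : G, g * t * g⁻¹ ∈ χ.range → g * t * g⁻¹ = t)
include hweak

/-- The only conjugate of `t` in the part is `u`. -/
theorem omega {c : ↥(Subgroup.centralizer ({t} : Set G))} (hc : c ∈ rSub t χ g)
    (h : ∃ m : G, m * t * m⁻¹ = c.1) : c.1 = u := by
  obtain ⟨m, hm⟩ := h
  obtain ⟨v, hv⟩ := mem_rSub.1 hc
  have h1 := hweak (g * m) ⟨v, by rw [hv, ← hm]; group⟩
  rw [show g * m * t * (g * m)⁻¹ = g * c.1 * g⁻¹ by rw [← hm]; group] at h1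
  exact mul_left_cancel (mul_right_cancel (h1.trans H.to_t.symm))

theorem t_notMem (S : Coo t χ) : (⟨t, S.t_mem⟩ : ↥(Subgroup.centralizer ({t} : Set G))) ∉ rSub t χ g :=
  fun h => H.u_notMem S zt (by
    rw [S.zt_eq]
    exact H.omega hweak h ⟨1, by group⟩)

/-- Fixed vectors commute with elements of the meet. -/
theorem meet_central (S : Coo t χ) {v w : Q8} (hv : InD (t := t) (χ := χ) g v)
    (hw : conjQ (el (repW (jK k))) w = w) : v * w = w * v := by
  have hwu : χ w * u = u * χ w := by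
    have h := H.rel w
    rw [hw, mul_inv_eq_iff_eq_mul] at h
    exact h.symm
  obtain ⟨h1, h1'⟩ := hv
  set q : ↥(Subgroup.centralizer ({t} : Set G)) := ⟨χ w, S.chi_mem w⟩
  have h2 : q * ⟨χ v, h1⟩ * q⁻¹ * (⟨χ v, h1⟩ : ↥(Subgroup.centralizer ({t} : Set G)))⁻¹ ∈ rSub t χ g :=
    Subgroup.mul_mem _ (H.r_conj S (c := q) hwu h1') (Subgroup.inv_mem _ h1')
  have h0 : lo (1 : Q8) = lo (w * v * w⁻¹ * v⁻¹) := by
    rw [lo_mul, lo_mul, lo_mul, lo_inv, lo_inv, lo_one]
    exact Nat.eq_of_testBit_eq fun i => by simp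
  rcases eq_or_of_lo h0 with e | e
  · rw [mul_inv_eq_one, mul_inv_eq_iff_eq_mul] at e
    exact e.symm
  · exfalso
    refine H.t_notMem hweak S ?_
    convert h2 using 1
    refine Subtype.ext ?_
    show t = χ w * χ v * (χ w)⁻¹ * (χ v)⁻¹
    rw [← map_inv, ← map_inv, ← map_mul, ← map_mul, ← map_mul, e, one_mul, S.zt_eq]

/-- An element of the meet is a candidate. -/
theorem meet_allowed (S : Coo t χ) {v : Q8} (hv : InD (t := t) (χ := χ) g v) : allowed k v.n = true := by
  classical
  rw [allowed, Bool.or_eq_true]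
  by_cases h0 : v = 1
  · exact Or.inl (by rw [h0, Q8.one_n]; rfl)
  refine Or.inr ?_
  have hv0 := hv
  obtain ⟨h1, h1'⟩ := hv
  have hne : v ≠ zt := fun e => by
    subst e
    refine H.t_notMem hweak S ?_
    convert h1' using 1
    exact Subtype.ext S.zt_eq.symm
  have hsq : v * v = 1 := by
    rcases H.r_sq S h1' with e | e
    · exact S.inj (by rw [map_mul, map_one]; exact e)
    · exact absurd ((map_mul χ v v).trans e) (H.u_notMem S _)
  have hfix : conjQ (el (repW (jK k))) v = v := S.inj (by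
    rw [← H.rel v]
    have h : χ v * u = u * χ v := H.r_comm S h1'
    rw [← h, mul_inv_cancel_right])
  simp only [Bool.and_eq_true, Bool.not_eq_true', List.all_eq_true, Bool.or_eq_true, List.mem_range,
    List.any_eq_false, Nat.beq_eq]
  refine ⟨⟨⟨⟨?_, ?_⟩, ?_⟩, fun w hw => ?_⟩, fun w hw hd => ?_⟩
  · rw [Bool.eq_false_iff]
    intro e
    exact hne (Q8.ext (Nat.eq_of_beq_eq_true e))
  · have := congrArg Q8.n hsq
    rwa [Q8.mul_n] at this
  · have h := congrArg Q8.n hfix
    rw [conjQ_el] at h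
    exact h
  · by_cases hc : cnj (xC k) w = w
    · right
      have hwf : conjQ (el (repW (jK k))) ⟨w, hw⟩ = ⟨w, hw⟩ := Q8.ext (by rw [conjQ_el]; exact hc)
      exact congrArg Q8.n (H.meet_central hweak S hv0 hwf)
    · left
      rw [Bool.eq_false_iff]
      exact fun e => hc (Nat.eq_of_beq_eq_true e)
  · set a : Q8 := ⟨w, hw⟩
    have hva : v = a * (conjQ (el (repW (jK k))) a)⁻¹ := by
      refine Q8.ext ?_
      rw [Q8.mul_n]
      show v.n = qmulN w ((conjQ (el (repW (jK k))) a).n ^^^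
        kz (Code.beta (conjQ (el (repW (jK k))) a).n (conjQ (el (repW (jK k))) a).n))
      rw [conjQ_el]
      exact hd.symm
    have e1 : χ v * u = χ a * u * (χ a)⁻¹ := by
      rw [hva, map_mul, map_inv, ← H.rel a]
      group
    have huR : (⟨u, H.mem⟩ : ↥(Subgroup.centralizer ({t} : Set G))) ∈ rSub t χ g :=
      mem_rSub.2 ⟨zt, by rw [S.zt_eq]; exact H.to_t.symm⟩
    have hm := H.omega hweak (Subgroup.mul_mem _ h1' huR) ⟨χ a * g⁻¹, by
      show χ a * g⁻¹ * t * (χ a * g⁻¹)⁻¹ = χ v * u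
      rw [e1, ← H.to_t]; group⟩
    exact h0 (S.inj (by rw [map_one]; exact mul_eq_right.1 (show χ v * u = u from hm)))

/-- The meet is trivial. -/
theorem meet_one (S : Coo t χ) {v : Q8} (hv : InD (t := t) (χ := χ) g v) : v = 1 := by
  have hm := List.all_eq_true.1 (meet_ok k) v.n (List.mem_range.2 v.lt)
  rw [H.meet_allowed hweak S hv] at hm
  simp only [Bool.not_true, Bool.or_false, Bool.or_eq_true, List.any_eq_true] at hm
  rcases hm with hm | ⟨p, hp, hm⟩
  · exact Q8.ext (Nat.eq_of_beq_eq_true hm)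
  obtain ⟨c, hc, hcv⟩ := S.exists_word p
  have hpk := List.all_eq_true.1 (p_ok k) p hp
  rw [Bool.and_eq_true] at hpk
  obtain ⟨hl, hr⟩ := hpk
  set x := el (repW (jK k))
  have hA : el (p ++ repW (jK k) ++ p.reverse) = el p * x * (el p)⁻¹ := (el_conj _ _).symm
  have hAB : el p * x * (el p)⁻¹ = x ∨ el p * x * (el p)⁻¹ = x * Code.tau := by
    rw [← hA]
    refine code_lo_eq ?_ ?_
    · exact Subtype.ext (imgs_injective ((imgs_rw0 _).trans ((Roots.beqL_eq _ _ hr).trans (imgs_rw0 _).symm)))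
    · have h := Nat.eq_of_beq_eq_true hl
      rw [xC, cw_code', cw_code'] at h
      exact h
  have hd : Rel χ (c.1 * u * c.1⁻¹) x := by
    have h := ((Rel.mul (x := el p) hcv H.rel).mul (Rel.inv (x := el p) hcv))
    rcases hAB with e | e <;> rw [e] at h
    · exact h
    · have h2 := h.mul_tau
      rwa [mul_assoc x, show Code.tau * Code.tau = 1 by
        rw [tau_eq_inl, ← map_mul, show zt * zt = 1 from Q8.ext (by decide +kernel : qmulN 256 256 = 0), map_one],
        mul_one] at h2
  have hdu : (c * c).1 * u = u * (c * c).1 := by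
    have hct : c.1 * t = t * c.1 := Subgroup.mem_centralizer_singleton_iff.1 c.2
    show c.1 * c.1 * u = u * (c.1 * c.1)
    rcases S.uniq H.mem (mul_mem (mul_mem c.2 H.mem) (inv_mem c.2)) H.rel hd with e | e
    · rw [mul_inv_eq_iff_eq_mul] at e
      rw [mul_assoc, e, ← mul_assoc, e, mul_assoc]
    · rw [mul_inv_eq_iff_eq_mul] at e
      calc c.1 * c.1 * u = c.1 * (u * t * c.1) := by rw [mul_assoc, e]
        _ = c.1 * u * (t * c.1) := by group
        _ = u * t * c.1 * (t * c.1) := by rw [e]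
        _ = u * (t * (c.1 * t)) * c.1 := by group
        _ = u * (t * t) * c.1 * c.1 := by rw [hct]; group
        _ = u * (c.1 * c.1) := by rw [S.t_sq]; group
  set b := conjQ (el (p ++ p)) v
  have hb : InD (t := t) (χ := χ) g b := by
    obtain ⟨h1, h1'⟩ := hv
    refine ⟨S.chi_mem _, ?_⟩
    rw [show (⟨χ b, S.chi_mem _⟩ : ↥(Subgroup.centralizer ({t} : Set G))) = c * c * ⟨χ v, h1⟩ * (c * c)⁻¹ from
      Subtype.ext (by
        have h := (Rel.mul (x := el p) (y := el p) hcv hcv) v
        rw [← el_append] at h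
        exact h.symm)]
    exact H.r_conj S hdu h1'
  have hvb : InD (t := t) (χ := χ) g (v * b) := by
    obtain ⟨h1, h1'⟩ := hv
    obtain ⟨h2, h2'⟩ := hb
    refine ⟨S.chi_mem _, ?_⟩
    rw [show (⟨χ (v * b), S.chi_mem _⟩ : ↥(Subgroup.centralizer ({t} : Set G))) = ⟨χ v, h1⟩ * ⟨χ b, h2⟩ from
      Subtype.ext (map_mul χ v b)]
    exact Subgroup.mul_mem _ h1' h2'
  have hbn : b.n = cnj (cw (p ++ p)) v.n := conjQ_el _ _
  have hvbn : (v * b).n = qmulN v.n (cnj (cw (p ++ p)) v.n) := by rw [Q8.mul_n, hbn]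
  rw [← hvbn, H.meet_allowed hweak S hvb, ← hbn, H.meet_allowed hweak S hb] at hm
  simp at hm

/-- The image of the part fixes the fixed vectors and commutes with the involution. -/
theorem image_mem (S : Coo t χ) {r : ↥(Subgroup.centralizer ({t} : Set G))} (hr : r ∈ rSub t χ g) :
    ∃ n ∈ listK k, S.pi r = rw0 (dec n) ∧ commX k n = true := by
  have hfix : ∀ p ∈ lvK k, lact (S.pi r) p.1 = p.1 := by
    intro p hp
    have hu := Nat.eq_of_beq_eq_true (List.all_eq_true.1 (unit_ok k) p hp)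
    have hlt : p.1 < 256 := by
      have key : ∀ j : Fin 4, ∀ q ∈ lvK j, q.1 < 256 := by decide +kernel
      exact key k p hp
    set a : Q8 := ⟨p.1 % 512, Nat.mod_lt _ (by norm_num)⟩
    have han : a.n = p.1 := Nat.mod_eq_of_lt (hlt.trans (by norm_num))
    have hfx : conjQ (el (repW (jK k))) a = a := Q8.ext (by rw [conjQ_el, han]; exact hu)
    obtain ⟨x, -, hx, hxv⟩ := S.exists_rel r
    have hau : χ a * u = u * χ a := by
      have h := H.rel a
      rw [hfx, mul_inv_eq_iff_eq_mul] at h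
      exact h.symm
    have hm : InD (t := t) (χ := χ) g (a * (conjQ x a)⁻¹) := by
      refine ⟨S.chi_mem _, ?_⟩
      set q : ↥(Subgroup.centralizer ({t} : Set G)) := ⟨χ a, S.chi_mem a⟩
      rw [show (⟨χ (a * (conjQ x a)⁻¹), S.chi_mem _⟩ : ↥(Subgroup.centralizer ({t} : Set G))) =
          q * r * q⁻¹ * r⁻¹ from Subtype.ext (by
        show χ (a * (conjQ x a)⁻¹) = χ a * r.1 * (χ a)⁻¹ * r.1⁻¹
        rw [map_mul, map_inv, ← hxv]; group)]
      exact Subgroup.mul_mem _ (H.r_conj S (c := q) hau hr) (Subgroup.inv_mem _ hr)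
    have h1 := H.meet_one hweak S hm
    rw [mul_inv_eq_one] at h1
    show lo ((S.pi r : MulAut Q8) a) = p.1
    rw [← hx, ← conjQ_lo, ← h1]
    exact lo_mk _ hlt
  obtain ⟨n, hn, he⟩ := mem_listK k hfix
  refine ⟨n, hn, he, ?_⟩
  have hc : rw0 (dec n) * rw0 (repW (jK k)) = rw0 (repW (jK k)) * rw0 (dec n) := by
    rw [← he, ← H.pi_u S, ← map_mul, ← map_mul]
    exact congrArg S.pi (Subtype.ext (H.r_comm S hr))
  rw [← rw0_append, ← rw0_append] at hc
  have h := congrArg (fun w : ↥W => imgs (w : MulAut Q8)) hc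
  simp only [imgs_rw0] at h
  rw [commX, h]
  have hself : ∀ l : List ℕ, Roots.beqL l l = true := fun l => by
    induction l with
    | nil => rfl
    | cons a l ih =>
      show (Nat.beq a a && Roots.beqL l l) = true
      rw [Nat.beq_refl, ih]; rfl
  exact hself _

/-- A vector fixed by the other conjugate gives an element of the part. -/
theorem mem_of_fix (S : Coo t χ) {z : C0} {j : Fin 10} (hrel : Rel χ (g * t * g⁻¹) (z * el (repW j) * z⁻¹)) (a : Q8)
    (ha : cnj (cw (repW j)) a.n = a.n) : ∃ r ∈ rSub t χ g, g * r.1 * g⁻¹ = χ (conjQ z a) := by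
  have h := hrel (conjQ z a)
  have e : conjQ (z * el (repW j) * z⁻¹) (conjQ z a) = conjQ z a := by
    rw [← MulAut.mul_apply, ← conjQ_mul, inv_mul_cancel_right, conjQ_mul, MulAut.mul_apply]
    exact congrArg (conjQ z) (Q8.ext ((conjQ_el _ _).trans ha))
  rw [e, mul_inv_eq_iff_eq_mul] at h
  exact ⟨⟨g⁻¹ * χ (conjQ z a) * g, Subgroup.mem_centralizer_singleton_iff.2 (by
      calc g⁻¹ * χ (conjQ z a) * g * t = g⁻¹ * (χ (conjQ z a) * (g * t * g⁻¹)) * g := by group
        _ = t * (g⁻¹ * χ (conjQ z a) * g) := by rw [← h]; group)⟩,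
    mem_rSub.2 ⟨conjQ z a, by group⟩, by group⟩

/-- The part is at least as large as the fixed set of the other conjugate. -/
theorem fix_le [Finite G] (S : Coo t χ) {z : C0} {j : Fin 10} (hrel : Rel χ (g * t * g⁻¹) (z * el (repW j) * z⁻¹)) :
    ((List.range 512).filter fun v => Nat.beq (cnj (cw (repW j)) v) v).length ≤ Nat.card (rSub t χ g) := by
  classical
  set L := (List.range 512).filter fun v => Nat.beq (cnj (cw (repW j)) v) v
  have hlt : ∀ i : Fin L.length, L[i.val] < 512 ∧ cnj (cw (repW j)) L[i.val] = L[i.val] := fun i => by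
    have h := List.mem_filter.1 (List.getElem_mem i.2)
    exact ⟨List.mem_range.1 h.1, Nat.eq_of_beq_eq_true h.2⟩
  choose F hFm hFe using fun i => H.mem_of_fix hweak S hrel ⟨L[i.val], (hlt i).1⟩ (hlt i).2
  have hF : Function.Injective fun i => (⟨F i, hFm i⟩ : rSub t χ g) := fun a b e => by
    have e' : F a = F b := congrArg Subtype.val e
    have h := congrArg Q8.n ((conjQ z).injective (S.inj ((hFe a).symm.trans ((by rw [e']) : g * (F a).1 * g⁻¹ = _) |>.trans (hFe b))))
    exact Fin.ext ((List.nodup_range.filter _).getElem_inj_iff.1 h)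
  have := Nat.card_le_card_of_injective _ hF
  rwa [Nat.card_fin] at this

variable [Finite G]
variable (hinv : ∀ c x, c ∈ Subgroup.centralizer ({t} : Set G) → c * c = 1 → Rel χ c x → x.right ≠ 1 →
    x * x = 1 ∧ ∃ j : Fin 10, 2 ≤ j.val ∧ IsConj (el (repW j)) x)
include hinv

/-- The part has at least sixteen elements. -/
theorem card_part (S : Coo t χ) : 16 ≤ Nat.card (rSub t χ g) := by
  set u' := g * t * g⁻¹
  obtain ⟨x, hx⟩ := S.conj _ H.other
  have hne : x.right ≠ 1 := fun h => by
    have h1 := hweak g (S.mem_range H.other hx h)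
    refine H.u_notMem S zt ?_
    rw [S.zt_eq]
    exact mul_left_cancel (mul_right_cancel (h1.trans H.to_t.symm))
  have h2 : u' * u' = 1 := by
    calc g * t * g⁻¹ * (g * t * g⁻¹) = g * (t * t) * g⁻¹ := by group
      _ = 1 := by rw [S.t_sq, mul_one, mul_inv_cancel]
  obtain ⟨-, j, hj, hjc⟩ := hinv _ x H.other h2 hx hne
  obtain ⟨z, rfl⟩ := isConj_iff.1 hjc
  exact (fix_count j hj).trans (H.fix_le hweak S hx)

/-- The contradiction. -/
theorem absurd_setup (S : Coo t χ) (hk : k = 0 ∨ k = 1) : False := by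
  classical
  have hinj : ∀ r s : rSub t χ g, S.pi r.1 = S.pi s.1 → r = s := fun r s e => by
    obtain ⟨v, hv⟩ := S.ker_pi (c := r.1⁻¹ * s.1) (by rw [map_mul, map_inv, e, inv_mul_cancel])
    have hm : InD (t := t) (χ := χ) g v := ⟨S.chi_mem v, by
      rw [show (⟨χ v, S.chi_mem v⟩ : ↥(Subgroup.centralizer ({t} : Set G))) = r.1⁻¹ * s.1 from Subtype.ext hv]
      exact Subgroup.mul_mem _ (Subgroup.inv_mem _ r.2) s.2⟩
    rw [H.meet_one hweak S hm, map_one] at hv
    exact Subtype.ext (Subtype.ext (inv_mul_eq_one.1 hv.symm))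
  have him : ∀ r : rSub t χ g, ∃ i : Fin ((listK k).filter (commX k)).length,
      S.pi r.1 = rw0 (dec ((listK k).filter (commX k))[i.val]) := fun r => by
    obtain ⟨n, hn, he, hc⟩ := H.image_mem hweak S r.2
    obtain ⟨i, hi, rfl⟩ := List.mem_iff_getElem.1 (List.mem_filter.2 ⟨hn, hc⟩)
    exact ⟨⟨i, hi⟩, he⟩
  choose f hf using him
  have hfi : Function.Injective f := fun r s e => hinj r s (by rw [hf r, hf s, e])
  have h16 := H.card_part hweak hinv S
  have hle := Nat.card_le_card_of_injective f hfi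
  rw [Nat.card_fin] at hle
  obtain rfl | rfl := hk
  · have := List.length_filter_le (commX 0) (listK 0)
    rw [three_small] at this
    omega
  · obtain ⟨h16', hY⟩ := nine_comm
    have hb := hfi.bijective_of_nat_card_le (by rw [Nat.card_fin, h16']; exact h16)
    obtain ⟨i, hi, hiY⟩ := List.mem_iff_getElem.1 hY
    obtain ⟨r, hr⟩ := hb.2 ⟨i, hi⟩
    have hpr : S.pi r.1 = rw0 (dec nineY) := by rw [hf r, hr, ← hiY]
    obtain ⟨hy1, hy2, hy3, hy4⟩ := nine_y
    have hne : rw0 (dec nineY) ≠ rw0 (repW 9) := fun h => by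
      have h' := congrArg (fun w : ↥W => imgs (w : MulAut Q8)) h
      simp only [imgs_rw0] at h'
      rw [h'] at hy3
      exact absurd hy3 (by decide +kernel)
    have hsqY : rw0 (dec nineY) * rw0 (dec nineY) = 1 := Subtype.ext (imgs_injective (by
      rw [Subgroup.coe_mul, imgs_mul, imgs_rw0, Roots.beqL_eq _ _ hy2]
      exact eq_one_of_triv_P.code_one_snd.symm))
    have hr2 : r.1.1 * r.1.1 = 1 := by
      rcases H.r_sq S r.2 with e | e
      · exact e
      · exfalso
        refine H.moved ?_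
        rw [← H.pi_u S, show (⟨u, H.mem⟩ : ↥(Subgroup.centralizer ({t} : Set G))) = r.1 * r.1 from
          Subtype.ext e.symm, map_mul, hpr, hsqY]
    obtain ⟨x, hrx, hx, -⟩ := S.exists_rel r.1
    have hxY : x.right = rw0 (dec nineY) := hx.trans hpr
    have hxne : x.right ≠ 1 := fun h => by
      rw [hxY] at h
      have h' := congrArg (fun w : ↥W => imgs (w : MulAut Q8)) h
      simp only [imgs_rw0] at h'
      exact absurd (h'.trans eq_one_of_triv_P.code_one_snd) (by decide +kernel)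
    obtain ⟨hxx, -⟩ := hinv r.1.1 x r.1.2 hr2 hrx hxne
    have hv : qmulN x.left.n (appL (wimg (dec nineY)) x.left.n) = 0 := by
      have h := congrArg (fun z : C0 => z.left.n) hxx
      simp only [SemidirectProduct.mul_left, SemidirectProduct.one_left, Q8.one_n, Q8.mul_n] at h
      rw [← h]
      congr 1
      show _ = ((x.right : MulAut Q8) x.left).n
      rw [apply_eq, hxY, imgs_rw0]
    have hfib := List.all_eq_true.1 nine_fibre x.left.n (List.mem_range.2 x.left.lt)
    rw [hv] at hfib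
    simp only [Nat.beq_refl, Bool.not_true, Bool.false_or, List.any_eq_true, List.mem_range, Nat.beq_eq] at hfib
    obtain ⟨w, hw, hwv⟩ := hfib
    set hW : List (Fin 15) := dec nineH
    set x0 := el (hW ++ repW 9 ++ hW.reverse) with hx0
    set a : Q8 := ⟨w, hw⟩
    set y := SemidirectProduct.inl a * x0 * (SemidirectProduct.inl a)⁻¹
    have hx0r : x0.right = rw0 (dec nineY) :=
      Subtype.ext (imgs_injective ((imgs_rw0 _).trans ((Roots.beqL_eq _ _ hy1).trans (imgs_rw0 _).symm)))
    have hyx : x = y ∨ x = y * Code.tau := by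
      refine code_lo_eq ?_ ?_
      · simp only [y, SemidirectProduct.mul_right, SemidirectProduct.right_inl, SemidirectProduct.inv_right,
          one_mul, inv_one, mul_one, hx0r, hxY]
      · show x.left.n % 256 = y.left.n % 256
        rw [← hwv]
        congr 1
        simp only [y, ← map_inv, SemidirectProduct.mul_left, SemidirectProduct.left_inl,
          SemidirectProduct.mul_right, SemidirectProduct.right_inl, one_mul, map_one, MulAut.one_apply, Q8.mul_n]
        rw [show ((W.subtype x0.right) a⁻¹).n = appL (wimg (dec nineY)) a⁻¹.n by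
            show ((x0.right : MulAut Q8) a⁻¹).n = _
            rw [apply_eq, hx0r, imgs_rw0],
          show x0.left.n = (cw (hW ++ repW 9 ++ hW.reverse)).1 by rw [cw_code', hx0]; rfl]
        rfl
    obtain ⟨c, hc, hcv⟩ := S.exists_word hW
    set m := χ a * c.1 with hm
    have hmem : m * u * m⁻¹ ∈ Subgroup.centralizer ({t} : Set G) :=
      mul_mem (mul_mem (mul_mem (S.chi_mem a) c.2) H.mem) (inv_mem (mul_mem (S.chi_mem a) c.2))
    have hmy : Rel χ (m * u * m⁻¹) y := by
      have h1 := ((Rel.mul (x := SemidirectProduct.inl a) (y := el hW) (S.rel_chi a) hcv).mul H.rel).mul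
        (Rel.mul (x := SemidirectProduct.inl a) (y := el hW) (S.rel_chi a) hcv).inv
      have e : SemidirectProduct.inl a * el hW * el (repW (jK 1)) * (SemidirectProduct.inl a * el hW)⁻¹ = y := by
        simp only [y, x0, el_append, ← el_reverse, show jK 1 = (9 : Fin 10) from rfl]
        group
      rw [e] at h1
      exact h1
    have hxy : Rel χ r.1.1 y := by
      rcases hyx with e | e <;> rw [e] at hrx
      · exact hrx
      · have h2 := hrx.mul_tau
        rwa [mul_assoc y, show Code.tau * Code.tau = 1 by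
          rw [tau_eq_inl, ← map_mul, show zt * zt = 1 from Q8.ext (by decide +kernel : qmulN 256 256 = 0), map_one],
          mul_one] at h2
    have homega : ∃ m' : G, m' * t * m'⁻¹ = r.1.1 := by
      rcases S.uniq hmem r.1.2 hmy hxy with e | e
      · exact ⟨m * g⁻¹, by rw [e, ← H.to_t]; group⟩
      · obtain ⟨w0, hw0l, hw0⟩ := List.any_eq_true.1 hy4
        set b : Q8 := ⟨w0, List.mem_range.1 hw0l⟩
        have hb : b * (conjQ (el (repW (jK 1))) b)⁻¹ = zt := Q8.ext (by
          rw [Q8.mul_n]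
          show qmulN w0 ((conjQ (el (repW (jK 1))) b).n ^^^
            kz (Code.beta (conjQ (el (repW (jK 1))) b).n (conjQ (el (repW (jK 1))) b).n)) = 256
          rw [conjQ_el]
          exact Nat.eq_of_beq_eq_true hw0)
        have hut : χ b * u * (χ b)⁻¹ = u * t := by
          have ht' : t * u = u * t := (Subgroup.mem_centralizer_singleton_iff.1 H.mem).symm
          rw [← ht', ← S.zt_eq, ← hb, map_mul, map_inv, ← H.rel b]
          group
        refine ⟨m * χ b * g⁻¹, ?_⟩
        have hmt : m * t = t * m := Subgroup.mem_centralizer_singleton_iff.1 (mul_mem (S.chi_mem a) c.2)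
        calc m * χ b * g⁻¹ * t * (m * χ b * g⁻¹)⁻¹ = m * (χ b * u * (χ b)⁻¹) * m⁻¹ := by rw [← H.to_t]; group
          _ = m * u * m⁻¹ * (m * t * m⁻¹) := by rw [hut]; group
          _ = _ := by rw [hmt, mul_inv_cancel_right, e]
    have hru := H.omega hweak r.2 homega
    refine hne ?_
    rw [← hpr, show r.1 = ⟨u, H.mem⟩ from Subtype.ext hru]
    exact H.pi_u S

end KSetup

/-- **Two classes contain no conjugate of the involution.** -/
theorem kill_free [Finite G] (S : Coo t χ) (ht : orderOf t = 2)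
    (hcard : Nat.card (Subgroup.centralizer ({t} : Set G)) = 512 * 1451520) (g : G) (x : C0)
    (hg : g * t * g⁻¹ ∈ Subgroup.centralizer ({t} : Set G)) (hx : Rel χ (g * t * g⁻¹) x) :
    ¬ IsConj (el (repW 3)) x ∧ ¬ IsConj (el (repW 9)) x := by
  suffices h : ∀ k : Fin 4, k = 0 ∨ k = 1 → ¬ IsConj (el (repW (jK k))) x from ⟨h 0 (Or.inl rfl), h 1 (Or.inr rfl)⟩
  intro k hk01 hk
  obtain ⟨z, rfl⟩ := isConj_iff.1 hk
  obtain ⟨c, hc, hcz⟩ := S.surj z
  have H : KSetup t χ (c⁻¹ * (g * t * g⁻¹) * c) (g⁻¹ * c) k := by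
    refine ⟨mul_mem (mul_mem (inv_mem hc) hg) hc, ?_, by group, ?_⟩
    · have h := (hcz.inv.mul hx).mul hcz
      rwa [show z⁻¹ * (z * el (repW (jK k)) * z⁻¹) * z = el (repW (jK k)) by group] at h
    · have h : c * t * c⁻¹ = t := by rw [Subgroup.mem_centralizer_singleton_iff.1 hc, mul_inv_cancel_right]
      have e : g⁻¹ * c * t * (g⁻¹ * c)⁻¹ = g⁻¹ * t * g := by
        calc g⁻¹ * c * t * (g⁻¹ * c)⁻¹ = g⁻¹ * (c * t * c⁻¹) * g := by group
          _ = _ := by rw [h]
      rw [e, Subgroup.mem_centralizer_singleton_iff]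
      have h := Subgroup.mem_centralizer_singleton_iff.1 hg
      calc g⁻¹ * t * g * t = g⁻¹ * (t * (g * t * g⁻¹)) * g := by group
        _ = g⁻¹ * (g * t * g⁻¹ * t) * g := by rw [h]
        _ = t * (g⁻¹ * t * g) := by group
  exact H.absurd_setup (fun g hg => weak_closure S ht g hg) (S.involution_code hcard) S hk01

end Cfsg.Agent.Co2Type.Local
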