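import Cfsg.Agent.Lib.Co2Type.Local.Base
import Cfsg.Agent.Lib.Co2Type.Code.Fast

/-!
Rules for the coordinates modulo the involution.
-/

set_option autoImplicit false
set_option maxRecDepth 20000

namespace Cfsg.Agent.Co2Type.Local

open Code

theorem tau_eq_inl : tau = SemidirectProduct.inl zt := code_injective (by
  have e : imgs ((1 : ↥W) : MulAut Q8) = stdImg := congrArg Prod.snd code_one
  rw [tau, code_el, show code (SemidirectProduct.inl zt : C0) = (256, stdImg) from Prod.ext rfl e]
  exact (by decide +kernel : codeW tauW = (256, stdImg)))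

theorem conjQ_tau : conjQ tau = 1 := by
  rw [tau_eq_inl, conjQ_inl]
  refine MulEquiv.ext fun a => ?_
  rw [MulAut.conj_apply, MulAut.one_apply]
  have h : a * zt = zt * a := Q8.ext (Nat.eq_of_beq_eq_true (List.all_eq_true.1
    (by decide +kernel : ((List.range 512).all fun v => Nat.beq (qmulN v 256) (qmulN 256 v)) = true)
    a.n (List.mem_range.2 a.lt)))
  rw [← h, mul_inv_cancel_right]

theorem el_inl (i : Fin 8) : el [⟨i.val, by omega⟩] =
    SemidirectProduct.inl ⟨2 ^ i.val, (Nat.pow_lt_pow_right (by norm_num) i.2).trans (by norm_num)⟩ := by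
  simp [el, genC]

variable {G : Type*} [Group G] {t : G} {χ : Q8 →* G}

theorem Coo.mem_C (S : Coo t χ) (v : Q8) : χ v ∈ Subgroup.centralizer ({t} : Set G) := by
  rw [Subgroup.mem_centralizer_singleton_iff, ← S.zt_eq, ← map_mul, ← map_mul]
  refine congrArg χ ?_
  exact Q8.ext (Nat.eq_of_beq_eq_true (List.all_eq_true.1
    (by decide +kernel : ((List.range 512).all fun v => Nat.beq (qmulN v 256) (qmulN 256 v)) = true)
    v.n (List.mem_range.2 v.lt)))

theorem Coo.t_mem (S : Coo t χ) : t ∈ Subgroup.centralizer ({t} : Set G) := S.zt_eq ▸ S.mem_C zt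

theorem Coo.t_sq (S : Coo t χ) : t * t = 1 := by
  rw [← S.zt_eq, ← map_mul, show zt * zt = 1 from Q8.ext (by decide +kernel : qmulN 256 256 = 0), map_one]

theorem Coo.t_ne (S : Coo t χ) : t ≠ 1 := fun h => by
  have := congrArg Q8.n (S.inj (S.zt_eq.trans (h.trans (map_one χ).symm)))
  exact absurd this (by decide +kernel : (256 : ℕ) ≠ 0)

theorem Coo.comm_t {c : G} (hc : c ∈ Subgroup.centralizer ({t} : Set G)) : c * t = t * c :=
  Subgroup.mem_centralizer_singleton_iff.1 hc

theorem rel_chi (χ : Q8 →* G) (v : Q8) : Rel χ (χ v) (SemidirectProduct.inl v) := fun a => by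
  rw [conjQ_inl, MulAut.conj_apply, map_mul, map_mul, map_inv]

theorem Coo.rel_t (S : Coo t χ) : Rel χ t 1 := fun a => by
  rw [conjQ_one, MulAut.one_apply]
  have := Coo.comm_t (S.mem_C a)
  rw [← this, mul_inv_cancel_right]

/-- Two elements with one code differ by a power of `t`. -/
theorem Coo.uniq (S : Coo t χ) {c d : G} {x : C0} (hc : c ∈ Subgroup.centralizer ({t} : Set G))
    (hd : d ∈ Subgroup.centralizer ({t} : Set G)) (h : Rel χ c x) (h' : Rel χ d x) : d = c ∨ d = c * t := by
  rcases S.faith (c⁻¹ * d) (mul_mem (inv_mem hc) hd) (by simpa using h.inv.mul h') with e | e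
  · exact Or.inl (inv_mul_eq_one.1 e).symm
  · exact Or.inr (by rw [← e, mul_inv_cancel_left])

/-- Two codes of one element differ by a power of the central involution. -/
theorem Coo.code_uniq (S : Coo t χ) {c : G} {x y : C0} (h : Rel χ c x) (h' : Rel χ c y) :
    y = x ∨ y = x * tau := by
  have e : conjQ (x⁻¹ * y) = 1 := MulEquiv.ext fun a => S.inj (by
    have := (h.inv.mul h') a
    rw [inv_mul_cancel, one_mul, inv_one, mul_one] at this
    exact this.symm)
  rcases conjQ_eq_one e with e | e
  · exact Or.inl (inv_mul_eq_one.1 e).symm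
  · exact Or.inr (by rw [← e, mul_inv_cancel_left])

/-- Either code of an element may be taken. -/
theorem Rel.mul_tau {c : G} {x : C0} (h : Rel χ c x) : Rel χ c (x * tau) := fun a => by
  rw [h, conjQ_mul, conjQ_tau, mul_one]

/-- Either element of a code may be taken. -/
theorem Coo.rel_mul_t (S : Coo t χ) {c : G} {x : C0} (h : Rel χ c x) : Rel χ (c * t) x := by
  simpa using h.mul S.rel_t

/-- An element whose code lies in the extraspecial group lies in its image. -/
theorem Coo.mem_range (S : Coo t χ) {c : G} {x : C0} (hc : c ∈ Subgroup.centralizer ({t} : Set G))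
    (h : Rel χ c x) (hx : x.right = 1) : c ∈ χ.range := by
  have e : x = SemidirectProduct.inl x.left := SemidirectProduct.ext rfl (by simpa using hx)
  rw [e] at h
  rcases S.uniq (S.mem_C x.left) hc (rel_chi χ x.left) h with r | r
  · exact r ▸ ⟨_, rfl⟩
  · exact ⟨x.left * zt, by rw [map_mul, S.zt_eq, r]⟩

/-- The code of an element of the image has trivial automorphism part. -/
theorem Coo.right_eq_one (S : Coo t χ) {v : Q8} {x : C0} (h : Rel χ (χ v) x) : x.right = 1 := by
  rcases S.code_uniq (rel_chi χ v) h with e | e <;> rw [e]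
  · simp
  · rw [tau_eq_inl]; simp

/-- The product of elements along a word of the seven. -/
def lift (a : Fin 7 → G) (w : List (Fin 7)) : G := (w.map a).prod

/-- The word in the letters of the code group. -/
def up (w : List (Fin 7)) : List (Fin 15) := w.map fun k => ⟨8 + k.val, by omega⟩

theorem lift_append (a : Fin 7 → G) (v w : List (Fin 7)) : lift a (v ++ w) = lift a v * lift a w := by
  simp [lift]

theorem up_append (v w : List (Fin 7)) : up (v ++ w) = up v ++ up w := by simp [up]

theorem lift_mem {a : Fin 7 → G} {H : Subgroup G} (ha : ∀ k, a k ∈ H) (w : List (Fin 7)) : lift a w ∈ H :=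
  H.list_prod_mem fun x hx => by
    obtain ⟨k, -, rfl⟩ := List.mem_map.1 hx
    exact ha k

theorem rel_lift {a : Fin 7 → G} (ha : ∀ k, Rel χ (a k) (el (up [k]))) :
    ∀ w, Rel χ (lift a w) (el (up w))
  | [] => by simpa [lift, up, el] using Rel.one χ
  | k :: w => by
    have := (ha k).mul (rel_lift ha w)
    simpa [lift, up, el] using this

/-- The letters generate the code group. -/
theorem closure_genC' : Subgroup.closure (Set.range genC) = (⊤ : Subgroup C0) := by
  rw [eq_top_iff, ← Roots.closure_tok, Subgroup.closure_le]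
  rintro _ ⟨j, rfl⟩
  exact Subgroup.list_prod_mem _ fun x hx => by
    obtain ⟨z, -, rfl⟩ := List.mem_map.1 hx
    exact Subgroup.subset_closure ⟨z, rfl⟩

end Cfsg.Agent.Co2Type.Local
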