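import Cfsg.Agent.Lib.Co2Type.Local.WeakW
import Cfsg.Agent.Lib.Co2Type.Local.KillData
import Cfsg.Agent.Lib.Co2Type.Local.FiveData

/-!
Finite facts for the exclusion of classes: the candidates for the meet and the pointwise stabilisers of the
fixed spaces.
-/

set_option autoImplicit false
set_option maxRecDepth 200000
set_option linter.style.haveILetI false

namespace Cfsg.Agent.Co2Type.Local.KillCheck

open Code End WeakCheck KillData FiveData

/-- The representatives, up to the central involution. -/
def jK : Fin 4 → Fin 10 := ![3, 9, 5, 7]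

/-- Words whose squares move the candidates. -/
def pL : Fin 4 → List (List (Fin 15)) := ![[dec threeP], [dec nineP], fiveP.map dec, sevenP.map dec]

/-- The levels. -/
def lvK : Fin 4 → List (ℕ × List ℕ) := ![threeLv, nineLv, fiveLv, fiveLv]

/-- The stabiliser. -/
def listK : Fin 4 → List ℕ := ![threeL, nineL, fiveL, fiveL]

/-- The code of a representative. -/
noncomputable def xC (k : Fin 4) : ℕ × List ℕ := cw (repW (jK k))

/-- Conjugation by a code. -/
noncomputable def cnj (c : ℕ × List ℕ) (v : ℕ) : ℕ :=
  qmulN (qmulN c.1 (appL c.2 v)) (c.1 ^^^ kz (beta c.1 c.1))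

/-- The displacement of a conjugate of the representative. -/
noncomputable def disp (c : ℕ × List ℕ) (w : ℕ) : ℕ := qmulN w (cnj c w ^^^ kz (beta (cnj c w) (cnj c w)))

/-- A possible element of the meet. -/
noncomputable def allowed (k : Fin 4) (v : ℕ) : Bool :=
  Nat.beq v 0 || (!Nat.beq v 256 && Nat.beq (qmulN v v) 0 && Nat.beq (cnj (xC k) v) v &&
    ((List.range 512).all fun w => !Nat.beq (cnj (xC k) w) w || Nat.beq (qmulN v w) (qmulN w v)) &&
    !(List.range 512).any fun w => Nat.beq (disp (xC k) w) v)

/-- An element of the list commutes with the representative. -/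
noncomputable def commX (k : Fin 4) (n : ℕ) : Bool :=
  Roots.beqL (wimg (dec n ++ repW (jK k))) (wimg (repW (jK k) ++ dec n))

/-- The checks of a chain. -/
noncomputable def stepsOK : List ℕ → List (ℕ × List ℕ) → Bool
  | _, [] => true
  | pre, (e, gs) :: l => Nat.blt e 256 &&
      (gs.all fun g => pre.all fun e' => Nat.beq (wap (dec g) e') e') &&
      WeakCheck.distinctB (gs.map fun g => wap (dec g) e) && stepsOK (pre ++ [e]) l

theorem meet_ok : ∀ k : Fin 4, ((List.range 512).all fun v => Nat.beq v 0 || !allowed k v ||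
    (pL k).any fun p => !allowed k (cnj (cw (p ++ p)) v) || !allowed k (qmulN v (cnj (cw (p ++ p)) v))) = true := by
  decide +kernel

theorem p_ok : ∀ k : Fin 4, ((pL k).all fun p =>
    Nat.beq ((cw (p ++ repW (jK k) ++ p.reverse)).1 % 256) ((xC k).1 % 256) &&
      Roots.beqL (wimg (p ++ repW (jK k) ++ p.reverse)) (wimg (repW (jK k)))) = true := by
  decide +kernel

theorem steps_ok : ∀ k : Fin 4, stepsOK [] (lvK k) = true := by decide +kernel

theorem list_ok : ∀ k : Fin 4, ((listK k).all fun n => (lvK k).all fun p => Nat.beq (wap (dec n) p.1) p.1) = true ∧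
    WeakCheck.distinctB ((listK k).map fun n => keyL (wimg (dec n))) = true ∧
    ((lvK k).map fun p => p.2.length).prod * (listK k).length = 1451520 := by decide +kernel

theorem unit_ok : ∀ k : Fin 4, ((lvK k).all fun p => Nat.beq (cnj (xC k) p.1) p.1) = true := by decide +kernel

theorem three_small : (listK 0).length = 4 := by decide +kernel

theorem nine_comm : ((listK 1).filter (commX 1)).length = 16 ∧ nineY ∈ (listK 1).filter (commX 1) := by
  decide +kernel

theorem nine_y : Roots.beqL (wimg (dec nineH ++ repW 9 ++ (dec nineH).reverse)) (wimg (dec nineY)) = true ∧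
    Roots.beqL ((wimg (dec nineY)).map (appL (wimg (dec nineY)))) stdImg = true ∧
    Roots.beqL (wimg (dec nineY)) (wimg (repW 9)) = false ∧
    ((List.range 512).any fun w => Nat.beq (disp (xC 1) w) 256) = true := by decide +kernel

theorem nine_fibre : ((List.range 512).all fun v => !Nat.beq (qmulN v (appL (wimg (dec nineY)) v)) 0 ||
    (List.range 512).any fun w =>
      Nat.beq (qmulN (qmulN w (cw (dec nineH ++ repW 9 ++ (dec nineH).reverse)).1)
        (appL (wimg (dec nineY)) (w ^^^ kz (beta w w))) % 256) (v % 256)) = true := by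
  decide +kernel

theorem fix_count : ∀ j : Fin 10, 2 ≤ j.val →
    16 ≤ ((List.range 512).filter fun v => Nat.beq (cnj (cw (repW j)) v) v).length := by decide +kernel

theorem rep_moved : ∀ k : Fin 4, Roots.beqL (wimg (repW (jK k))) stdImg = false := by decide +kernel

/-- The action on vectors. -/
def lact (w : ↥W) (e : ℕ) : ℕ := lo ((w : MulAut Q8) ⟨e % 512, Nat.mod_lt _ (by norm_num)⟩)

/-- Fixing a list of vectors. -/
def Fx (es : List ℕ) (w : ↥W) : Prop := ∀ e ∈ es, lact w e = e

theorem lo_mk (e : ℕ) (he : e < 256) : lo ⟨e % 512, Nat.mod_lt _ (by norm_num)⟩ = e := by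
  show e % 512 % 256 = e
  omega

theorem lact_rw0 (w : List (Fin 15)) {e : ℕ} (he : e < 256) : lact (rw0 w) e = wap w e := by
  rw [lact, lo_rw0, lo_mk e he]

theorem lact_mul (g h : ↥W) {e : ℕ} (he : e < 256) (hh : lact h e = e) : lact (g * h) e = lact g e := by
  rw [lact, Subgroup.coe_mul, MulAut.mul_apply]
  exact lo_congr _ (hh.trans (lo_mk e he).symm)

/-- The product of the orbits seen bounds the index. -/
theorem card_chain : ∀ (l : List (ℕ × List ℕ)) (pre : List ℕ), (∀ e ∈ pre, e < 256) → stepsOK pre l = true →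
    (l.map fun p => p.2.length).prod * Nat.card {w : ↥W // Fx (pre ++ l.map Prod.fst) w} ≤
      Nat.card {w : ↥W // Fx pre w}
  | [], pre, _, _ => by simp
  | (e, gs) :: l, pre, hpre, h => by
    haveI := finite_W
    simp only [stepsOK, Bool.and_eq_true, Nat.blt_eq, List.all_eq_true] at h
    obtain ⟨⟨⟨he, hfix⟩, hd⟩, hl⟩ := h
    have ih := card_chain l (pre ++ [e]) (fun x hx => by
      rcases List.mem_append.1 hx with h | h
      · exact hpre x h
      · rw [List.mem_singleton.1 h]; exact he) hl
    let f : Fin gs.length × {w : ↥W // Fx (pre ++ [e]) w} → {w : ↥W // Fx pre w} := fun p =>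
      ⟨rw0 (dec gs[p.1.val]) * p.2.1, fun e' he' => by
        rw [lact_mul _ _ (hpre e' he') (p.2.2 e' (List.mem_append_left _ he')), lact_rw0 _ (hpre e' he')]
        exact Nat.eq_of_beq_eq_true (hfix _ (List.getElem_mem p.1.2) e' he')⟩
    have hf : Function.Injective f := by
      rintro ⟨i, x⟩ ⟨j, y⟩ h
      have h' : rw0 (dec gs[i.val]) * x.1 = rw0 (dec gs[j.val]) * y.1 := congrArg Subtype.val h
      have hi : i = j := by
        have h1 := congrArg (fun w => lact w e) h'
        rw [lact_mul _ _ he (x.2 e (by simp)), lact_mul _ _ he (y.2 e (by simp)), lact_rw0 _ he,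
          lact_rw0 _ he] at h1
        exact Fin.ext ((nodup_of_distinctB hd).getElem_inj_iff.1 (show
          (gs.map fun g => wap (dec g) e)[i.val]'(by simp) = (gs.map fun g => wap (dec g) e)[j.val]'(by simp) by
          simpa using h1))
      subst hi
      exact Prod.ext rfl (Subtype.ext (mul_left_cancel h'))
    have hs := Nat.card_le_card_of_injective f hf
    rw [Nat.card_prod, Nat.card_fin] at hs
    have hlist : pre ++ ((e, gs) :: l).map Prod.fst = pre ++ [e] ++ l.map Prod.fst := by simp
    rw [hlist, List.map_cons, List.prod_cons, mul_assoc]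
    exact (Nat.mul_le_mul_left _ ih).trans hs

/-- The elements fixing the fixed space are listed. -/
theorem mem_listK (k : Fin 4) {w : ↥W} (hw : ∀ p ∈ lvK k, lact w p.1 = p.1) :
    ∃ n ∈ listK k, w = rw0 (dec n) := by
  classical
  haveI := finite_W
  obtain ⟨hfix, hd, hprod⟩ := list_ok k
  have hlt : ∀ (l : List (ℕ × List ℕ)) (pre : List ℕ), stepsOK pre l = true → ∀ p ∈ l, p.1 < 256 := by
    intro l
    induction l with
    | nil => intro pre _ p hp; simp at hp
    | cons q l ih =>
      obtain ⟨e, gs⟩ := q
      intro pre h p hp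
      simp only [stepsOK, Bool.and_eq_true, Nat.blt_eq] at h
      rcases List.mem_cons.1 hp with rfl | hp
      · exact h.1.1.1
      · exact ih _ h.2 p hp
  have hb := card_chain (lvK k) [] (by simp) (steps_ok k)
  rw [List.nil_append] at hb
  have hall : Nat.card {w : ↥W // Fx [] w} ≤ 1451520 := card_W ▸ Finite.card_subtype_le _
  let ι : Fin (listK k).length → {w : ↥W // Fx ((lvK k).map Prod.fst) w} := fun i =>
    ⟨rw0 (dec (listK k)[i.val]), fun e he => by
      obtain ⟨p, hp, rfl⟩ := List.mem_map.1 he
      rw [lact_rw0 _ (hlt _ _ (steps_ok k) p hp)]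
      exact Nat.eq_of_beq_eq_true (List.all_eq_true.1
        (List.all_eq_true.1 hfix _ (List.getElem_mem i.2)) p hp)⟩
  have hι : Function.Injective ι := fun i j h => by
    have h1 := congrArg (fun z => keyL (imgs (z.1 : MulAut Q8))) h
    simp only [ι, imgs_rw0] at h1
    exact Fin.ext ((nodup_of_distinctB hd).getElem_inj_iff.1 (show
      ((listK k).map fun n => keyL (wimg (dec n)))[i.val]'(by simp) = _[j.val]'(by simp) by simpa using h1))
  have hpos : 0 < ((lvK k).map fun p => p.2.length).prod := by
    rcases Nat.eq_zero_or_pos (((lvK k).map fun p => p.2.length).prod) with h | h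
    · rw [h, Nat.zero_mul] at hprod; omega
    · exact h
  have hcard : Nat.card {w : ↥W // Fx ((lvK k).map Prod.fst) w} ≤ Nat.card (Fin (listK k).length) := by
    rw [Nat.card_fin]
    refine Nat.le_of_mul_le_mul_left ?_ hpos
    rw [hprod]
    exact hb.trans hall
  obtain ⟨i, hi⟩ := (hι.bijective_of_nat_card_le hcard).2 ⟨w, fun e he => by
    obtain ⟨p, hp, rfl⟩ := List.mem_map.1 he
    exact hw p hp⟩
  exact ⟨_, List.getElem_mem i.2, (congrArg Subtype.val hi).symm⟩

end Cfsg.Agent.Co2Type.Local.KillCheck
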