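import Cfsg.Agent.Lib.Co2Type.Local.Rules
import Cfsg.Agent.Lib.Co2Type.Mod
import Cfsg.Agent.Lib.Co2Type.Code.Decode

/-!
Elements over the seven transvection codes: their squares and commutators are one and the same power of `t`.
-/

set_option autoImplicit false
set_option maxRecDepth 20000

namespace Cfsg.Agent.Co2Type.Local

open Code

/-- The words carrying the first non-adjacent pair to the others. -/
def pairTbl : List (Fin 7 × Fin 7 × List (Fin 7)) :=
  [(0, 2, []), (0, 3, [2, 3]), (0, 4, [3, 4, 2, 3]), (0, 5, [4, 5, 3, 4, 2, 3]), (0, 6, [2, 6]),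
    (1, 3, [0, 1, 2, 3]), (1, 4, [3, 4, 0, 1, 2, 3]), (1, 5, [4, 5, 3, 4, 0, 1, 2, 3]), (1, 6, [0, 1, 2, 6]),
    (2, 4, [1, 2, 3, 4, 0, 1, 2, 3]), (2, 5, [4, 5, 1, 2, 3, 4, 0, 1, 2, 3]),
    (3, 5, [2, 3, 4, 5, 1, 2, 3, 4, 0, 1, 2, 3]), (3, 6, [4, 3, 2, 6, 1, 2, 3, 4, 0, 1, 2, 3, 1, 2, 0, 1]),
    (4, 6, [2, 6, 1, 2, 3, 4, 0, 1, 2, 3, 1, 2, 0, 1]), (5, 6, [2, 6, 4, 5, 1, 2, 3, 4, 0, 1, 2, 3, 1, 2, 0, 1])]

/-- The seven pairwise orthogonal transvections, by words. -/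
def sevenW : Fin 7 → List (Fin 7) :=
  ![[6, 2, 1], [2, 6, 3, 2, 0, 1], [6, 4, 3, 2, 0, 1], [3, 2, 6, 4, 3, 2, 1], [6, 5, 4, 3, 1, 2, 0, 1],
    [3, 1, 2, 6, 5, 4, 3, 2, 1], [4, 2, 3, 1, 2, 6, 5, 4, 3, 2, 1]]

/-- Their pairs. -/
def sevenP : List (Fin 7 × Fin 7 × List (Fin 7)) :=
  [(0, 1, [2, 6, 2, 3, 1]), (0, 2, [6, 4, 2, 3, 1]), (0, 3, [3, 0, 1, 2, 6, 3, 4, 0, 1, 2, 3, 0, 1]),
    (0, 4, [6, 5, 4, 1, 2, 3, 1]), (0, 5, [3, 0, 1, 2, 6, 5, 3, 4, 1, 2, 3, 0, 1]),
    (0, 6, [4, 2, 3, 0, 1, 2, 6, 5, 3, 4, 1, 2, 3, 0, 1]), (1, 2, [1, 2, 6, 3, 4, 0, 1, 2, 3, 1]),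
    (1, 3, [3, 2, 6, 3, 4, 2, 3, 0, 1]), (1, 4, [2, 6, 5, 3, 4, 0, 1, 2, 3, 1]),
    (1, 5, [3, 1, 2, 6, 5, 3, 4, 2, 3, 0, 1]), (1, 6, [4, 2, 3, 1, 2, 6, 4, 5, 3, 4, 1, 2, 3, 0, 1]),
    (2, 3, [4, 3, 2, 6, 4, 2, 3, 0, 1]), (2, 4, [6, 4, 5, 3, 4, 0, 1, 2, 3, 1]),
    (2, 5, [3, 1, 2, 6, 4, 5, 3, 4, 1, 2, 3, 0, 1]), (2, 6, [4, 2, 3, 1, 2, 6, 5, 3, 4, 2, 3, 0, 1]),
    (3, 4, [3, 2, 6, 4, 5, 3, 4, 1, 2, 3, 1]), (3, 5, [3, 0, 1, 2, 6, 4, 5, 3, 4, 2, 3, 0, 1]),
    (3, 6, [4, 2, 3, 0, 1, 2, 6, 4, 5, 3, 4, 2, 3, 0, 1]), (4, 5, [5, 4, 3, 1, 2, 6, 4, 2, 3, 0, 1]),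
    (4, 6, [5, 4, 2, 3, 1, 2, 6, 5, 4, 2, 3, 0, 1]), (5, 6, [5, 4, 1, 2, 3, 0, 1, 2, 6, 4, 5, 3, 4, 2, 3, 0, 1])]

/-- The word of a conjugate. -/
def cjW (w : List (Fin 7)) (k : Fin 7) : List (Fin 15) := up w ++ up [k] ++ (up w).reverse

theorem sq_code : ∀ k : Fin 7, eqW (up [k] ++ up [k]) [] = true := by decide +kernel

theorem braid_code : ∀ k l : Fin 7, adj k l = true →
    eqW (up [k] ++ up [l] ++ up [k]) (up [l] ++ up [k] ++ up [l]) = true := by decide +kernel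

theorem pair_code : ∀ p ∈ pairTbl, eqW (cjW p.2.2 0) (up [p.1]) = true ∧ eqW (cjW p.2.2 2) (up [p.2.1]) = true := by
  decide +kernel

theorem pair_complete : ∀ k l : Fin 7, adj k l = false → k = l ∨
    ∃ p ∈ pairTbl, (p.1 = k ∧ p.2.1 = l) ∨ (p.1 = l ∧ p.2.1 = k) := by decide +kernel

theorem seven_pair_code : ∀ p ∈ sevenP,
    eqW (cjW p.2.2 0) (cjW (sevenW p.1) 0) = true ∧ eqW (cjW p.2.2 2) (cjW (sevenW p.2.1) 0) = true := by
  decide +kernel

theorem seven_pair_complete : ∀ i j : Fin 7, i < j → ∃ p ∈ sevenP, p.1 = i ∧ p.2.1 = j := by decide +kernel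

theorem seven_prod_code : eqW ((List.ofFn fun i : Fin 7 => cjW (sevenW i) 0).flatten) [] = true := by
  decide +kernel

/-- Parity. -/
def odd : ℕ → Bool
  | 0 => false
  | n + 1 => !odd n

/-- The exponent of the square of a product. -/
def sqBit (e c : Bool) : ℕ → Bool
  | 0 => false
  | n + 1 => xor (xor e (c && odd n)) (sqBit e c n)

variable {G : Type*} [Group G] {t : G} {χ : Q8 →* G}

/-- Two elements commute up to the given power of `t`. -/
def Comm (t : G) (c : Bool) (x y : G) : Prop := x * y = zb t c * (y * x)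

/-- Elements over the seven codes. -/
structure Lifts (t : G) (χ : Q8 →* G) (a : Fin 7 → G) : Prop where
  mem : ∀ k, a k ∈ Subgroup.centralizer ({t} : Set G)
  rel : ∀ k, Rel χ (a k) (el (up [k]))

theorem Coo.exists_lifts (S : Coo t χ) : ∃ a : Fin 7 → G, Lifts t χ a := by
  have h := fun k : Fin 7 => S.surj (el (up [k]))
  choose a ha hr using h
  exact ⟨a, ha, hr⟩

variable (S : Coo t χ)
include S

theorem Coo.zb_mem (b : Bool) : zb t b ∈ Subgroup.centralizer ({t} : Set G) := by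
  cases b
  · exact one_mem _
  · exact S.t_mem

omit S in
theorem zb_comm {x : G} (hx : x ∈ Subgroup.centralizer ({t} : Set G)) (b : Bool) : x * zb t b = zb t b * x :=
  zb_central (Coo.comm_t hx) b

theorem Coo.zb_xor (a b : Bool) : zb t a * zb t b = zb t (xor a b) := zb_mul S.t_sq a b

theorem Coo.exists_zb {x y : G} {c : C0} (hx : x ∈ Subgroup.centralizer ({t} : Set G))
    (hy : y ∈ Subgroup.centralizer ({t} : Set G)) (h : Rel χ x c) (h' : Rel χ y c) : ∃ b, y = x * zb t b := by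
  rcases S.uniq hx hy h h' with e | e
  · exact ⟨false, by rw [e, zb_false, mul_one]⟩
  · exact ⟨true, by rw [e, zb_true]⟩

theorem Comm.symm {c : Bool} {x y : G} (h : Comm t c x y) : Comm t c y x := by
  rw [Comm, h, ← mul_assoc, S.zb_xor, Bool.xor_self, zb_false, one_mul]

omit S in
theorem Comm.conj {c : Bool} {x y g : G} (h : Comm t c x y) (hg : g ∈ Subgroup.centralizer ({t} : Set G)) :
    Comm t c (g * x * g⁻¹) (g * y * g⁻¹) := by
  rw [Comm, show g * x * g⁻¹ * (g * y * g⁻¹) = g * (x * y) * g⁻¹ by group, h,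
    show g * (zb t c * (y * x)) * g⁻¹ = g * zb t c * (y * x) * g⁻¹ by group, zb_comm hg]
  group

theorem Comm.shift {c : Bool} {x y : G} (hx : x ∈ Subgroup.centralizer ({t} : Set G))
    (hy : y ∈ Subgroup.centralizer ({t} : Set G)) (h : Comm t c x y) (f f' : Bool) :
    Comm t c (x * zb t f) (y * zb t f') := by
  rw [Comm, mul_assoc x, ← mul_assoc (zb t f), ← zb_comm hy, mul_assoc y, ← mul_assoc x, h, mul_assoc y (zb t f') _,
    ← mul_assoc (zb t f') x, ← zb_comm hx, mul_assoc x (zb t f'), S.zb_xor, S.zb_xor, Bool.xor_comm f' f]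
  group

theorem comm_prod {c : Bool} {b : G} : ∀ l : List G, (∀ x ∈ l, x ∈ Subgroup.centralizer ({t} : Set G)) →
    (∀ x ∈ l, Comm t c b x) → b * l.prod = zb t (c && odd l.length) * (l.prod * b)
  | [], _, _ => by simp [odd, zb]
  | a :: l, hl, h => by
    have ha := hl a List.mem_cons_self
    rw [List.prod_cons, ← mul_assoc, h a List.mem_cons_self, mul_assoc, mul_assoc,
      comm_prod l (fun x hx => hl x (List.mem_cons_of_mem _ hx)) (fun x hx => h x (List.mem_cons_of_mem _ hx)),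
      ← mul_assoc a, zb_comm ha, List.length_cons]
    simp only [← mul_assoc]
    rw [S.zb_xor]
    congr 4
    simp only [odd]
    cases c <;> cases odd l.length <;> rfl

theorem prod_sq {e c : Bool} : ∀ l : List G, (∀ x ∈ l, x ∈ Subgroup.centralizer ({t} : Set G)) →
    (∀ x ∈ l, x * x = zb t e) → l.Pairwise (Comm t c) → l.prod * l.prod = zb t (sqBit e c l.length)
  | [], _, _, _ => by simp [sqBit, zb]
  | b :: l, hl, hs, hp => by
    have hb := hl b List.mem_cons_self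
    have hl' := fun x hx => hl x (List.mem_cons_of_mem b hx)
    rw [List.pairwise_cons] at hp
    have h1 : l.prod * b = zb t (c && odd l.length) * (b * l.prod) := by
      rw [comm_prod S l hl' (fun x hx => hp.1 x hx), ← mul_assoc (zb t _) (zb t _), S.zb_xor, Bool.xor_self,
        zb_false, one_mul]
    calc (b :: l).prod * (b :: l).prod = b * (l.prod * b) * l.prod := by simp [List.prod_cons, mul_assoc]
      _ = zb t (c && odd l.length) * ((b * b) * (l.prod * l.prod)) := by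
        rw [h1, ← mul_assoc b, zb_comm hb]; simp [mul_assoc]
      _ = _ := by
        rw [hs b List.mem_cons_self, prod_sq l hl' (fun x hx => hs x (List.mem_cons_of_mem _ hx)) hp.2,
          S.zb_xor, S.zb_xor, List.length_cons, sqBit]
        congr 1
        generalize sqBit e c l.length = r
        generalize (c && odd l.length) = o
        cases e <;> cases r <;> cases o <;> rfl

variable {a : Fin 7 → G} (L : Lifts t χ a)
include L

omit S in
theorem Lifts.lift_mem (w : List (Fin 7)) : lift a w ∈ Subgroup.centralizer ({t} : Set G) :=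
  Local.lift_mem L.mem w

omit S in
theorem Lifts.cj_mem (w : List (Fin 7)) (k : Fin 7) :
    lift a w * a k * (lift a w)⁻¹ ∈ Subgroup.centralizer ({t} : Set G) :=
  mul_mem (mul_mem (L.lift_mem w) (L.mem k)) (inv_mem (L.lift_mem w))

omit S in
theorem Lifts.rel_cj (w : List (Fin 7)) (k : Fin 7) : Rel χ (lift a w * a k * (lift a w)⁻¹) (el (cjW w k)) := by
  have := ((rel_lift L.rel w).mul (L.rel k)).mul (rel_lift L.rel w).inv
  rwa [el_reverse, ← el_append, ← el_append] at this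

theorem Lifts.exists_consts : ∃ e : Bool, (∀ k, a k * a k = zb t e) ∧
    (∀ k l, adj k l = false → k ≠ l → Comm t e (a k) (a l)) := by
  obtain ⟨e, he⟩ : ∃ e, a 0 * a 0 = zb t e := by
    have h := (L.rel 0).mul (L.rel 0)
    rw [← el_append, of_eqW (sq_code 0), el_nil] at h
    obtain ⟨b, hb⟩ := S.exists_zb (one_mem _) (mul_mem (L.mem 0) (L.mem 0)) (Rel.one χ) h
    exact ⟨b, by rw [hb, one_mul]⟩
  have step : ∀ k l, adj k l = true → a k * a k = zb t e → a l * a l = zb t e := by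
    intro k l hkl hk
    have h1 := ((L.rel k).mul (L.rel l)).mul (L.rel k)
    have h2 := ((L.rel l).mul (L.rel k)).mul (L.rel l)
    rw [← el_append, ← el_append] at h1 h2
    rw [of_eqW (braid_code k l hkl)] at h1
    obtain ⟨s, hs⟩ := S.exists_zb (mul_mem (mul_mem (L.mem l) (L.mem k)) (L.mem l))
      (mul_mem (mul_mem (L.mem k) (L.mem l)) (L.mem k)) h2 h1
    set x := a k * a l
    have hx : x ∈ Subgroup.centralizer ({t} : Set G) := mul_mem (L.mem k) (L.mem l)
    have e1 : x * a k * x⁻¹ = a l * zb t s := by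
      rw [hs, mul_assoc (a l * a k * a l), ← zb_comm (inv_mem hx)]
      simp only [x]
      group
    have e2 : a l * zb t s * (a l * zb t s) = x * (a k * a k) * x⁻¹ := by rw [← e1]; group
    rw [hk, zb_comm hx, mul_inv_cancel_right] at e2
    calc a l * a l = a l * a l * (zb t s * zb t s) := by rw [S.zb_xor, Bool.xor_self, zb_false, mul_one]
      _ = a l * zb t s * (a l * zb t s) := by
        rw [← mul_assoc (a l * zb t s), mul_assoc (a l) (zb t s) (a l), ← zb_comm (L.mem l)]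
        simp [mul_assoc]
      _ = _ := e2
  have h1 := step 0 1 rfl he
  have h2 := step 1 2 rfl h1
  have h3 := step 2 3 rfl h2
  have h4 := step 3 4 rfl h3
  have hsq : ∀ k, a k * a k = zb t e := by
    intro k
    fin_cases k
    exacts [he, h1, h2, h3, h4, step 4 5 rfl h4, step 2 6 rfl h2]
  obtain ⟨c, hc⟩ : ∃ c, Comm t c (a 0) (a 2) := by
    have h1 := (L.rel 0).mul (L.rel 2)
    have h2 := (L.rel 2).mul (L.rel 0)
    rw [← el_append] at h1 h2
    rw [of_eqW (by decide +kernel : eqW (up [0] ++ up [2]) (up [2] ++ up [0]) = true)] at h1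
    obtain ⟨b, hb⟩ := S.exists_zb (mul_mem (L.mem 2) (L.mem 0)) (mul_mem (L.mem 0) (L.mem 2)) h2 h1
    exact ⟨b, hb.trans (zb_comm (mul_mem (L.mem 2) (L.mem 0)) b)⟩
  have move : ∀ (w : List (Fin 7)) (x y : G), x ∈ Subgroup.centralizer ({t} : Set G) →
      y ∈ Subgroup.centralizer ({t} : Set G) → Rel χ x (el (cjW w 0)) → Rel χ y (el (cjW w 2)) → Comm t c x y := by
    intro w x y hx hy hrx hry
    obtain ⟨f, rfl⟩ := S.exists_zb (L.cj_mem w 0) hx (L.rel_cj w 0) hrx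
    obtain ⟨f', rfl⟩ := S.exists_zb (L.cj_mem w 2) hy (L.rel_cj w 2) hry
    exact Comm.shift S (L.cj_mem w 0) (L.cj_mem w 2) (hc.conj (L.lift_mem w)) f f'
  let b : Fin 7 → G := fun i => lift a (sevenW i) * a 0 * (lift a (sevenW i))⁻¹
  have hb : ∀ i, b i ∈ Subgroup.centralizer ({t} : Set G) := fun i => L.cj_mem _ 0
  have hec : c = e := by
    have hl : ∀ x ∈ List.ofFn b, ∃ i, b i = x := fun x hx => List.mem_ofFn.1 hx
    have hsqb : ∀ x ∈ List.ofFn b, x * x = zb t e := fun x hx => by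
      obtain ⟨i, rfl⟩ := hl x hx
      simp only [b]
      rw [show ∀ g : G, g * a 0 * g⁻¹ * (g * a 0 * g⁻¹) = g * (a 0 * a 0) * g⁻¹ from fun g => by group, he,
        zb_comm (L.lift_mem _), mul_inv_cancel_right]
    have hpw : (List.ofFn b).Pairwise (Comm t c) := by
      rw [List.pairwise_ofFn]
      intro i j hij
      obtain ⟨p, hp, rfl, rfl⟩ := seven_pair_complete i j hij
      obtain ⟨q1, q2⟩ := seven_pair_code p hp
      exact move p.2.2 _ _ (hb _) (hb _) (of_eqW q1 ▸ L.rel_cj _ 0) (of_eqW q2 ▸ L.rel_cj _ 0)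
    have hmem : ∀ x ∈ List.ofFn b, x ∈ Subgroup.centralizer ({t} : Set G) := fun x hx => by
      obtain ⟨i, rfl⟩ := hl x hx
      exact hb i
    have hsquare := prod_sq S (List.ofFn b) hmem hsqb hpw
    have hrelP : Rel χ (List.ofFn b).prod 1 := by
      rw [← el_nil, ← of_eqW seven_prod_code]
      have r : ∀ i, Rel χ (b i) (el (cjW (sevenW i) 0)) := fun i => L.rel_cj _ 0
      simpa [List.ofFn_succ, el_append, ← mul_assoc] using
        (((((((r 0).mul (r 1)).mul (r 2)).mul (r 3)).mul (r 4)).mul (r 5)).mul (r 6))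
    rcases S.faith _ (Subgroup.list_prod_mem _ hmem) hrelP with h | h <;>
      rw [h, List.length_ofFn] at hsquare
    all_goals
      have h' : zb t false = zb t (sqBit e c 7) := by
        rw [← hsquare, zb_false]
        simp [S.t_sq]
      have := zb_ne S.t_ne h'
      revert this
      cases e <;> cases c <;> simp [sqBit, odd]
  subst hec
  refine ⟨c, hsq, fun k l hkl hne => ?_⟩
  obtain ⟨p, hp, hcase⟩ := (pair_complete k l hkl).resolve_left hne
  obtain ⟨q1, q2⟩ := pair_code p hp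
  have := move p.2.2 (a p.1) (a p.2.1) (L.mem _) (L.mem _) (by rw [of_eqW q1]; exact L.rel _)
    (by rw [of_eqW q2]; exact L.rel _)
  rcases hcase with ⟨rfl, rfl⟩ | ⟨rfl, rfl⟩
  · exact this
  · exact Comm.symm S this

end Cfsg.Agent.Co2Type.Local
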