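import Cfsg.Agent.Lib.Co2Type.Local.Split
import Cfsg.Agent.Lib.Co2Type.Local.Exists
import Cfsg.Agent.Lib.Co2Type.Dichotomy

/-!
The local setting from the hypotheses of the recognition theorem.
-/

set_option autoImplicit false
set_option linter.unusedSectionVars false

namespace Cfsg.Agent.Co2Type.Local

variable {G : Type*} [Group G] [Finite G]

/-- The coordinates, the order of the centraliser and a commuting conjugate. -/
theorem exists_setup (hO : Cfsg.oddCore G = ⊥) (hZ : Subgroup.center G = ⊥) (t : G) (ht : orderOf t = 2)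
    (hcon : Cfsg.IsPConstrained 2 ↥(Subgroup.centralizer ({t} : Set G)))
    (hQ : Cfsg.IsExtraspecial 2 ↥(Cfsg.pCore 2 ↥(Subgroup.centralizer ({t} : Set G))))
    (hcard : Nat.card ↥(Cfsg.pCore 2 ↥(Subgroup.centralizer ({t} : Set G))) = 2 ^ 9)
    (e : ↥(Subgroup.centralizer ({t} : Set G)) ⧸ Cfsg.pCore 2 ↥(Subgroup.centralizer ({t} : Set G)) ≃* X6) :
    ∃ χ : Code.Q8 →* G, Coo t χ ∧ Nat.card (Subgroup.centralizer ({t} : Set G)) = 512 * 1451520 ∧
      ∃ g : G, g * t * g⁻¹ ∈ Subgroup.centralizer ({t} : Set G) ∧ g * t * g⁻¹ ≠ t := by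
  obtain ⟨V, iV, fV, M, Q, ⟨S⟩⟩ := exists_coord t ht hcon hQ hcard e
  obtain ⟨F⟩ := exists_spinFrame S hO hZ
  obtain ⟨χ, hχ, -, -⟩ := exists_coo S F
  obtain ⟨g, hg, hne⟩ := exists_partner hO hZ ht
  refine ⟨χ, hχ, ?_, g, Subgroup.mem_centralizer_singleton_iff.2 hg, hne⟩
  have hker : S.π.ker = Q.subgroupOf (Subgroup.centralizer ({t} : Set G)) := Subgroup.ext fun c => by
    rw [MonoidHom.mem_ker, Subgroup.mem_subgroupOf, S.ker]
  rw [Subgroup.card_eq_card_quotient_mul_card_subgroup S.π.ker,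
    Nat.card_congr (QuotientGroup.quotientKerEquivOfSurjective S.π S.surj).toEquiv, card_X6, hker,
    Nat.card_congr (Subgroup.subgroupOfEquivOfLe S.ctr.le_centralizer).toEquiv, S.card, Nat.mul_comm]

end Cfsg.Agent.Co2Type.Local
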