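import Cfsg.Agent.Lib.Co2Type.Local.WeakW
import Cfsg.Agent.Lib.Co2Type.Local.TwistData

/-!
Finite facts for the twisted case: the radical of the centraliser of an involution of the automorphism part, and
its elements with a product of conjugates over a class without involutions.
-/

set_option autoImplicit false
set_option maxRecDepth 200000

namespace Cfsg.Agent.Co2Type.Local.TwistCheck

open Code End WeakCheck TwistData

/-- The involution. -/
def w1 : List (Fin 15) := Classify.wRepW 1

/-- In the image. -/
def inT (v : ℕ) : Bool := imgL.any (Nat.beq (v % 256))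

/-- Fixed. -/
noncomputable def fixV (v : ℕ) : Bool := Nat.beq (wap w1 v) v

/-- The least member of the coset of the image. -/
def canon (v : ℕ) : ℕ := imgL.foldl (fun m d => bif Nat.ble m (v ^^^ d) then m else v ^^^ d) 999

/-- The signature on the fixed space modulo the image. -/
noncomputable def tsig (w : List (Fin 15)) : ℕ := keyL (basL.map fun e => canon (wap w e))

/-- A word of the radical. -/
noncomputable def tradW (i : ℕ) : List (Fin 15) := dec (radL.getD i 1)

/-- A centralising word. -/
noncomputable def centW (i : ℕ) : List (Fin 15) := dec ((sqL.getD i []).getD 0 1)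

/-- Its corrections. -/
noncomputable def preW (i : ℕ) (k : Fin 2) : List (Fin 15) := dec ((sqL.getD i []).getD (k.val + 1) 1)

/-- The square. -/
noncomputable def sqW (i : ℕ) : List (Fin 15) := centW i ++ centW i

/-- The two representatives. -/
def jRep : Fin 2 → Fin 10 := ![2, 4]

/-- A product of conjugates. -/
noncomputable def tbadW (i : ℕ) (l : List ℕ) : List (Fin 15) :=
  l.flatMap fun h => sqW h ++ tradW i ++ (sqW h).reverse

/-- The number of fixed points. -/
noncomputable def fcount (c : List ℕ) : ℕ := ((List.range 512).filter fun v => Nat.beq (appL c v) v).length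

/-- Forbidden images. -/
noncomputable def forb (c : List ℕ) : Bool :=
  (!Roots.beqL (c.map (appL c)) stdImg && !Roots.beqL (c.map (appL c)) (wimg w1)) ||
    (Roots.beqL (c.map (appL c)) stdImg && !Roots.beqL c stdImg && Nat.beq (fcount c) 32)

/-- Conjugation by a code, computed. -/
noncomputable def conjN (c : ℕ × List ℕ) (v : ℕ) : ℕ :=
  qmulN (qmulN c.1 (appL c.2 v)) (c.1 ^^^ kz (beta c.1 c.1))

theorem len_ok : imgL.length = 4 ∧ orbL.length = 315 ∧ actL.length = 36 ∧ radL.length = 128 ∧ sqL.length = 25 ∧
    keepL.length = 14 := by decide +kernel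

theorem image_ok : ((List.range 256).all fun v => inT (wap w1 v ^^^ v)) = true := by decide +kernel

theorem image_group : (imgL.all fun a => Nat.blt a 256 && imgL.all fun b => inT (a ^^^ b)) = true := by decide +kernel

theorem canon_ok : ((List.range 256).all fun v => imgL.all fun d => Nat.beq (canon (v ^^^ d)) (canon v)) = true := by
  decide +kernel

theorem act_ok : (actL.all fun n => imgL.all (fun d => inT (wap (dec n) d)) &&
    Roots.beqL (wimg (dec n ++ w1 ++ (dec n).reverse)) (wimg w1)) = true := by decide +kernel

theorem act_sig : WeakCheck.distinctB (actL.map fun n => tsig (dec n)) = true := by decide +kernel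

theorem bas_ok : (basL.all fun e => Nat.blt e 256 && fixV e) = true := by decide +kernel

theorem orb_distinct : WeakCheck.distinctB (orbL.map fun n => keyL (wimg (dec n ++ w1 ++ (dec n).reverse))) = true := by
  decide +kernel

theorem rad_ok : (radL.all fun n => ((List.range 256).all fun v => !fixV v || inT (wap (dec n) v ^^^ v)) &&
    Roots.beqL (wimg (dec n ++ w1 ++ (dec n).reverse)) (wimg w1)) = true := by decide +kernel

theorem rad_distinct : WeakCheck.distinctB (radL.map fun n => keyL (wimg (dec n))) = true := by decide +kernel

theorem sq_ok : ∀ k : Fin 2, ((List.range 25).all fun i =>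
    Roots.beqL (wimg (preW i k)) stdImg &&
      Nat.beq ((cw (preW i k ++ centW i ++ repW (jRep k) ++ (preW i k ++ centW i).reverse)).1 % 256)
        ((cw (repW (jRep k))).1 % 256) &&
      Roots.beqL (wimg (preW i k ++ centW i ++ repW (jRep k) ++ (preW i k ++ centW i).reverse))
        (wimg (repW (jRep k)))) = true := by decide +kernel

theorem outside_image : ((List.range 256).all fun v => !fixV v || inT v || !Nat.beq (qmulN v v) 0 ||
    (List.range 25).any fun i => (List.range 25).any fun i' =>
      !Nat.beq (qmulN (wap (sqW i) v) (wap (sqW i') v)) (qmulN (wap (sqW i') v) (wap (sqW i) v))) = true := by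
  decide +kernel

theorem bad_ok : ((List.range 128).all fun i => keepL.any (Nat.beq i) ||
    badL.any fun p => Nat.beq p.1 i && p.2.all (fun h => Nat.blt h 25) && forb (wimg (tbadW i p.2))) = true := by
  decide +kernel

theorem rep_ok : (∀ j : Fin 10, j.val ∈ [2, 3, 4] → wimg (repW j) = wimg w1) ∧
    wimg (repW 9) = wimg (Classify.wRepW 4) ∧ fcount (wimg w1) = 128 ∧
    fcount (wimg (Classify.wRepW 4)) = 16 ∧ wimg w1 ≠ stdImg := by decide +kernel

theorem fix_ok : ∀ k : Fin 2, ((List.range 512).all fun v =>
    Nat.beq (wap w1 (v % 256)) (v % 256) == Nat.beq (conjN (cw (repW (jRep k))) v) v) = true ∧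
    ((List.range 512).filter fun v => Nat.beq (conjN (cw (repW (jRep k))) v) v).length = 128 := by
  decide +kernel

end Cfsg.Agent.Co2Type.Local.TwistCheck
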