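import Cfsg.Agent.Lib.Co2Type.Local.TwistCheck

/-!
The checks of the twisted case read in the code group.
-/

set_option autoImplicit false
set_option maxRecDepth 20000
set_option linter.style.haveILetI false

namespace Cfsg.Agent.Co2Type.Local.TwistCheck

open Code End WeakCheck TwistData

theorem canon_add {v d : ℕ} (hv : v < 256) (hd : inT d = true) (hd' : d < 256) : canon (v ^^^ d) = canon v := by
  obtain ⟨e, he, hde⟩ := List.any_eq_true.1 hd
  rw [Nat.mod_eq_of_lt hd', Nat.beq_eq] at hde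
  subst hde
  exact Nat.eq_of_beq_eq_true (List.all_eq_true.1 (List.all_eq_true.1 canon_ok v (List.mem_range.2 hv)) d he)

/-- Centralising the involution and trivial on the fixed space modulo the image. -/
def TRad (w : ↥W) : Prop :=
  w * rw0 w1 = rw0 w1 * w ∧
    ∀ a : Q8, lo ((rw0 w1 : MulAut Q8) a) = lo a → inT (lo ((w : MulAut Q8) a) ^^^ lo a) = true

theorem cent_of_conj {p : List (Fin 15)} (h : Roots.beqL (wimg (p ++ w1 ++ p.reverse)) (wimg w1) = true) :
    rw0 p * rw0 w1 = rw0 w1 * rw0 p := by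
  have e : rw0 p * rw0 w1 * (rw0 p)⁻¹ = rw0 w1 := by
    rw [← rw0_conj]
    exact Subtype.ext (imgs_injective (by rw [imgs_rw0, imgs_rw0]; exact Roots.beqL_eq _ _ h))
  rwa [mul_inv_eq_iff_eq_mul] at e

theorem tradW_mem {i : ℕ} (hi : i < 128) : radL.getD i 1 ∈ radL := by
  rw [List.getD_eq_getElem _ _ (len_ok.2.2.2.1.symm ▸ hi)]
  exact List.getElem_mem _

theorem trad_tradW {i : ℕ} (hi : i < 128) : TRad (rw0 (tradW i)) := by
  have h := List.all_eq_true.1 rad_ok _ (tradW_mem hi)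
  rw [Bool.and_eq_true, List.all_eq_true] at h
  refine ⟨cent_of_conj h.2, fun a ha => ?_⟩
  have h' := h.1 (lo a) (List.mem_range.2 (lo_lt a))
  rw [lo_rw0] at ha
  have hf : fixV (lo a) = true := by rw [fixV, ha, Nat.beq_refl]
  rw [hf, Bool.not_true, Bool.false_or] at h'
  rw [lo_rw0]
  exact h'

theorem tradW_inj {i j : ℕ} (hi : i < 128) (hj : j < 128) (h : rw0 (tradW i) = rw0 (tradW j)) : i = j :=
  getD_inj (d := 1) rad_distinct (len_ok.2.2.2.1.symm ▸ hi) (len_ok.2.2.2.1.symm ▸ hj)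
    (by show keyL (wimg (tradW i)) = keyL (wimg (tradW j)); rw [← imgs_rw0, ← imgs_rw0, h])

/-- These elements are the listed ones. -/
theorem trad_iff {w : ↥W} (h : TRad w) : ∃ i, i < 128 ∧ w = rw0 (tradW i) := by
  classical
  haveI := finite_W
  let Y := {w : ↥W // TRad w}
  let o : Fin 315 → List (Fin 15) := fun k => dec (orbL.getD k.val 1)
  let p : Fin 36 → List (Fin 15) := fun j => dec (actL.getD j.val 1)
  have hp : ∀ j : Fin 36, actL.getD j.val 1 ∈ actL := fun j => by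
    rw [List.getD_eq_getElem _ _ (len_ok.2.2.1.symm ▸ j.2)]; exact List.getElem_mem _
  have hpc : ∀ j : Fin 36, rw0 (p j) * rw0 w1 = rw0 w1 * rw0 (p j) := fun j => by
    have h := List.all_eq_true.1 act_ok _ (hp j)
    rw [Bool.and_eq_true] at h
    exact cent_of_conj h.2
  have hsig : ∀ (j : Fin 36) (y : Y), ∀ e ∈ basL,
      canon (lo (((rw0 (p j) * y.1 : ↥W) : MulAut Q8) ⟨e % 512, Nat.mod_lt _ (by norm_num)⟩)) =
        canon (wap (p j) e) := fun j y e he => by
    have hb := List.all_eq_true.1 bas_ok e he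
    rw [Bool.and_eq_true, Nat.blt_eq] at hb
    set a : Q8 := ⟨e % 512, Nat.mod_lt _ (by norm_num)⟩
    have hla : lo a = e := by show e % 512 % 256 = e; omega
    have hfa : lo ((rw0 w1 : MulAut Q8) a) = lo a := by
      rw [lo_rw0, hla]
      exact Nat.eq_of_beq_eq_true hb.2
    set b : Q8 := a * (y.1 : MulAut Q8) a
    have hb' : inT (lo b) = true := by rw [lo_mul, Nat.xor_comm]; exact y.2.2 a hfa
    have hab : lo ((y.1 : MulAut Q8) a) = lo (a * b) := by rw [lo_mul, lo_mul, xor_cancel]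
    have hpb : inT (lo ((rw0 (p j) : MulAut Q8) b)) = true := by
      obtain ⟨d, hd, hde⟩ := List.any_eq_true.1 hb'
      rw [Nat.mod_eq_of_lt (lo_lt b), Nat.beq_eq] at hde
      have h := List.all_eq_true.1 act_ok _ (hp j)
      rw [Bool.and_eq_true, List.all_eq_true] at h
      rw [lo_rw0, hde]
      exact h.1 d hd
    rw [Subgroup.coe_mul, MulAut.mul_apply, lo_congr _ hab, map_mul, lo_mul, canon_add (lo_lt _) hpb (lo_lt _),
      lo_rw0, hla]
  let Φ : Fin 315 × Fin 36 × Y → ↥W := fun q => rw0 (o q.1) * (rw0 (p q.2.1) * q.2.2.1)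
  have hΦc : ∀ q : Fin 315 × Fin 36 × Y, Φ q * rw0 w1 * (Φ q)⁻¹ = rw0 (o q.1 ++ w1 ++ (o q.1).reverse) := by
    rintro ⟨k, j, y⟩
    rw [rw0_conj]
    have e : rw0 (p j) * y.1 * rw0 w1 = rw0 w1 * (rw0 (p j) * y.1) := by
      rw [mul_assoc, y.2.1, ← mul_assoc, hpc, mul_assoc]
    calc Φ (k, j, y) * rw0 w1 * (Φ (k, j, y))⁻¹
        = rw0 (o k) * (rw0 (p j) * y.1 * rw0 w1) * (rw0 (p j) * y.1)⁻¹ * (rw0 (o k))⁻¹ := by simp only [Φ]; group
      _ = _ := by rw [e]; group
  have hΦ : Function.Injective Φ := by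
    rintro ⟨k, j, y⟩ ⟨k', j', y'⟩ e
    have hk : k = k' := by
      have h1 := hΦc (k, j, y)
      rw [e, hΦc (k', j', y')] at h1
      exact Fin.ext (getD_inj (d := 1) orb_distinct (len_ok.2.1.symm ▸ k.2) (len_ok.2.1.symm ▸ k'.2)
        (by show keyL (wimg (o k ++ w1 ++ (o k).reverse)) = keyL (wimg (o k' ++ w1 ++ (o k').reverse))
            rw [← imgs_rw0, ← imgs_rw0, ← h1]))
    subst hk
    have e' : rw0 (p j) * y.1 = rw0 (p j') * y'.1 := mul_left_cancel (show rw0 (o k) * _ = rw0 (o k) * _ from e)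
    have hj : j = j' := Fin.ext (getD_inj (d := 1) act_sig (len_ok.2.2.1.symm ▸ j.2) (len_ok.2.2.1.symm ▸ j'.2) (by
      show tsig (p j) = tsig (p j')
      refine congrArg keyL (List.map_congr_left fun a ha => ?_)
      rw [← hsig j y a ha, ← hsig j' y' a ha, e']))
    subst hj
    exact Prod.ext rfl (Prod.ext rfl (Subtype.ext (mul_left_cancel e')))
  have hc := Nat.card_le_card_of_injective Φ hΦ
  rw [card_W, Nat.card_prod, Nat.card_prod, Nat.card_fin, Nat.card_fin] at hc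
  let ι : Fin 128 → Y := fun i => ⟨rw0 (tradW i.val), trad_tradW i.2⟩
  have hι : Function.Injective ι := fun i j e => Fin.ext (tradW_inj i.2 j.2 (congrArg Subtype.val e))
  have hb := hι.bijective_of_nat_card_le (by rw [Nat.card_fin]; omega)
  obtain ⟨i, hi⟩ := hb.2 ⟨w, h⟩
  exact ⟨i.val, i.2, (congrArg Subtype.val hi).symm⟩

theorem conjQ_n (w : List (Fin 15)) (a : Q8) : (conjQ (el w) a).n = conjN (cw w) a.n := by
  have h := code_el w
  rw [← cw_eq] at h
  rw [← h, conjQ_apply, Q8.mul_n, Q8.mul_n, apply_eq]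
  rfl

theorem fcount_eq (φ : MulAut Q8) : Nat.card {a : Q8 // φ a = a} = fcount (imgs φ) := by
  classical
  rw [Nat.card_eq_fintype_card, Fintype.card_subtype]
  refine (Finset.card_bij (fun a _ => a.n) (fun a ha => ?_) (fun a _ b _ h => Q8.ext h) fun n hn => ?_).trans
    (List.toFinset_card_of_nodup (List.nodup_range.filter _))
  · rw [Finset.mem_filter] at ha
    rw [List.mem_toFinset, List.mem_filter, List.mem_range, Nat.beq_eq, ← apply_eq, ha.2]
    exact ⟨a.lt, rfl⟩
  · rw [List.mem_toFinset, List.mem_filter, List.mem_range, Nat.beq_eq] at hn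
    refine ⟨⟨n, hn.1⟩, Finset.mem_filter.2 ⟨Finset.mem_univ _, Q8.ext ?_⟩, rfl⟩
    rw [apply_eq]
    exact hn.2

theorem fcount_conj (z w : ↥W) :
    fcount (imgs ((z * w * z⁻¹ : ↥W) : MulAut Q8)) = fcount (imgs (w : MulAut Q8)) := by
  rw [← fcount_eq, ← fcount_eq]
  refine Nat.card_congr
    { toFun := fun a => ⟨(z : MulAut Q8)⁻¹ a.1, ?_⟩, invFun := fun a => ⟨(z : MulAut Q8) a.1, ?_⟩,
      left_inv := fun a => Subtype.ext (MulAut.apply_inv_self Q8 _ _)
      right_inv := fun a => Subtype.ext (MulAut.inv_apply_self Q8 _ _) }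
  · conv_rhs => rw [← a.2]
    simp [Subgroup.coe_mul, MulAut.mul_apply]
  · simp [Subgroup.coe_mul, MulAut.mul_apply, a.2]

end Cfsg.Agent.Co2Type.Local.TwistCheck
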