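import Cfsg.Agent.Lib.Co2Type.Local.WeakW

/-!
The homomorphism of the centraliser onto the automorphism part; an involution outside the extraspecial group has
more than 270 conjugates in the centraliser.
-/

set_option autoImplicit false
set_option maxRecDepth 20000

namespace Cfsg.Agent.Co2Type.Local

open Code End WeakCheck WeakData

variable {G : Type*} [Group G] {t : G} {χ : Q8 →* G} (S : Coo t χ)

theorem Rel.right_eq {c : G} {x y : C0} (hinj : Function.Injective χ) (hx : Rel χ c x) (hy : Rel χ c y) :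
    conjQ x = conjQ y ∧ x.right = y.right := by
  have h : conjQ x = conjQ y := MulEquiv.ext fun v => hinj (by rw [← hx, ← hy])
  refine ⟨h, ?_⟩
  have h' : conjQ (x⁻¹ * y) = 1 := by rw [conjQ_mul, ← h, ← conjQ_mul, inv_mul_cancel, conjQ_one]
  have h2 : (x⁻¹ * y).right = 1 := eq_one_of_triv fun a => by rw [← conjQ_lo, h']; rfl
  rw [SemidirectProduct.mul_right, SemidirectProduct.inv_right, inv_mul_eq_one] at h2
  exact h2

include S in
theorem Coo.chi_mem (v : Q8) : χ v ∈ Subgroup.centralizer ({t} : Set G) := by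
  rw [Subgroup.mem_centralizer_singleton_iff, ← S.zt_eq, ← map_mul, ← map_mul]
  refine congrArg χ ?_
  have h := map_zt (MulAut.conj v)
  rw [MulAut.conj_apply, mul_inv_eq_iff_eq_mul] at h
  exact h

include S in
set_option linter.unusedSectionVars false in
theorem Coo.rel_chi (v : Q8) : Rel χ (χ v) (SemidirectProduct.inl v) := fun a => by
  rw [conjQ_inl, MulAut.conj_apply, map_mul, map_mul, map_inv]

/-- The automorphism part of an element of the centraliser. -/
noncomputable def Coo.pi : ↥(Subgroup.centralizer ({t} : Set G)) →* ↥W :=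
  MonoidHom.mk' (fun c => (S.conj c.1 c.2).choose.right) fun c d => by
    rw [← SemidirectProduct.mul_right]
    exact (Rel.right_eq S.inj (S.conj (c * d).1 (c * d).2).choose_spec
      ((S.conj c.1 c.2).choose_spec.mul (S.conj d.1 d.2).choose_spec)).2

theorem Coo.pi_eq {c : ↥(Subgroup.centralizer ({t} : Set G))} {x : C0} (h : Rel χ c.1 x) : S.pi c = x.right :=
  (Rel.right_eq S.inj (S.conj c.1 c.2).choose_spec h).2

theorem Coo.pi_chi (v : Q8) : S.pi ⟨χ v, S.chi_mem v⟩ = 1 :=
  (S.pi_eq (c := ⟨χ v, S.chi_mem v⟩) (S.rel_chi v)).trans (SemidirectProduct.right_inl v)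

include S in
/-- An element of the centraliser conjugates the extraspecial group by an automorphism over its image. -/
theorem Coo.exists_rel (c : ↥(Subgroup.centralizer ({t} : Set G))) :
    ∃ x : C0, Rel χ c.1 x ∧ x.right = S.pi c ∧ ∀ v, c.1 * χ v * c.1⁻¹ = χ (conjQ x v) := by
  obtain ⟨x, hx⟩ := S.conj c.1 c.2
  exact ⟨x, hx, (S.pi_eq hx).symm, hx⟩

include S in
theorem Coo.conj_lo (c : ↥(Subgroup.centralizer ({t} : Set G))) {v w : Q8} (h : c.1 * χ v * c.1⁻¹ = χ w) :
    lo w = lo ((S.pi c : MulAut Q8) v) := by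
  obtain ⟨x, -, hx, hxv⟩ := S.exists_rel c
  rw [← hx, ← conjQ_lo, S.inj (h.symm.trans (hxv v))]

theorem Coo.ker_pi {c : ↥(Subgroup.centralizer ({t} : Set G))} (h : S.pi c = 1) : ∃ v : Q8, χ v = c.1 := by
  obtain ⟨x, hx⟩ := S.conj c.1 c.2
  rw [S.pi_eq hx] at h
  have hd : Rel χ (c.1 * (χ x.left)⁻¹) 1 := by
    have h1 : x = SemidirectProduct.inl x.left := SemidirectProduct.ext rfl h
    have := hx.mul (S.rel_chi x.left).inv
    rwa [← h1, mul_inv_cancel] at this
  rcases S.faith _ (Subgroup.mul_mem _ c.2 (Subgroup.inv_mem _ (S.chi_mem _))) hd with e | e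
  · exact ⟨x.left, (mul_inv_eq_one.1 e).symm⟩
  · exact ⟨zt * x.left, by
      rw [map_mul, S.zt_eq]
      exact (congrArg (· * χ x.left) e.symm).trans (inv_mul_cancel_right _ _)⟩

include S in
/-- An element of the centraliser over a given automorphism part of a word, fixing the first coordinate when the
code does. -/
theorem Coo.exists_word (w : List (Fin 15)) :
    ∃ c : ↥(Subgroup.centralizer ({t} : Set G)), S.pi c = rw0 w ∧
      ∀ v, c.1 * χ v * c.1⁻¹ = χ (conjQ (el w) v) := by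
  obtain ⟨c, hc, h⟩ := S.surj (el w)
  exact ⟨⟨c, hc⟩, S.pi_eq h, h⟩

/-- The centraliser of an element inside that of `t`. -/
def cin (t x : G) : Subgroup ↥(Subgroup.centralizer ({t} : Set G)) :=
  (Subgroup.centralizer ({x} : Set G)).comap (Subgroup.centralizer ({t} : Set G)).subtype

theorem mem_cin {t x : G} {c : ↥(Subgroup.centralizer ({t} : Set G))} : c ∈ cin t x ↔ c.1 * x = x * c.1 :=
  Subgroup.mem_centralizer_singleton_iff

variable [Finite G]

set_option linter.unusedSectionVars false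

include S in
/-- A noncentral involution of the extraspecial group has at most 270 conjugates. -/
theorem Coo.index_le {a : Q8} (ha : a * a = 1) (h0 : lo a ≠ 0) : (cin t (χ a)).index ≤ 270 := by
  classical
  have key : ∀ c : ↥(Subgroup.centralizer ({t} : Set G)), ∃ i : Fin 270,
      ∀ p ∈ orbL[i.val]?, c.1 * χ a * c.1⁻¹ = χ (conjQ (el (dec p.2)) q0) := fun c => by
    obtain ⟨x, -, -, hx⟩ := S.exists_rel c
    obtain ⟨p, hp, e⟩ := orbit_cases (v := conjQ x a) (by rw [← map_mul, ha, map_one]) (fun h => h0 (by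
      have h1 : lo (conjQ x a) = lo (conjQ x (1 : Q8)) := by rw [h, map_one, lo_one]
      have h2 := lo_congr (conjQ x)⁻¹ h1
      simpa [lo_one] using h2))
    obtain ⟨i, hi, rfl⟩ := List.mem_iff_getElem.1 hp
    refine ⟨⟨i, len_ok.2.2.1 ▸ hi⟩, fun q hq => ?_⟩
    rw [List.getElem?_eq_getElem hi, Option.mem_some_iff] at hq
    rw [← hq, e, hx]
  choose f hf using key
  let F : ↥(Subgroup.centralizer ({t} : Set G)) ⧸ cin t (χ a) → Fin 270 := fun q => f q.out
  have hF : Function.Injective F := fun q r e => by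
    rw [← Quotient.out_eq q, ← Quotient.out_eq r]
    refine QuotientGroup.eq.2 (mem_cin.2 ?_)
    obtain ⟨p, hp⟩ : ∃ p, p ∈ orbL[(F q).val]? :=
      ⟨_, List.getElem?_eq_getElem (len_ok.2.2.1.symm ▸ (F q).2)⟩
    have h1 := hf q.out p hp
    have h2 := hf r.out p (by rw [show (f r.out) = F q from e.symm]; exact hp)
    have h3 : q.out.1 * χ a * q.out.1⁻¹ = r.out.1 * χ a * r.out.1⁻¹ := h1.trans h2.symm
    show q.out.1⁻¹ * r.out.1 * χ a = χ a * (q.out.1⁻¹ * r.out.1)
    calc q.out.1⁻¹ * r.out.1 * χ a = q.out.1⁻¹ * (r.out.1 * χ a * r.out.1⁻¹) * r.out.1 := by group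
      _ = χ a * (q.out.1⁻¹ * r.out.1) := by rw [← h3]; group
  rw [Subgroup.index]
  exact (Nat.card_le_card_of_injective F hF).trans_eq (Nat.card_fin 270)

include S in
/-- An involution outside the extraspecial group has more conjugates. -/
theorem Coo.le_index {u : G} (hu : u ∈ Subgroup.centralizer ({t} : Set G)) (hu2 : u * u = 1)
    (hout : ∀ v, χ v ≠ u) : 271 ≤ (cin t u).index := by
  classical
  have := finite_W
  set u' : ↥(Subgroup.centralizer ({t} : Set G)) := ⟨u, hu⟩
  have hw2 : S.pi u' * S.pi u' = 1 := by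
    rw [← map_mul, show u' * u' = 1 from Subtype.ext hu2, map_one]
  have hw1 : S.pi u' ≠ 1 := fun h => by
    obtain ⟨v, hv⟩ := S.ker_pi h
    exact hout v hv
  obtain ⟨g, hg⟩ := conj_into_P (w := S.pi u') ⟨1, by rw [pow_one, pow_two, hw2]⟩
  obtain ⟨i, hi, hc⟩ := Classify.index_of_mem hg
  have hinv := List.all_eq_true.1 Classify.inv_ok i (List.mem_range.2 hi)
  have hgsq : g * S.pi u' * g⁻¹ * (g * S.pi u' * g⁻¹) = 1 := by
    calc g * S.pi u' * g⁻¹ * (g * S.pi u' * g⁻¹) = g * (S.pi u' * S.pi u') * g⁻¹ := by group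
      _ = 1 := by rw [hw2, mul_one, mul_inv_cancel]
  have hsq : Roots.beqL ((Classify.pC i).map (appL (Classify.pC i))) stdImg = true := by
    rw [← hc, ← imgs_mul, ← Subgroup.coe_mul, hgsq, Subgroup.coe_one,
      show imgs (1 : MulAut Q8) = stdImg from congrArg Prod.snd code_one]
    decide +kernel
  simp only [Classify.invOK, hsq, Bool.not_true, Bool.false_or, List.any_eq_true, Bool.and_eq_true,
    Nat.beq_eq] at hinv
  obtain ⟨⟨i', k, H⟩, -, -, hH⟩ := hinv
  have eH : rw0 H * rw0 (Classify.wRepW k) = g * S.pi u' * g⁻¹ * rw0 H := by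
    refine Subtype.ext (imgs_injective ?_)
    rw [Subgroup.coe_mul, Subgroup.coe_mul, imgs_mul, imgs_mul, hc, imgs_rw0, imgs_rw0]
    exact congrArg Prod.snd (Roots.beqC_eq hH)
  have hk : k ≠ 0 := fun h => hw1 (by
    subst h
    rw [show rw0 (Classify.wRepW 0) = 1 by rw [rw0, Classify.wRepW]; rfl, mul_one, eq_comm, mul_eq_right] at eH
    exact conj_eq_one_iff.1 eH)
  obtain ⟨h, hh⟩ : ∃ h : ↥(Subgroup.centralizer ({t} : Set G)), S.pi h = (rw0 H)⁻¹ * g := by
    obtain ⟨c, hc, h⟩ := S.surj (SemidirectProduct.inr ((rw0 H)⁻¹ * g))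
    exact ⟨⟨c, hc⟩, (S.pi_eq (c := ⟨c, hc⟩) h).trans (SemidirectProduct.right_inr _)⟩
  set u0 := h * u' * h⁻¹
  have hpu : S.pi u0 = rw0 (Classify.wRepW k) := by
    rw [map_mul, map_mul, map_inv, hh]
    calc (rw0 H)⁻¹ * g * S.pi u' * ((rw0 H)⁻¹ * g)⁻¹ = (rw0 H)⁻¹ * (g * S.pi u' * g⁻¹ * rw0 H) := by group
      _ = _ := by rw [← eH, inv_mul_cancel_left]
  have hconv := conv_ok k hk
  simp only [Bool.and_eq_true, Nat.ble_eq] at hconv
  obtain ⟨⟨⟨hnm, hd⟩, hd'⟩, he⟩ := hconv
  set P := convL.getD k.val []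
  set E := coorL.getD k.val []
  choose c hc1 hc2 using fun i : Fin P.length => S.exists_word (dec P[i.val])
  have hElt : ∀ j : Fin E.length, E[j.val] < 256 := fun j => by
    have h := List.all_eq_true.1 he _ (List.getElem_mem j.2)
    simp only [Bool.and_eq_true, Nat.blt_eq] at h
    exact h.1
  let q : Fin E.length → ↥(Subgroup.centralizer ({t} : Set G)) := fun j =>
    ⟨χ ⟨E[j.val], (hElt j).trans (by norm_num)⟩, S.chi_mem _⟩
  let F : Fin P.length × Fin E.length → ↥(Subgroup.centralizer ({t} : Set G)) ⧸ cin t u :=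
    fun p => QuotientGroup.mk (c p.1 * q p.2 * h)
  have hF : Function.Injective F := by
    rintro ⟨i1, j1⟩ ⟨i2, j2⟩ e
    have hm := mem_cin.1 (QuotientGroup.eq.1 e)
    set d := (c i1 * q j1 * h)⁻¹ * (c i2 * q j2 * h) with hd0
    have hm' : d * u' = u' * d := Subtype.ext hm
    have hconj : c i1 * q j1 * u0 * (c i1 * q j1)⁻¹ = c i2 * q j2 * u0 * (c i2 * q j2)⁻¹ := by
      have e1 : d * u' * d⁻¹ = u' := by rw [hm', mul_inv_cancel_right]
      calc c i1 * q j1 * u0 * (c i1 * q j1)⁻¹ = c i1 * q j1 * h * u' * (c i1 * q j1 * h)⁻¹ := by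
            simp only [u0]; group
        _ = c i1 * q j1 * h * (d * u' * d⁻¹) * (c i1 * q j1 * h)⁻¹ := by rw [e1]
        _ = _ := by simp only [u0, hd0]; group
    have hq : ∀ j, S.pi (q j) = 1 := fun j => S.pi_chi _
    have h1 := congrArg S.pi hconj
    simp only [map_mul, map_inv, hq, mul_one, hc1, hpu, ← rw0_conj] at h1
    have hii : i1 = i2 := Fin.ext ((nodup_of_distinctB hd).getElem_inj_iff.1 (show
      (P.map fun n => keyL (wimg (dec n ++ Classify.wRepW k ++ (dec n).reverse)))[i1.val]'(by simp) =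
        _[i2.val]'(by simp) by simp only [List.getElem_map]; rw [← imgs_rw0, ← imgs_rw0, h1]))
    subst hii
    by_contra hne
    have hjne : j1 ≠ j2 := fun h => hne (by rw [h])
    have hl := List.all_eq_true.1 he _ (List.getElem_mem j1.2)
    simp only [Bool.and_eq_true, List.all_eq_true, Bool.or_eq_true, Bool.not_eq_true', Nat.beq_eq] at hl
    have hl' := hl.2 _ (List.getElem_mem j2.2)
    rcases hl' with hl' | hl'
    · exact hjne (Fin.ext ((nodup_of_distinctB hd').getElem_inj_iff.1 hl'))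
    · have hcm : u0.1 * ((q j2)⁻¹ * q j1).1 * u0.1⁻¹ = ((q j2)⁻¹ * q j1).1 := by
        have e1 : q j1 * u0 * (q j1)⁻¹ = q j2 * u0 * (q j2)⁻¹ := by
          have := congrArg (fun z => (c i1)⁻¹ * z * c i1) hconj
          simpa [mul_assoc] using this
        have e2 : (q j2)⁻¹ * q j1 * u0 = u0 * ((q j2)⁻¹ * q j1) := by
          calc (q j2)⁻¹ * q j1 * u0 = (q j2)⁻¹ * (q j1 * u0 * (q j1)⁻¹) * q j1 := by group
            _ = _ := by rw [e1]; group
        have e3 : u0 * ((q j2)⁻¹ * q j1) * u0⁻¹ = (q j2)⁻¹ * q j1 := by rw [← e2, mul_inv_cancel_right]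
        exact congrArg Subtype.val e3
      have hval : ((q j2)⁻¹ * q j1).1 = χ (⟨E[j2.val], (hElt j2).trans (by norm_num)⟩⁻¹ *
          ⟨E[j1.val], (hElt j1).trans (by norm_num)⟩) := by
        rw [map_mul, map_inv]; rfl
      rw [hval] at hcm
      have h5 := S.conj_lo u0 hcm
      rw [hpu, lo_rw0, lo_mul, lo_inv] at h5
      simp only [lo, Nat.mod_eq_of_lt (hElt j1), Nat.mod_eq_of_lt (hElt j2)] at h5
      rw [← h5, Nat.beq_refl] at hl'
      cases hl'
  have := Nat.card_le_card_of_injective F hF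
  rw [Nat.card_prod, Nat.card_fin, Nat.card_fin] at this
  rw [Subgroup.index]
  omega

end Cfsg.Agent.Co2Type.Local
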