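import Cfsg.Agent.Lib.Co2Type.Local.Base
import Cfsg.Agent.Lib.Co2Type.Local.WeakData
import Cfsg.Agent.Lib.Co2Type.Code.Decode

/-!
Finite facts about the code group for the weak closure: the singular vectors form one orbit, and the elements of
the stabiliser of a singular vector which are trivial on the quotient of its perpendicular space by the plane are
the sixty-four listed ones.
-/

set_option autoImplicit false
set_option maxRecDepth 200000

namespace Cfsg.Agent.Co2Type.Local.WeakCheck

open Code End WeakData

/-- No repetitions. -/
def distinctB : List ℕ → Bool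
  | [] => true
  | a :: l => l.all (fun b => !Nat.beq a b) && distinctB l

theorem nodup_of_distinctB : ∀ {l : List ℕ}, distinctB l = true → l.Nodup
  | [], _ => List.nodup_nil
  | a :: l, h => by
    simp only [distinctB, Bool.and_eq_true, List.all_eq_true, Bool.not_eq_true'] at h
    refine List.nodup_cons.2 ⟨fun ha => ?_, nodup_of_distinctB h.2⟩
    simpa [Nat.beq_refl] using h.1 a ha

theorem getD_inj {α : Type} {l : List α} {d : α} {f : α → ℕ} (h : distinctB (l.map f) = true) {i j : ℕ}
    (hi : i < l.length) (hj : j < l.length) (e : f (l.getD i d) = f (l.getD j d)) : i = j := by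
  rw [List.getD_eq_getElem _ _ hi, List.getD_eq_getElem _ _ hj] at e
  exact (nodup_of_distinctB h).getElem_inj_iff.1
    (show (l.map f)[i]'(by simpa using hi) = (l.map f)[j]'(by simpa using hj) by simpa using e)

/-- The first coordinate. -/
def q0 : Q8 := ⟨1, by norm_num⟩

/-- Inside the plane. -/
def inW4 (v : ℕ) : Bool := Nat.beq (Nat.land (v % 256) 232) 0

/-- The sixteen vectors of the plane. -/
def w4 : List ℕ := [0, 1, 2, 3, 4, 5, 6, 7, 16, 17, 18, 19, 20, 21, 22, 23]

/-- The images under a word. -/
noncomputable def wimg (w : List (Fin 15)) : List ℕ := (cw w).2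

/-- The action of a word on vectors. -/
noncomputable def wap (w : List (Fin 15)) (v : ℕ) : ℕ := appL (wimg w) v % 256

/-- The image of the first coordinate under the code of a word. -/
noncomputable def wq0 (w : List (Fin 15)) : ℕ := (cw (w ++ 0 :: w.reverse)).1

/-- A number for a list of images. -/
def keyL (l : List ℕ) : ℕ := l.foldr (fun g r => g + 512 * r) 0

/-- The signature on the quotient of the perpendicular space. -/
noncomputable def sig (w : List (Fin 15)) : ℕ :=
  keyL ([1, 2, 4, 8, 16, 32, 64].map fun e => Nat.land (wap w e) 232)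

/-- The words of the stabiliser used. -/
noncomputable def stabW (i : ℕ) : List (Fin 15) := dec ((stabL ++ radL).getD i 1)

/-- The radical words. -/
noncomputable def radW (i : ℕ) : List (Fin 15) := dec (radL.getD i 1)

/-- A product of conjugates of a radical word. -/
noncomputable def badW (i : ℕ) (l : List ℕ) : List (Fin 15) :=
  l.flatMap fun h => stabW h ++ radW i ++ (stabW h).reverse

theorem len_ok : stabL.length = 168 ∧ radL.length = 64 ∧ orbL.length = 270 ∧ (stabL ++ radL).length = 232 := by
  decide +kernel

theorem stab_fix : ((List.range 232).all fun i => Nat.beq (wq0 (stabW i)) 1) = true := by decide +kernel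

theorem stab_plane : (stabL.all fun n => w4.all fun v => inW4 (wap (dec n) v)) = true := by decide +kernel

theorem stab_sig : distinctB (stabL.map fun n => sig (dec n)) = true := by decide +kernel

theorem orb_distinct : distinctB ((List.range 135).map fun i => (orbL.getD (2 * i) (0, 1)).1 % 256) = true := by
  decide +kernel

theorem orb_ok : (orbL.all fun p => Nat.beq (wq0 (dec p.2)) p.1) = true := by decide +kernel

theorem orb_complete : ((List.range 512).all fun v => !Nat.beq (qmulN v v) 0 || Nat.beq (v % 256) 0 ||
    orbL.any fun p => Nat.beq p.1 v) = true := by decide +kernel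

theorem rad_ok : (radL.all fun n => (List.range 128).all fun v => inW4 (wap (dec n) v ^^^ v)) = true := by
  decide +kernel

theorem rad_distinct : distinctB (radL.map fun n => keyL (wimg (dec n))) = true := by decide +kernel

theorem rad_small : (radL.filter fun n =>
    (List.range 128).all fun v => Nat.ble (wap (dec n) v ^^^ v) 1).length ≤ 63 := by decide +kernel

theorem outside_plane : ((List.range 128).all fun v => inW4 v || !Nat.beq (qmulN v v) 0 ||
    ((List.range 232).any fun i =>
      !Nat.beq (qmulN v (wap (stabW i) v)) (qmulN (wap (stabW i) v) v)) || pairL.any fun p =>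
      Nat.blt p.1 232 && Nat.blt p.2 232 && !Nat.beq (qmulN (wap (stabW p.1) v) (wap (stabW p.2) v))
        (qmulN (wap (stabW p.2) v) (wap (stabW p.1) v))) = true := by decide +kernel

theorem inside_plane : (w4.all fun v => Nat.ble v 1 || w4.all fun x => Nat.ble x 1 ||
    (List.range 232).any fun i => Nat.beq (wap (stabW i) v) x || Nat.beq (wap (stabW i) v) (x ^^^ 1)) = true := by
  decide +kernel

theorem bad_ok : ((List.range 64).all fun i => (w4.all fun x => Nat.beq (wap (radW i) x) x) ||
    badL.any fun p => Nat.beq p.1 i && Nat.beq p.2.length 9 && p.2.all (fun l => l.all fun h => Nat.blt h 232) &&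
      distinctB (p.2.map fun l => keyL (wimg (badW i l)))) = true := by
  decide +kernel

theorem conv_ok : ∀ k : Fin 5, k ≠ 0 →
    (Nat.ble 271 ((convL.getD k.val []).length * (coorL.getD k.val []).length) &&
      distinctB ((convL.getD k.val []).map fun n =>
        keyL (wimg (dec n ++ Classify.wRepW k ++ (dec n).reverse))) &&
      distinctB (coorL.getD k.val []) &&
      (coorL.getD k.val []).all fun e => Nat.blt e 256 && (coorL.getD k.val []).all fun e' => Nat.beq e e' ||
        !Nat.beq (wap (Classify.wRepW k) (e' ^^^ e)) (e' ^^^ e)) = true := by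
  decide +kernel

theorem comm_q0 : ∀ v < 512, (qmulN v 1 = qmulN 1 v ↔ v % 256 < 128) := by decide +kernel

theorem perp_q0 : ∀ v < 512, (∀ e ∈ [1, 2, 4, 8, 16, 32, 64], qmulN v e = qmulN e v) → v % 256 ≤ 1 := by
  decide +kernel

theorem w4_mem : ∀ v < 256, (inW4 v = true ↔ v ∈ w4) := by decide +kernel

end Cfsg.Agent.Co2Type.Local.WeakCheck
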