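import Cfsg.Agent.Lib.Co2Type.Local.WeakCheck

/-!
The checks read in the code group.
-/

set_option autoImplicit false
set_option maxRecDepth 20000

namespace Cfsg.Agent.Co2Type.Local.WeakCheck

open Code End WeakData

/-- The automorphism of a word. -/
noncomputable def rw0 (w : List (Fin 15)) : ↥W := (el w).right

theorem imgs_rw0 (w : List (Fin 15)) : imgs (rw0 w : MulAut Q8) = wimg w := by
  show (code (el w)).2 = _
  rw [code_el, wimg, cw_eq]

theorem lo_rw0 (w : List (Fin 15)) (a : Q8) : lo ((rw0 w : MulAut Q8) a) = wap w (lo a) := by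
  have h : lo a < 512 := (lo_lt a).trans (by norm_num)
  rw [lo_congr (rw0 w : MulAut Q8) (show lo a = lo ⟨lo a, h⟩ from (Nat.mod_mod _ _).symm), lo, apply_eq, imgs_rw0,
    wap]

theorem rw0_append (v w : List (Fin 15)) : rw0 (v ++ w) = rw0 v * rw0 w := by
  rw [rw0, el_append]; rfl

theorem rw0_reverse (w : List (Fin 15)) : rw0 w.reverse = (rw0 w)⁻¹ := by
  rw [rw0, ← el_reverse]; rfl

theorem rw0_conj (v w : List (Fin 15)) : rw0 (v ++ w ++ v.reverse) = rw0 v * rw0 w * (rw0 v)⁻¹ := by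
  rw [rw0_append, rw0_append, rw0_reverse]

theorem el_zero : el [0] = SemidirectProduct.inl q0 := by
  rw [el, List.map_singleton, List.prod_singleton, genC, dif_pos (by decide)]
  rfl

theorem conjQ_q0 (w : List (Fin 15)) : (conjQ (el w) q0).n = wq0 w := by
  have h : (SemidirectProduct.inl (conjQ (el w) q0) : C0) = el (w ++ 0 :: w.reverse) := by
    rw [conjQ_spec, ← el_zero, el_conj, List.append_assoc]; rfl
  have h2 := congrArg (fun x => (code x).1) h
  simp only [code_el, ← cw_eq] at h2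
  exact h2

theorem stab_spec {i : ℕ} (hi : i < 232) : conjQ (el (stabW i)) q0 = q0 :=
  Q8.ext ((conjQ_q0 _).trans (Nat.eq_of_beq_eq_true (List.all_eq_true.1 stab_fix i (List.mem_range.2 hi))))

theorem lo_stab {i : ℕ} (hi : i < 232) : lo ((rw0 (stabW i) : MulAut Q8) q0) = 1 := by
  rw [rw0, ← conjQ_lo, stab_spec hi]; rfl

theorem orbit_spec {p : ℕ × ℕ} (hp : p ∈ orbL) : (conjQ (el (dec p.2)) q0).n = p.1 :=
  (conjQ_q0 _).trans (Nat.eq_of_beq_eq_true (List.all_eq_true.1 orb_ok p hp))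

theorem land_xor (a b : ℕ) : Nat.land (a ^^^ b) 232 = Nat.land a 232 ^^^ Nat.land b 232 :=
  Nat.eq_of_testBit_eq fun i => by
    show ((a ^^^ b) &&& 232).testBit i = ((a &&& 232) ^^^ (b &&& 232)).testBit i
    simp only [Nat.testBit_and, Nat.testBit_xor]
    cases a.testBit i <;> cases b.testBit i <;> cases (232 : ℕ).testBit i <;> rfl

theorem xor_cancel (a b : ℕ) : a ^^^ (a ^^^ b) = b := by rw [← Nat.xor_assoc, Nat.xor_self, Nat.zero_xor]

/-- Trivial on the quotient of the perpendicular space by the plane. -/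
def Rad (w : ↥W) : Prop :=
  lo ((w : MulAut Q8) q0) = 1 ∧ ∀ a : Q8, lo a < 128 → inW4 (lo ((w : MulAut Q8) a) ^^^ lo a) = true

theorem plane_stab {n : ℕ} (hn : n ∈ stabL) {a : Q8} (ha : inW4 (lo a) = true) :
    inW4 (lo ((rw0 (dec n) : MulAut Q8) a)) = true := by
  rw [lo_rw0]
  exact List.all_eq_true.1 (List.all_eq_true.1 stab_plane n hn) (lo a) ((w4_mem _ (lo_lt a)).1 ha)

theorem inW4_iff {v : ℕ} (hv : v < 256) : inW4 v = true ↔ Nat.land v 232 = 0 := by
  rw [inW4, Nat.beq_eq, Nat.mod_eq_of_lt hv]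

theorem radW_mem {i : ℕ} (hi : i < 64) : radL.getD i 1 ∈ radL := by
  rw [List.getD_eq_getElem _ _ (len_ok.2.1.symm ▸ hi)]
  exact List.getElem_mem _

theorem stabW_left {i : ℕ} (hi : i < 168) : stabW i = dec (stabL.getD i 1) := by
  rw [stabW, List.getD_append _ _ _ _ (len_ok.1.symm ▸ hi)]

theorem stabW_rad {i : ℕ} (hi : i < 64) : stabW (168 + i) = radW i := by
  rw [stabW, List.getD_append_right _ _ _ _ (by rw [len_ok.1]; omega), radW, len_ok.1,
    show 168 + i - 168 = i by omega]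

theorem rad_radW {i : ℕ} (hi : i < 64) : Rad (rw0 (radW i)) := by
  refine ⟨?_, fun a ha => ?_⟩
  · have h := lo_stab (i := 168 + i) (by omega)
    rwa [stabW_rad hi] at h
  · rw [lo_rw0]
    exact List.all_eq_true.1 (List.all_eq_true.1 rad_ok _ (radW_mem hi)) _ (List.mem_range.2 ha)

theorem radW_inj {i j : ℕ} (hi : i < 64) (hj : j < 64) (h : rw0 (radW i) = rw0 (radW j)) : i = j :=
  getD_inj (d := 1) rad_distinct (len_ok.2.1.symm ▸ hi) (len_ok.2.1.symm ▸ hj)
    (by show keyL (wimg (radW i)) = keyL (wimg (radW j)); rw [← imgs_rw0, ← imgs_rw0, h])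

/-- The elements trivial on that quotient are the listed ones. -/
theorem rad_iff {w : ↥W} (h : Rad w) : ∃ i, i < 64 ∧ w = rw0 (radW i) := by
  classical
  haveI := finite_W
  let Y := {w : ↥W // Rad w}
  let o : Fin 135 → ↥W := fun k => rw0 (dec (orbL.getD (2 * k.val) (0, 1)).2)
  let p : Fin 168 → ↥W := fun j => rw0 (stabW j.val)
  have ho : ∀ (k : Fin 135) (u : ↥W), lo ((u : MulAut Q8) q0) = 1 →
      lo (((o k * u : ↥W) : MulAut Q8) q0) = (orbL.getD (2 * k.val) (0, 1)).1 % 256 := fun k u hu => by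
    rw [Subgroup.coe_mul, MulAut.mul_apply, lo_congr _ (show lo ((u : MulAut Q8) q0) = lo q0 from hu)]
    show lo (((el _).right : MulAut Q8) q0) = _
    rw [← conjQ_lo, lo, orbit_spec]
    rw [List.getD_eq_getElem _ _ (by rw [len_ok.2.2.1]; omega)]
    exact List.getElem_mem _
  have hp : ∀ (j : Fin 168) (y : Y), lo (((p j * y.1 : ↥W) : MulAut Q8) q0) = 1 := fun j y => by
    rw [Subgroup.coe_mul, MulAut.mul_apply, lo_congr _ (show lo ((y.1 : MulAut Q8) q0) = lo q0 from y.2.1)]
    exact lo_stab (by omega)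
  have hsig : ∀ (j : Fin 168) (y : Y), ∀ e ∈ [1, 2, 4, 8, 16, 32, 64],
      Nat.land (lo (((p j * y.1 : ↥W) : MulAut Q8) ⟨e % 512, Nat.mod_lt _ (by norm_num)⟩)) 232 =
        Nat.land (wap (stabW j.val) e) 232 := fun j y e he => by
    have he1 : e < 128 := (by decide : ∀ e ∈ [1, 2, 4, 8, 16, 32, 64], e < 128) e he
    set a : Q8 := ⟨e % 512, Nat.mod_lt _ (by norm_num)⟩
    have hla : lo a = e := by show e % 512 % 256 = e; omega
    set b : Q8 := a * (y.1 : MulAut Q8) a
    have hb : inW4 (lo b) = true := by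
      rw [lo_mul, Nat.xor_comm]; exact y.2.2 a (by omega)
    have hab : lo ((y.1 : MulAut Q8) a) = lo (a * b) := by rw [lo_mul, lo_mul, xor_cancel]
    have hn : stabL.getD j.val 1 ∈ stabL := by
      rw [List.getD_eq_getElem _ _ (len_ok.1.symm ▸ j.2)]; exact List.getElem_mem _
    have h0 := plane_stab hn hb
    rw [← stabW_left j.2] at h0
    rw [Subgroup.coe_mul, MulAut.mul_apply, lo_congr _ hab, map_mul, lo_mul, land_xor,
      (inW4_iff (lo_lt _)).1 h0, Nat.xor_zero, lo_rw0, hla]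
  let Φ : Fin 135 × Fin 168 × Y → ↥W := fun q => o q.1 * (p q.2.1 * q.2.2.1)
  have hΦ : Function.Injective Φ := by
    rintro ⟨k, j, y⟩ ⟨k', j', y'⟩ e
    simp only [Φ] at e
    have hk : k = k' := Fin.ext ((nodup_of_distinctB orb_distinct).getElem_inj_iff.1
      (show ((List.range 135).map fun i => (orbL.getD (2 * i) (0, 1)).1 % 256)[k.val]'(by simp) = _[k'.val]'(by simp) by
        simp only [List.getElem_map, List.getElem_range]
        rw [← ho k _ (hp j y), ← ho k' _ (hp j' y'), e]))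
    subst hk
    have e' := mul_left_cancel e
    have hj : j = j' := Fin.ext (getD_inj (d := 1) stab_sig (len_ok.1.symm ▸ j.2) (len_ok.1.symm ▸ j'.2) (by
      rw [sig, sig, ← stabW_left j.2, ← stabW_left j'.2]
      refine congrArg keyL (List.map_congr_left fun a ha => ?_)
      rw [← hsig j y a ha, ← hsig j' y' a ha, e']))
    subst hj
    exact Prod.ext rfl (Prod.ext rfl (Subtype.ext (mul_left_cancel e')))
  have hc := Nat.card_le_card_of_injective Φ hΦ
  rw [card_W, Nat.card_prod, Nat.card_prod, Nat.card_fin, Nat.card_fin] at hc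
  let ι : Fin 64 → Y := fun i => ⟨rw0 (radW i.val), rad_radW i.2⟩
  have hι : Function.Injective ι := fun i j e => Fin.ext (radW_inj i.2 j.2 (congrArg Subtype.val e))
  have hb := hι.bijective_of_nat_card_le (by rw [Nat.card_fin]; omega)
  obtain ⟨i, hi⟩ := hb.2 ⟨w, h⟩
  exact ⟨i.val, i.2, (congrArg Subtype.val hi).symm⟩

/-- Every noncentral involution is listed. -/
theorem orbit_cases {v : Q8} (hv : v * v = 1) (h0 : lo v ≠ 0) : ∃ p ∈ orbL, conjQ (el (dec p.2)) q0 = v := by
  have h := List.all_eq_true.1 orb_complete v.n (List.mem_range.2 v.lt)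
  have h2 : qmulN v.n v.n = 0 := congrArg Q8.n hv
  simp only [Bool.or_eq_true, Bool.not_eq_true', Nat.beq_eq, h2, List.any_eq_true] at h
  rcases h with (h | h) | ⟨p, hp, e⟩
  · simp at h
  · exact absurd h h0
  · exact ⟨p, hp, Q8.ext ((orbit_spec hp).trans e)⟩

end Cfsg.Agent.Co2Type.Local.WeakCheck
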